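import Cfsg.Prelude.Def_LieExceptional

/-!
# The Suzuki groups: standard elements and their action on the ovoid
-/

set_option autoImplicit false
set_option linter.unusedSectionVars false

namespace CfsgLib.Suzuki

open Matrix
open scoped Pointwise

variable {F : Type*} [Field F] [CharP F 2] {m : ℕ}

variable (F m) in
/-- The automorphism `σ : x ↦ x^(2^(m+1))`. -/
def sg : F →+* F := iterateFrobenius F 2 (m + 1)

theorem sg_def (x : F) : sg F m x = x ^ 2 ^ (m + 1) := iterateFrobenius_def ..

theorem two_eq_zero : (2 : F) = 0 := CharTwo.two_eq_zero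

theorem sg_injective : Function.Injective (sg F m) := (sg F m).injective

section Finite

variable [Fintype F] (hF : Fintype.card F = 2 ^ (2 * m + 1))

include hF in
theorem sg_sg (x : F) : sg F m (sg F m x) = x ^ 2 := by
  rw [sg_def, sg_def, ← pow_mul, ← pow_add, show m + 1 + (m + 1) = (2 * m + 1) + 1 by ring,
    pow_succ, pow_mul, ← hF, FiniteField.pow_card]

include hF in
theorem sg_surjective : Function.Surjective (sg F m) :=
  Finite.surjective_of_injective (sg_injective (F := F) (m := m))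

include hF in
theorem sg_fix {x : F} (h : sg F m x = x) : x = 0 ∨ x = 1 := by
  have h2 := sg_sg hF x
  rw [h, h] at h2
  have h3 : x * (x - 1) = 0 := by linear_combination -h2
  exact (mul_eq_zero.1 h3).imp_right sub_eq_zero.1

include hF in
theorem eq_one_of_sg_mul_self {x : F} (h : sg F m x * x = 1) : x = 1 := by
  have hx : x ≠ 0 := fun h0 => by simp [h0] at h
  have h1 : sg F m x = x⁻¹ := eq_inv_of_mul_eq_one_left h
  have h2 := sg_sg hF x
  rw [h1, map_inv₀, h1, inv_inv] at h2
  have h3 : x * (x - 1) = 0 := by linear_combination -h2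
  exact sub_eq_zero.1 ((mul_eq_zero.1 h3).resolve_left hx)

end Finite

/-! ### The points -/

variable (m) in
/-- The function defining the ovoid. -/
def ov (x y : F) : F := x * y + sg F m x * x ^ 2 + sg F m y

theorem ov_eq (x y : F) : ov m x y = x * y + x ^ (2 ^ (m + 1) + 2) + y ^ (2 ^ (m + 1)) := by
  rw [ov, sg_def, sg_def, pow_add x]

variable (m) in
/-- The vector of an affine point of the ovoid. -/
def vec (x y : F) : Fin 4 → F := ![ov m x y, y, x, 1]

theorem vec_ne_zero (x y : F) : vec m x y ≠ 0 := fun h => one_ne_zero (α := F) (congrFun h 3)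

variable (m) in
/-- An affine point of the ovoid. -/
def pt (x y : F) : Projectivization F (Fin 4 → F) := Projectivization.mk F (vec m x y) (vec_ne_zero x y)

theorem pt_zero : pt m (0 : F) 0 = Cfsg.suzukiPointZero F := by
  simp [pt, vec, ov, Cfsg.suzukiPointZero]

theorem pt_injective {x y x' y' : F} (h : pt m x y = pt m x' y') : x = x' ∧ y = y' := by
  obtain ⟨a, ha⟩ := (Projectivization.mk_eq_mk_iff' F _ _ _ _).1 h
  have h3 : a = 1 := by simpa [vec] using congrFun ha 3
  subst h3
  rw [one_smul] at ha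
  exact ⟨(congrFun ha 2).symm, (congrFun ha 1).symm⟩

theorem pt_ne_inf (x y : F) : pt m x y ≠ Cfsg.suzukiPointInfinity F := by
  intro h
  obtain ⟨a, ha⟩ := (Projectivization.mk_eq_mk_iff' F _ _ _ _).1 h
  simpa [vec] using congrFun ha 3

theorem mem_ovoid_iff {p : Projectivization F (Fin 4 → F)} :
    p ∈ Cfsg.suzukiOvoid F m ↔ p = Cfsg.suzukiPointInfinity F ∨ ∃ x y, p = pt m x y := by
  constructor
  · rintro ⟨v, hv, rfl, rfl | ⟨x, y, rfl⟩⟩
    · exact Or.inl rfl
    · exact Or.inr ⟨x, y, by simp only [pt, vec, ov_eq]⟩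
  · rintro (rfl | ⟨x, y, rfl⟩)
    · exact ⟨_, _, rfl, Or.inl rfl⟩
    · exact ⟨_, vec_ne_zero x y, rfl, Or.inr ⟨x, y, by simp only [vec, ov_eq]⟩⟩

theorem inf_mem : Cfsg.suzukiPointInfinity F ∈ Cfsg.suzukiOvoid F m :=
  mem_ovoid_iff.2 (Or.inl rfl)

theorem pt_mem (x y : F) : pt m x y ∈ Cfsg.suzukiOvoid F m := mem_ovoid_iff.2 (Or.inr ⟨x, y, rfl⟩)

theorem smul_mk_eq (g : SpecialLinearGroup (Fin 4) F) {v : Fin 4 → F} (hv : v ≠ 0)
    {w : Fin 4 → F} (hw : w ≠ 0) (c : F) (h : (g : Matrix (Fin 4) (Fin 4) F) *ᵥ v = c • w) :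
    g • Projectivization.mk F v hv = Projectivization.mk F w hw :=
  (Projectivization.mk_eq_mk_iff' F _ _ ((smul_ne_zero_iff_ne g).mpr hv) hw).2 ⟨c, h.symm⟩

theorem smul_eq_mk_imp (g : SpecialLinearGroup (Fin 4) F) {v : Fin 4 → F} (hv : v ≠ 0)
    {w : Fin 4 → F} (hw : w ≠ 0) (h : g • Projectivization.mk F v hv = Projectivization.mk F w hw) :
    ∃ c : F, c ≠ 0 ∧ (g : Matrix (Fin 4) (Fin 4) F) *ᵥ v = c • w := by
  obtain ⟨c, hc⟩ := (Projectivization.mk_eq_mk_iff' F _ _ ((smul_ne_zero_iff_ne g).mpr hv) hw).1 h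
  refine ⟨c, fun h0 => ?_, hc.symm⟩
  rw [h0, zero_smul] at hc
  exact (smul_ne_zero_iff_ne g).mpr hv hc.symm

/-! ### Translations, torus, inversion -/

variable (m) in
/-- The matrix of the translation with parameters `a`, `b`. -/
def trMat (a b : F) : Matrix (Fin 4) (Fin 4) F :=
  !![1, a, b + a * sg F m a, ov m a b; 0, 1, sg F m a, b; 0, 0, 1, a; 0, 0, 0, 1]

theorem det_trMat (a b : F) : (trMat m a b).det = 1 := by
  simp [trMat, det_succ_row_zero, Fin.sum_univ_succ, Fin.succAbove]

variable (m) in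
/-- The translation with parameters `a`, `b`. -/
def tr (a b : F) : SpecialLinearGroup (Fin 4) F := ⟨trMat m a b, det_trMat a b⟩

theorem coe_tr (a b : F) : ((tr m a b : SpecialLinearGroup (Fin 4) F) : Matrix (Fin 4) (Fin 4) F) =
    trMat m a b := rfl

variable (m) in
/-- The parameter of the torus scaling the coordinate `x`. -/
def htMat (t : Fˣ) : Matrix (Fin 4) (Fin 4) F :=
  diagonal ![sg F m t * t, (t : F), ((t⁻¹ : Fˣ) : F), (sg F m t * t)⁻¹]

theorem det_htMat (t : Fˣ) : (htMat m t).det = 1 := by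
  have h : sg F m (t : F) * t ≠ 0 := mul_ne_zero ((map_ne_zero (sg F m)).2 t.ne_zero) t.ne_zero
  rw [htMat, det_diagonal, Fin.prod_univ_four]
  simp only [cons_val_zero, cons_val_one, cons_val_two, cons_val_three, head_cons, tail_cons,
    Units.val_inv_eq_inv_val]
  field_simp

variable (m) in
/-- The torus element with parameter `t`. -/
def ht (t : Fˣ) : SpecialLinearGroup (Fin 4) F := ⟨htMat m t, det_htMat t⟩

variable (F) in
/-- The inversion. -/
def ww : SpecialLinearGroup (Fin 4) F :=
  ⟨Cfsg.suzukiForm F, by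
    simp [Cfsg.suzukiForm, det_succ_row_zero, Fin.sum_univ_succ, Fin.succAbove, CharTwo.neg_eq]⟩

theorem coe_ww : ((ww F : SpecialLinearGroup (Fin 4) F) : Matrix (Fin 4) (Fin 4) F) =
    !![0, 0, 0, 1; 0, 0, 1, 0; 0, 1, 0, 0; 1, 0, 0, 0] := rfl

variable [Fintype F] (hF : Fintype.card F = 2 ^ (2 * m + 1))

include hF in
theorem tr_mul_tr (a b c d : F) :
    tr m a b * tr m c d = tr m (a + c) (b + d + sg F m a * c) := by
  have h2 : (2 : F) = 0 := two_eq_zero
  refine Matrix.SpecialLinearGroup.ext _ _ fun i j => ?_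
  show (trMat m a b * trMat m c d) i j = trMat m (a + c) (b + d + sg F m a * c) i j
  fin_cases i <;> fin_cases j <;>
    simp [trMat, mul_apply, Fin.sum_univ_four, ov, map_add, map_mul, sg_sg hF]
  · ring
  · linear_combination (-(sg F m a * c)) * h2
  · linear_combination (-(sg F m a * a * c) - sg F m c * c * a - a ^ 2 * sg F m c - c ^ 2 * sg F m a -
      a ^ 2 * sg F m a * 0) * h2
  · ring
  · ring
  · ring

theorem tr_zero : tr m (0 : F) 0 = 1 := by
  refine Matrix.SpecialLinearGroup.ext _ _ fun i j => ?_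
  show trMat m 0 0 i j = (1 : Matrix (Fin 4) (Fin 4) F) i j
  fin_cases i <;> fin_cases j <;> simp [trMat, ov]

theorem tr_injective {a b c d : F} (h : tr m a b = tr m c d) : a = c ∧ b = d := by
  have h' := congrArg (fun g : SpecialLinearGroup (Fin 4) F => (g : Matrix (Fin 4) (Fin 4) F)) h
  simp only [coe_tr] at h'
  exact ⟨by simpa [trMat] using congrFun (congrFun h' 2) 3,
    by simpa [trMat] using congrFun (congrFun h' 1) 3⟩

theorem ht_mul (s t : Fˣ) : ht m (s * t) = ht m s * ht m t := by
  refine Subtype.ext ?_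
  show htMat m (s * t) = htMat m s * htMat m t
  rw [htMat, htMat, htMat, diagonal_mul_diagonal]
  congr 1
  funext i
  fin_cases i <;> simp [map_mul] <;> ring

theorem ht_one : ht m (1 : Fˣ) = 1 := by
  have h := ht_mul (F := F) (m := m) 1 1
  rwa [one_mul, left_eq_mul] at h

theorem ht_injective : Function.Injective (ht m (F := F)) := fun s t h => Units.ext (by
  have h0 : htMat m s = htMat m t := congrArg Subtype.val h
  have h' := congrFun (congrFun h0 1) 1
  simpa [htMat] using h')

/-- The torus as a homomorphism. -/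
def htHom : Fˣ →* SpecialLinearGroup (Fin 4) F where
  toFun := ht m
  map_one' := ht_one
  map_mul' := ht_mul

theorem ww_mul_ww : ww F * ww F = 1 := by
  refine Matrix.SpecialLinearGroup.ext _ _ fun i j => ?_
  show (Cfsg.suzukiForm F * Cfsg.suzukiForm F) i j = (1 : Matrix (Fin 4) (Fin 4) F) i j
  fin_cases i <;> fin_cases j <;> simp [Cfsg.suzukiForm, mul_apply, Fin.sum_univ_four]

/-! ### The action on the ovoid -/

theorem tr_smul_inf (a b : F) :
    tr m a b • Cfsg.suzukiPointInfinity F = Cfsg.suzukiPointInfinity F := by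
  refine smul_mk_eq _ _ _ 1 ?_
  rw [coe_tr, one_smul]
  funext i
  fin_cases i <;> simp [trMat, mulVec, dotProduct, Fin.sum_univ_four]

include hF in
theorem tr_smul_pt (a b x y : F) : tr m a b • pt m x y = pt m (a + x) (b + y + sg F m a * x) := by
  have h2 : (2 : F) = 0 := two_eq_zero
  refine smul_mk_eq _ _ _ 1 ?_
  rw [coe_tr, one_smul]
  funext i
  fin_cases i <;> simp [trMat, vec, mulVec, dotProduct, Fin.sum_univ_four, ov, map_add, map_mul, sg_sg hF]
  · linear_combination (-(sg F m a * a * x) - sg F m x * x * a - a ^ 2 * sg F m x -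
      x ^ 2 * sg F m a) * h2
  · ring
  · ring

theorem ht_smul_inf (t : Fˣ) :
    ht m t • Cfsg.suzukiPointInfinity F = Cfsg.suzukiPointInfinity F := by
  refine smul_mk_eq _ _ _ (sg F m t * t) ?_
  show htMat m t *ᵥ _ = _
  funext i
  rw [htMat, mulVec_diagonal]
  fin_cases i <;> simp

include hF in
theorem ht_smul_pt (t : Fˣ) (x y : F) :
    ht m t • pt m x y = pt m (sg F m t * x) (sg F m t * (t : F) ^ 2 * y) := by
  have ht0 : (t : F) ≠ 0 := t.ne_zero
  have hs : sg F m (t : F) ≠ 0 := (map_ne_zero (sg F m)).2 ht0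
  refine smul_mk_eq _ _ _ (sg F m t * t)⁻¹ ?_
  show htMat m t *ᵥ _ = _
  funext i
  rw [htMat, mulVec_diagonal]
  fin_cases i <;> simp [vec, ov, map_mul, map_pow, sg_sg hF] <;> field_simp

theorem ww_smul_inf : ww F • Cfsg.suzukiPointInfinity F = pt m (0 : F) 0 := by
  refine smul_mk_eq _ _ _ 1 ?_
  rw [coe_ww, one_smul]
  funext i
  fin_cases i <;> simp [vec, ov, mulVec, dotProduct, Fin.sum_univ_four]

theorem ww_smul_zero : ww F • pt m (0 : F) 0 = Cfsg.suzukiPointInfinity F := by
  rw [← ww_smul_inf (m := m), smul_smul, ww_mul_ww, one_smul]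

include hF in
theorem ov_ne_zero {x y : F} (h : ¬(x = 0 ∧ y = 0)) : ov m x y ≠ 0 := by
  intro h0
  rcases eq_or_ne x 0 with rfl | hx
  · exact h ⟨rfl, (map_eq_zero (sg F m)).1 (by simpa [ov] using h0)⟩
  · have hsx : sg F m x ≠ 0 := (map_ne_zero (sg F m)).2 hx
    set u := y / (sg F m x * x) with hu
    have hy : y = u * (sg F m x * x) := by rw [hu]; field_simp
    have h2 : (2 : F) = 0 := two_eq_zero
    have h1 : u + 1 + sg F m u = 0 := by
      have : (sg F m x * x ^ 2) * (u + 1 + sg F m u) = 0 := by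
        rw [hy, ov, map_mul, map_mul, sg_sg hF] at h0
        linear_combination h0
      exact (mul_eq_zero.1 this).resolve_left (mul_ne_zero hsx (pow_ne_zero _ hx))
    have h3 : sg F m u + 1 + u ^ 2 = 0 := by
      have := congrArg (sg F m) h1
      rwa [map_add, map_add, map_one, map_zero, sg_sg hF] at this
    have h4 : u * (u - 1) = 0 := by linear_combination h3 - h1
    rcases mul_eq_zero.1 h4 with h5 | h5
    · rw [h5, map_zero] at h1
      simp at h1
    · rw [sub_eq_zero.1 h5, map_one] at h1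
      exact one_ne_zero (α := F) (by linear_combination h1 - h2)

include hF in
theorem ww_smul_pt {x y : F} (h : ¬(x = 0 ∧ y = 0)) :
    ww F • pt m x y = pt m (y / ov m x y) (x / ov m x y) := by
  have hz := ov_ne_zero hF h
  have hsz : sg F m (ov m x y) ≠ 0 := (map_ne_zero (sg F m)).2 hz
  have h2 : (2 : F) = 0 := two_eq_zero
  have key : ov m (y / ov m x y) (x / ov m x y) * ov m x y = 1 := by
    have e : sg F m (ov m x y) = sg F m x * sg F m y + x ^ 2 * (sg F m x) ^ 2 + y ^ 2 := by
      simp [ov, map_add, map_mul, map_pow, sg_sg hF]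
    have e2 : (x * y * sg F m (ov m x y) + sg F m y * y ^ 2 + sg F m x * (ov m x y) ^ 2) =
        sg F m (ov m x y) * ov m x y := by
      rw [e]
      simp only [ov]
      linear_combination (x * y * sg F m x * sg F m y + x ^ 3 * y * sg F m x ^ 2) * h2
    have e3 : ov m (y / ov m x y) (x / ov m x y) * (sg F m (ov m x y) * (ov m x y) ^ 2) =
        sg F m (ov m x y) * ov m x y := by
      rw [← e2]
      rw [show ov m (y / ov m x y) (x / ov m x y) = y / ov m x y * (x / ov m x y) +
        sg F m (y / ov m x y) * (y / ov m x y) ^ 2 + sg F m (x / ov m x y) from rfl, map_div₀, map_div₀]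
      field_simp
    exact mul_left_cancel₀ (mul_ne_zero hsz hz) (by linear_combination e3)
  refine smul_mk_eq _ _ _ (ov m x y) ?_
  rw [coe_ww]
  funext i
  fin_cases i <;> simp [vec, mulVec, dotProduct, Fin.sum_univ_four]
  · linear_combination -key
  · field_simp
  · field_simp

end CfsgLib.Suzuki
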