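import Mathlib
import Cfsg.Agent.Lib.Suzuki.Basic

/-!
# The Suzuki group as the stabilizer of the ovoid: orders and stabilizers
-/

set_option autoImplicit false
set_option linter.unusedSectionVars false

namespace CfsgLib.Suzuki

open Matrix Polynomial
open scoped Pointwise

variable {F : Type*} [Field F] [Fintype F] [CharP F 2] {m : ℕ}
  (hm : 1 ≤ m) (hF : Fintype.card F = 2 ^ (2 * m + 1))

theorem mem_Sz_of_mapsTo {g : SpecialLinearGroup (Fin 4) F}
    (h : ∀ p ∈ Cfsg.suzukiOvoid F m, g • p ∈ Cfsg.suzukiOvoid F m) : g ∈ Cfsg.Sz F m := by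
  have : Finite (Projectivization F (Fin 4 → F)) := Finite.of_surjective
    (fun v : {v : Fin 4 → F // v ≠ 0} => Projectivization.mk F v.1 v.2)
    fun p => ⟨⟨p.rep, p.rep_nonzero⟩, p.mk_rep⟩
  refine MulAction.mem_stabilizer_iff.2 (Set.eq_of_subset_of_ncard_le ?_ ?_ (Set.toFinite _))
  · rintro _ ⟨p, hp, rfl⟩
    exact h p hp
  · rw [← Set.image_smul, Set.ncard_image_of_injective _ (MulAction.injective g)]

theorem smul_mem {g : SpecialLinearGroup (Fin 4) F} (hg : g ∈ Cfsg.Sz F m)
    {p : Projectivization F (Fin 4 → F)} (hp : p ∈ Cfsg.suzukiOvoid F m) :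
    g • p ∈ Cfsg.suzukiOvoid F m := by
  have := MulAction.mem_stabilizer_iff.1 hg
  rw [← this]
  exact ⟨p, hp, rfl⟩

include hF in
theorem tr_mem (a b : F) : tr m a b ∈ Cfsg.Sz F m := by
  refine mem_Sz_of_mapsTo fun p hp => ?_
  rcases mem_ovoid_iff.1 hp with rfl | ⟨x, y, rfl⟩
  · rw [tr_smul_inf]; exact inf_mem
  · rw [tr_smul_pt hF]; exact pt_mem _ _

include hF in
theorem ht_mem (t : Fˣ) : ht m t ∈ Cfsg.Sz F m := by
  refine mem_Sz_of_mapsTo fun p hp => ?_
  rcases mem_ovoid_iff.1 hp with rfl | ⟨x, y, rfl⟩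
  · rw [ht_smul_inf]; exact inf_mem
  · rw [ht_smul_pt hF]; exact pt_mem _ _

include hF in
theorem ww_mem : ww F ∈ Cfsg.Sz F m := by
  refine mem_Sz_of_mapsTo fun p hp => ?_
  rcases mem_ovoid_iff.1 hp with rfl | ⟨x, y, rfl⟩
  · rw [ww_smul_inf (m := m)]; exact pt_mem _ _
  · by_cases h : x = 0 ∧ y = 0
    · rw [h.1, h.2, ww_smul_zero]; exact inf_mem
    · rw [ww_smul_pt hF h]; exact pt_mem _ _

include hm in
theorem sigma_bounds : 4 ≤ 2 ^ (m + 1) ∧ 2 ^ (m + 1) + 2 < 2 ^ (2 * m + 1) := by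
  have h2 : 2 ≤ 2 ^ m := by
    calc 2 = 2 ^ 1 := rfl
      _ ≤ 2 ^ m := Nat.pow_le_pow_right (by norm_num) hm
  have e1 : 2 ^ (m + 1) = 2 * 2 ^ m := by ring
  have e2 : 2 ^ (2 * m + 1) = 2 * (2 ^ m * 2 ^ m) := by ring
  have e3 : 2 * 2 ^ m ≤ 2 ^ m * 2 ^ m := Nat.mul_le_mul_right _ h2
  omega

include hm hF in
/-- The functions `x²`, `σ x · x²` and `σ x` are linearly independent. -/
theorem coeff_eq_zero {c1 c2 c3 : F}
    (h : ∀ x : F, c1 * x ^ 2 + c2 * (sg F m x * x ^ 2) + c3 * sg F m x = 0) :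
    c1 = 0 ∧ c2 = 0 ∧ c3 = 0 := by
  obtain ⟨hb1, hb2⟩ := sigma_bounds hm
  set r := 2 ^ (m + 1) with hr
  set P : F[X] := C c1 * X ^ 2 + C c2 * X ^ (r + 2) + C c3 * X ^ r with hP
  have hdeg : P.natDegree ≤ r + 2 :=
    natDegree_add_le_of_degree_le (natDegree_add_le_of_degree_le
      ((natDegree_C_mul_X_pow_le _ _).trans (by omega)) (natDegree_C_mul_X_pow_le _ _))
      ((natDegree_C_mul_X_pow_le _ _).trans (by omega))
  have h0 : P = 0 := by
    refine Polynomial.eq_zero_of_natDegree_lt_card_of_eval_eq_zero P Function.injective_id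
      (fun x => ?_) ?_
    · have := h x
      rw [sg_def, ← hr] at this
      simp only [id_eq, hP, eval_add, eval_mul, eval_C, eval_pow, eval_X, pow_add]
      linear_combination this
    · rw [hF]; omega
  have hc : ∀ n, P.coeff n = 0 := fun n => by rw [h0, coeff_zero]
  refine ⟨?_, ?_, ?_⟩
  · have := hc 2
    simp only [hP, coeff_add, coeff_C_mul_X_pow] at this
    rwa [if_true, if_neg (by omega), if_neg (by omega), add_zero, add_zero] at this
  · have := hc (r + 2)
    simp only [hP, coeff_add, coeff_C_mul_X_pow] at this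
    rwa [if_true, if_neg (by omega), if_neg (by omega), zero_add, add_zero] at this
  · have := hc r
    simp only [hP, coeff_add, coeff_C_mul_X_pow] at this
    rwa [if_true, if_neg (by omega), if_neg (by omega), zero_add, zero_add] at this

theorem fin_four_vec_ext {v w : Fin 4 → F} (h0 : v 0 = w 0) (h1 : v 1 = w 1) (h2 : v 2 = w 2)
    (h3 : v 3 = w 3) : v = w := by
  funext i; fin_cases i <;> assumption

include hm hF in
/-- The stabilizer of the two base points is the torus. -/
theorem eq_ht_of_fix {g : SpecialLinearGroup (Fin 4) F} (hg : g ∈ Cfsg.Sz F m)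
    (hi : g • Cfsg.suzukiPointInfinity F = Cfsg.suzukiPointInfinity F)
    (h0 : g • pt m (0 : F) 0 = pt m 0 0) : ∃ t : Fˣ, g = ht m t := by
  have h2 : (2 : F) = 0 := two_eq_zero
  set M : Matrix (Fin 4) (Fin 4) F := (g : Matrix (Fin 4) (Fin 4) F) with hM
  obtain ⟨a, ha, hcol0⟩ := smul_eq_mk_imp g _ _ hi
  obtain ⟨d, hd, hcol3⟩ := smul_eq_mk_imp g _ _ h0
  have hM0 : ∀ i, M i 0 = a * (![1, 0, 0, 0] : Fin 4 → F) i := fun i => by
    simpa [hM, mulVec, dotProduct, Fin.sum_univ_four] using congrFun hcol0 i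
  have hM3 : ∀ i, M i 3 = d * (![0, 0, 0, 1] : Fin 4 → F) i := fun i => by
    simpa [hM, vec, ov, mulVec, dotProduct, Fin.sum_univ_four] using congrFun hcol3 i
  have m00 : M 0 0 = a := by simpa using hM0 0
  have m10 : M 1 0 = 0 := by simpa using hM0 1
  have m20 : M 2 0 = 0 := by simpa using hM0 2
  have m30 : M 3 0 = 0 := by simpa using hM0 3
  have m03 : M 0 3 = 0 := by simpa using hM3 0
  have m13 : M 1 3 = 0 := by simpa using hM3 1
  have m23 : M 2 3 = 0 := by simpa using hM3 2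
  have m33 : M 3 3 = d := by simpa using hM3 3
  -- the images of the affine points
  have himg : ∀ x y : F, ¬(x = 0 ∧ y = 0) → ∃ x' y' : F, ∃ c : F, c ≠ 0 ∧
      ¬(x' = 0 ∧ y' = 0) ∧ M *ᵥ vec m x y = c • vec m x' y' := by
    intro x y hxy
    rcases mem_ovoid_iff.1 (smul_mem hg (pt_mem (m := m) x y)) with h | ⟨x', y', h⟩
    · exact absurd (MulAction.injective g (h.trans hi.symm)) (pt_ne_inf x y)
    · obtain ⟨c, hc, h'⟩ := smul_eq_mk_imp g _ _ h
      refine ⟨x', y', c, hc, fun h00 => ?_, h'⟩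
      rw [h00.1, h00.2, ← h0] at h
      exact hxy (pt_injective (MulAction.injective g h))
  have hrow3 : ∀ x y : F, ¬(x = 0 ∧ y = 0) → M 3 1 * y + M 3 2 * x + d ≠ 0 := by
    intro x y hxy h
    obtain ⟨x', y', c, hc, -, e⟩ := himg x y hxy
    have e3 := congrFun e 3
    simp [vec, mulVec, dotProduct, Fin.sum_univ_four, m30, m33] at e3
    exact hc (by rw [← e3, h])
  have m31 : M 3 1 = 0 := by
    by_contra h
    refine hrow3 0 (-d / M 3 1) (by simp [hd, h]) ?_
    field_simp
    ring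
  have m32 : M 3 2 = 0 := by
    by_contra h
    refine hrow3 (-d / M 3 2) 0 (by simp [hd, h]) ?_
    field_simp
    ring
  have hrow0 : ∀ x y : F, ¬(x = 0 ∧ y = 0) → a * ov m x y + M 0 1 * y + M 0 2 * x ≠ 0 := by
    intro x y hxy h
    obtain ⟨x', y', c, hc, hxy', e⟩ := himg x y hxy
    have e0 := congrFun e 0
    simp [vec, mulVec, dotProduct, Fin.sum_univ_four, m00, m03] at e0
    rw [h] at e0
    rcases mul_eq_zero.1 e0.symm with h' | h'
    · exact hc h'
    · exact ov_ne_zero hF hxy' h'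
  -- apply it to the point whose image under the inversion is `(x, y)`
  have hrow0' : ∀ x y : F, ¬(x = 0 ∧ y = 0) → a + M 0 1 * x + M 0 2 * y ≠ 0 := by
    intro x y hxy h
    have hz := ov_ne_zero hF hxy
    have hxy2 : ¬(y / ov m x y = 0 ∧ x / ov m x y = 0) := by
      simpa [hz, and_comm] using hxy
    have key : ov m (y / ov m x y) (x / ov m x y) = 1 / ov m x y := by
      have e := ww_smul_pt hF hxy
      obtain ⟨c, hc, e'⟩ := smul_eq_mk_imp _ _ _ e
      rw [coe_ww] at e'
      have f3 := congrFun e' 3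
      have f0 := congrFun e' 0
      simp [vec, mulVec, dotProduct, Fin.sum_univ_four] at f3 f0
      rw [eq_div_iff hz]
      linear_combination ov m (y / ov m x y) (x / ov m x y) * f3 - f0
    refine hrow0 _ _ hxy2 ?_
    rw [key]
    field_simp
    linear_combination h
  have m01 : M 0 1 = 0 := by
    by_contra h
    refine hrow0' (-a / M 0 1) 0 (by simp [ha, h]) ?_
    field_simp
    ring
  have m02 : M 0 2 = 0 := by
    by_contra h
    refine hrow0' 0 (-a / M 0 2) (by simp [ha, h]) ?_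
    field_simp
    ring
  set α := M 2 2 / d with hα
  set β := M 2 1 / d with hβ
  set γ := M 1 2 / d with hγ
  set δ := M 1 1 / d with hδ
  set ε := a / d with hε
  have hfun : ∀ x y : F, ov m (β * y + α * x) (δ * y + γ * x) = ε * ov m x y := by
    intro x y
    by_cases hxy : x = 0 ∧ y = 0
    · simp [hxy.1, hxy.2, ov]
    obtain ⟨x', y', c, hc, -, e⟩ := himg x y hxy
    have e0 := congrFun e 0
    have e1 := congrFun e 1
    have e2 := congrFun e 2
    have e3 := congrFun e 3
    simp [vec, mulVec, dotProduct, Fin.sum_univ_four, m00, m10, m20, m30, m01, m02, m03, m13, m23,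
      m31, m32, m33] at e0 e1 e2 e3
    have hx' : β * y + α * x = x' := by
      rw [hα, hβ]; field_simp; linear_combination e2 - x' * e3
    have hy' : δ * y + γ * x = y' := by
      rw [hγ, hδ]; field_simp; linear_combination e1 - y' * e3
    rw [hx', hy', hε]
    field_simp
    linear_combination ov m x' y' * e3 - e0
  obtain ⟨c1, c2, c3⟩ := coeff_eq_zero hm hF (c1 := α * γ) (c2 := sg F m α * α ^ 2 - ε)
    (c3 := sg F m γ) fun x => by
      have e := hfun x 0
      simp [ov, map_mul] at e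
      linear_combination e
  obtain ⟨d1, d2, d3⟩ := coeff_eq_zero hm hF (c1 := β * δ) (c2 := sg F m β * β ^ 2)
    (c3 := sg F m δ - ε) fun y => by
      have e := hfun 0 y
      simp [ov, map_mul] at e
      linear_combination e
  have hγ0 : γ = 0 := (map_eq_zero (sg F m)).1 c3
  have hβ0 : β = 0 := by
    by_contra h
    exact mul_ne_zero ((map_ne_zero (sg F m)).2 h) (pow_ne_zero 2 h) d2
  have hεne : ε ≠ 0 := div_ne_zero ha hd
  have hαδ : α * δ = ε := by
    have e := hfun 1 1
    simp [ov, hγ0, hβ0] at e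
    linear_combination e - c2 - d3
  have hαne : α ≠ 0 := fun h => hεne (by rw [← hαδ, h, zero_mul])
  have hδ' : δ = sg F m α * α :=
    mul_left_cancel₀ hαne (by linear_combination hαδ - c2)
  obtain ⟨t, ht'⟩ := sg_surjective hF α
  have htne : t ≠ 0 := fun h => hαne (by rw [← ht', h, map_zero])
  have hsne : sg F m t ≠ 0 := (map_ne_zero (sg F m)).2 htne
  have hdet : M.det = 1 := g.2
  have m12 : M 1 2 = 0 := by
    have := hγ0; rw [hγ] at this; simpa [hd] using this
  have m21 : M 2 1 = 0 := by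
    have := hβ0; rw [hβ] at this; simpa [hd] using this
  have hMd : M = diagonal ![a, M 1 1, M 2 2, d] := by
    ext i j
    fin_cases i <;> fin_cases j <;>
      simp [m00, m10, m20, m30, m01, m02, m03, m12, m13, m21, m23, m31, m32, m33]
  rw [hMd, det_diagonal, Fin.prod_univ_four] at hdet
  simp at hdet
  have m11 : M 1 1 = d * δ := by rw [hδ]; field_simp
  have m22 : M 2 2 = d * α := by rw [hα]; field_simp
  have ha' : a = d * ε := by rw [hε]; field_simp
  have hd' : d = (sg F m t * t)⁻¹ := by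
    refine eq_inv_of_mul_eq_one_left ?_
    rw [m11, m22, ha', ← hαδ, hδ', ← ht', sg_sg hF] at hdet
    have h4 : (d * (sg F m t * t) - 1) ^ 4 = 0 := by
      linear_combination hdet + (-2 * (d * (sg F m t * t)) ^ 3 +
        3 * (d * (sg F m t * t)) ^ 2 - 2 * (d * (sg F m t * t)) + 1) * h2
    exact sub_eq_zero.1 (eq_zero_of_pow_eq_zero h4)
  refine ⟨Units.mk0 t htne, Subtype.ext ?_⟩
  show M = htMat m (Units.mk0 t htne)
  rw [hMd, htMat, m11, m22, ha', ← hαδ, hδ', ← ht', sg_sg hF, hd']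
  congr 1
  refine fin_four_vec_ext ?_ ?_ ?_ ?_ <;> simp <;> field_simp

end CfsgLib.Suzuki
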