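import Mathlib
import Cfsg.Agent.Lib.Suzuki.Stab

/-!
# The Suzuki group acting on its ovoid: orders, double transitivity, simplicity
-/

set_option autoImplicit false
set_option linter.unusedSectionVars false

namespace CfsgLib.Suzuki

open Matrix MulAction
open scoped Pointwise

variable (F : Type*) [Field F] [Fintype F] [CharP F 2] (m : ℕ)

/-- The parameters of a Suzuki group. -/
class Param : Prop where
  one_le : 1 ≤ m
  card : Fintype.card F = 2 ^ (2 * m + 1)

variable [hP : Param F m]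

/-- The group. -/
abbrev Gp : Type _ := ↥(Cfsg.Sz F m)

/-- The ovoid, as a type. -/
abbrev Pts : Type _ := ↥(Cfsg.suzukiOvoid F m)

variable {F m}

/-- The translations, in the group. -/
def gT (a b : F) : Gp F m := ⟨tr m a b, tr_mem hP.card a b⟩

/-- The torus, in the group. -/
def gH : Fˣ →* Gp F m where
  toFun t := ⟨ht m t, ht_mem hP.card t⟩
  map_one' := Subtype.ext ht_one
  map_mul' s t := Subtype.ext (ht_mul s t)

variable (F m) in
/-- The inversion, in the group. -/
def gW : Gp F m := ⟨ww F, ww_mem hP.card⟩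

theorem gH_injective : Function.Injective (gH (F := F) (m := m)) :=
  fun _ _ h => ht_injective (congrArg Subtype.val h)

theorem gT_inj {a b c d : F} (h : gT (m := m) a b = gT c d) : a = c ∧ b = d :=
  tr_injective (congrArg Subtype.val h)

theorem gT_mul (a b c d : F) :
    gT (m := m) a b * gT c d = gT (a + c) (b + d + sg F m a * c) :=
  Subtype.ext (tr_mul_tr hP.card a b c d)

theorem gT_zero : gT (m := m) (0 : F) 0 = 1 := Subtype.ext tr_zero

theorem gT_inv (a b : F) : (gT (m := m) a b)⁻¹ = gT a (b + sg F m a * a) := by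
  refine inv_eq_of_mul_eq_one_right ?_
  rw [gT_mul, ← gT_zero]
  congr 1
  · exact CharTwo.add_self_eq_zero a
  · linear_combination (b + sg F m a * a) * two_eq_zero (F := F)

theorem gW_mul_self : gW F m * gW F m = 1 := Subtype.ext ww_mul_ww

theorem gW_inv : (gW F m)⁻¹ = gW F m := inv_eq_of_mul_eq_one_right gW_mul_self

theorem gW_ne_one : gW F m ≠ 1 := by
  intro h
  have h' : Cfsg.suzukiForm F = 1 := congrArg Subtype.val (congrArg Subtype.val h)
  simpa [Cfsg.suzukiForm] using congrFun (congrFun h' 0) 0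

variable (F m) in
/-- The translation subgroup. -/
def grpU : Subgroup (Gp F m) where
  carrier := {g | ∃ a b, g = gT a b}
  one_mem' := ⟨0, 0, gT_zero.symm⟩
  mul_mem' := by
    rintro _ _ ⟨a, b, rfl⟩ ⟨c, d, rfl⟩
    exact ⟨_, _, gT_mul a b c d⟩
  inv_mem' := by
    rintro _ ⟨a, b, rfl⟩
    exact ⟨_, _, gT_inv a b⟩

variable (F m) in
/-- The torus. -/
def grpH : Subgroup (Gp F m) := (gH (F := F) (m := m)).range

theorem gT_mem (a b : F) : gT (m := m) a b ∈ grpU F m := ⟨a, b, rfl⟩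

theorem gH_mem (t : Fˣ) : gH t ∈ grpH F m := ⟨t, rfl⟩

theorem gH_conj_gT (t : Fˣ) (a b : F) :
    gH t * gT (m := m) a b * (gH t)⁻¹ = gT (sg F m t * a) (sg F m t * (t : F) ^ 2 * b) := by
  rw [mul_inv_eq_iff_eq_mul]
  refine Subtype.ext (Matrix.SpecialLinearGroup.ext _ _ fun i j => ?_)
  show (htMat m t * trMat m a b) i j =
    (trMat m (sg F m t * a) (sg F m t * (t : F) ^ 2 * b) * htMat m t) i j
  rw [htMat, diagonal_mul, mul_diagonal]
  have ht0 : (t : F) ≠ 0 := t.ne_zero
  have hs : sg F m (t : F) ≠ 0 := (map_ne_zero (sg F m)).2 ht0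
  fin_cases i <;> fin_cases j <;>
    simp [trMat, ov, map_mul, map_pow, sg_sg hP.card] <;> field_simp

theorem gW_conj_gH (t : Fˣ) : gW F m * gH t * (gW F m)⁻¹ = (gH t)⁻¹ := by
  rw [← map_inv, mul_inv_eq_iff_eq_mul]
  refine Subtype.ext (Matrix.SpecialLinearGroup.ext _ _ fun i j => ?_)
  show (Cfsg.suzukiForm F * htMat m t) i j = (htMat m t⁻¹ * Cfsg.suzukiForm F) i j
  rw [htMat, htMat, diagonal_mul, mul_diagonal]
  fin_cases i <;> fin_cases j <;> simp [Cfsg.suzukiForm, map_inv₀, mul_comm]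

/-! ### The action -/

variable (F m) in
/-- The point at infinity. -/
def pinf : Pts F m := ⟨Cfsg.suzukiPointInfinity F, inf_mem⟩

/-- An affine point. -/
def paff (x y : F) : Pts F m := ⟨pt m x y, pt_mem x y⟩

theorem pts_cases (p : Pts F m) : p = pinf F m ∨ ∃ x y, p = paff x y := by
  rcases mem_ovoid_iff.1 p.2 with h | ⟨x, y, h⟩
  · exact Or.inl (Subtype.ext h)
  · exact Or.inr ⟨x, y, Subtype.ext h⟩

theorem paff_inj {x y x' y' : F} (h : paff (m := m) x y = paff x' y') : x = x' ∧ y = y' :=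
  pt_injective (congrArg Subtype.val h)

theorem paff_ne_pinf (x y : F) : paff (m := m) x y ≠ pinf F m := fun h =>
  pt_ne_inf x y (congrArg Subtype.val h)

variable (F m) in
/-- The ovoid as an option type. -/
noncomputable def ptsEquiv : Option (F × F) ≃ Pts F m :=
  Equiv.ofBijective (fun o => o.elim (pinf F m) fun q => paff q.1 q.2) ⟨by
    rintro (_ | q) (_ | q') h
    · rfl
    · exact absurd h.symm (paff_ne_pinf _ _)
    · exact absurd h (paff_ne_pinf _ _)
    · exact congrArg some (Prod.ext (paff_inj h).1 (paff_inj h).2), fun p => by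
    rcases pts_cases p with rfl | ⟨x, y, rfl⟩
    · exact ⟨none, rfl⟩
    · exact ⟨some (x, y), rfl⟩⟩

theorem natCard_pts : Nat.card (Pts F m) = Fintype.card F ^ 2 + 1 := by
  rw [← Nat.card_congr (ptsEquiv F m), Finite.card_option, Nat.card_prod, Nat.card_eq_fintype_card,
    sq]

theorem gT_smul_pinf (a b : F) : gT (m := m) a b • pinf F m = pinf F m :=
  Subtype.ext (tr_smul_inf a b)

theorem gT_smul_paff (a b x y : F) :
    gT (m := m) a b • paff (m := m) x y = paff (a + x) (b + y + sg F m a * x) :=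
  Subtype.ext (tr_smul_pt hP.card a b x y)

theorem gH_smul_pinf (t : Fˣ) : gH (m := m) t • pinf F m = pinf F m :=
  Subtype.ext (ht_smul_inf t)

theorem gH_smul_paff (t : Fˣ) (x y : F) :
    gH (m := m) t • paff (m := m) x y = paff (sg F m t * x) (sg F m t * (t : F) ^ 2 * y) :=
  Subtype.ext (ht_smul_pt hP.card t x y)

theorem gW_smul_pinf : gW F m • pinf F m = paff 0 0 := Subtype.ext ww_smul_inf

theorem gW_smul_zero : gW F m • paff (m := m) (0 : F) 0 = pinf F m := Subtype.ext ww_smul_zero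

theorem exists_gT_smul (p : Pts F m) (hp : p ≠ pinf F m) :
    ∃ a b : F, gT (m := m) a b • paff (m := m) (0 : F) 0 = p := by
  obtain ⟨x, y, rfl⟩ := (pts_cases p).resolve_left hp
  exact ⟨x, y, by simp [gT_smul_paff]⟩

instance : IsPretransitive (Gp F m) (Pts F m) := by
  refine ⟨fun p p' => ?_⟩
  have key : ∀ p : Pts F m, ∃ g : Gp F m, g • pinf F m = p := by
    intro p
    by_cases hp : p = pinf F m
    · exact ⟨1, by rw [one_smul, hp]⟩
    · obtain ⟨a, b, h⟩ := exists_gT_smul p hp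
      exact ⟨gT a b * gW F m, by rw [mul_smul, gW_smul_pinf, h]⟩
  obtain ⟨g, rfl⟩ := key p
  obtain ⟨g', rfl⟩ := key p'
  exact ⟨g' * g⁻¹, by rw [mul_smul, inv_smul_smul]⟩

theorem mem_stab_two {g : Gp F m} (hi : g • pinf F m = pinf F m)
    (h0 : g • paff (m := m) (0 : F) 0 = paff 0 0) : g ∈ grpH F m := by
  obtain ⟨t, ht'⟩ := eq_ht_of_fix hP.one_le hP.card g.2 (congrArg Subtype.val hi)
    (congrArg Subtype.val h0)
  exact ⟨t, Subtype.ext ht'.symm⟩

theorem stab_inf_eq : stabilizer (Gp F m) (pinf F m) ⊓ stabilizer (Gp F m) (paff (m := m) (0 : F) 0) =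
    grpH F m := by
  refine le_antisymm (fun g hg => mem_stab_two hg.1 hg.2) ?_
  rintro _ ⟨t, rfl⟩
  exact ⟨gH_smul_pinf t, by simp [mem_stabilizer_iff, gH_smul_paff]⟩

/-- An element fixing `∞` is a translation times a torus element, in a unique way. -/
theorem exists_eq_gT_mul_gH {g : Gp F m} (hg : g • pinf F m = pinf F m) :
    ∃ a b t, g = gT a b * gH t := by
  have hne : g • paff (m := m) (0 : F) 0 ≠ pinf F m := fun h =>
    paff_ne_pinf _ _ (MulAction.injective g (h.trans hg.symm))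
  obtain ⟨a, b, hab⟩ := exists_gT_smul _ hne
  obtain ⟨t, ht'⟩ : (gT a b)⁻¹ * g ∈ grpH F m := mem_stab_two
    (by rw [mul_smul, hg, inv_smul_eq_iff, gT_smul_pinf])
    (by rw [mul_smul, ← hab, inv_smul_smul])
  exact ⟨a, b, t, by rw [ht', mul_inv_cancel_left]⟩

theorem gTH_inj {a b a' b' : F} {t t' : Fˣ}
    (h : gT (m := m) a b * gH t = gT a' b' * gH t') : a = a' ∧ b = b' ∧ t = t' := by
  have h1 := congrArg (fun g : Gp F m => g • paff (m := m) (0 : F) 0) h
  simp [mul_smul, gH_smul_paff, gT_smul_paff] at h1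
  obtain ⟨rfl, rfl⟩ := paff_inj h1
  exact ⟨rfl, rfl, gH_injective (mul_left_cancel h)⟩

variable (F m) in
/-- The stabilizer of `∞`. -/
noncomputable def borelEquiv : (F × F) × Fˣ ≃ ↥(stabilizer (Gp F m) (pinf F m)) :=
  Equiv.ofBijective (fun q => ⟨gT q.1.1 q.1.2 * gH q.2,
      by rw [mem_stabilizer_iff, mul_smul, gH_smul_pinf, gT_smul_pinf]⟩) ⟨by
    rintro ⟨⟨a, b⟩, t⟩ ⟨⟨a', b'⟩, t'⟩ h
    obtain ⟨rfl, rfl, rfl⟩ := gTH_inj (congrArg Subtype.val h)
    rfl, fun g => by
    obtain ⟨a, b, t, h⟩ := exists_eq_gT_mul_gH g.2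
    exact ⟨((a, b), t), Subtype.ext h.symm⟩⟩

theorem natCard_stab : Nat.card ↥(stabilizer (Gp F m) (pinf F m)) =
    Fintype.card F ^ 2 * (Fintype.card F - 1) := by
  rw [← Nat.card_congr (borelEquiv F m), Nat.card_prod, Nat.card_prod, Nat.card_units,
    Nat.card_eq_fintype_card, sq]

theorem natCard_group : Nat.card (Gp F m) =
    Fintype.card F ^ 2 * (Fintype.card F ^ 2 + 1) * (Fintype.card F - 1) := by
  rw [← Subgroup.index_mul_card (stabilizer (Gp F m) (pinf F m)), natCard_stab,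
    index_stabilizer_of_transitive, natCard_pts]
  ring

theorem natCard_grpH : Nat.card (grpH F m) = Fintype.card F - 1 := by
  rw [grpH, ← Nat.card_congr (MonoidHom.ofInjective gH_injective).toEquiv, Nat.card_units,
    Nat.card_eq_fintype_card]

theorem natCard_grpU : Nat.card (grpU F m) = Fintype.card F ^ 2 := by
  rw [← Nat.card_congr (Equiv.ofBijective
    (fun q : F × F => (⟨gT q.1 q.2, gT_mem _ _⟩ : grpU F m)) ⟨fun q q' h => by
      obtain ⟨h1, h2⟩ := gT_inj (congrArg Subtype.val h)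
      exact Prod.ext h1 h2, fun u => by
      obtain ⟨a, b, h⟩ := u.2
      exact ⟨(a, b), Subtype.ext h.symm⟩⟩), Nat.card_prod, Nat.card_eq_fintype_card, sq]

theorem two_transitive : IsMultiplyPretransitive (Gp F m) (Pts F m) 2 := by
  rw [is_two_pretransitive_iff]
  intro p p' r r' hp hr
  have key : ∀ p p' : Pts F m, p ≠ p' →
      ∃ g : Gp F m, g • pinf F m = p ∧ g • paff (m := m) (0 : F) 0 = p' := by
    intro p p' h
    obtain ⟨g, hg⟩ := exists_smul_eq (Gp F m) (pinf F m) p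
    have hne : g⁻¹ • p' ≠ pinf F m := fun e => h (by rw [← hg, ← e, smul_inv_smul])
    obtain ⟨a, b, hab⟩ := exists_gT_smul _ hne
    exact ⟨g * gT a b, by rw [mul_smul, gT_smul_pinf, hg], by rw [mul_smul, hab, smul_inv_smul]⟩
  obtain ⟨g, rfl, rfl⟩ := key p p' hp
  obtain ⟨g', rfl, rfl⟩ := key r r' hr
  exact ⟨g' * g⁻¹, by rw [mul_smul, inv_smul_smul], by rw [mul_smul, inv_smul_smul]⟩

theorem eq_one_of_sgsq {t : Fˣ} (h : sg F m (t : F) * (t : F) ^ 2 = 1) : t = 1 := by
  have h0 := congrArg (sg F m) h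
  rw [map_mul, map_pow, sg_sg hP.card, map_one, ← mul_pow] at h0
  have h1 : ((t : F) * sg F m t - 1) ^ 2 = 0 := by
    linear_combination h0 + (1 - (t : F) * sg F m t) * two_eq_zero (F := F)
  refine Units.ext (eq_one_of_sg_mul_self hP.card ?_)
  rw [mul_comm]
  exact sub_eq_zero.1 (eq_zero_of_pow_eq_zero h1)

/-- Three distinct points determine an element. -/
theorem eq_one_of_fix_three {g : Gp F m} {p q r : Pts F m} (hpq : p ≠ q) (hpr : p ≠ r)
    (hqr : q ≠ r) (hp : g • p = p) (hq : g • q = q) (hr : g • r = r) : g = 1 := by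
  obtain ⟨k, hk1, hk2⟩ : ∃ k : Gp F m, k • p = pinf F m ∧ k • q = paff (m := m) (0 : F) 0 :=
    is_two_pretransitive_iff.1 two_transitive hpq (Ne.symm (paff_ne_pinf _ _))
  have e : ∀ s : Pts F m, g • s = s → (k * g * k⁻¹) • (k • s) = k • s := fun s hs => by
    rw [mul_smul, mul_smul, inv_smul_smul, hs]
  have e1 := e p hp
  have e2 := e q hq
  have e3 := e r hr
  rw [hk1] at e1
  rw [hk2] at e2
  obtain ⟨t, ht'⟩ := mem_stab_two e1 e2
  obtain ⟨x, y, hxy⟩ := (pts_cases (k • r)).resolve_left fun h =>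
    hpr (MulAction.injective k (hk1.trans h.symm))
  have hne : ¬ (x = 0 ∧ y = 0) := fun h => hqr (MulAction.injective k (by
    show k • q = k • r
    rw [hxy, h.1, h.2, hk2]))
  rw [← ht', hxy, gH_smul_paff] at e3
  obtain ⟨f1, f2⟩ := paff_inj e3
  have ht1 : t = 1 := by
    by_cases hx : x = 0
    · have hy : y ≠ 0 := fun h => hne ⟨hx, h⟩
      exact eq_one_of_sgsq ((mul_eq_right₀ hy).1 f2)
    · exact Units.ext (sg_injective (by
        rw [(mul_eq_right₀ hx).1 f1, Units.val_one, map_one]))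
  rw [ht1, map_one] at ht'
  exact conj_eq_one_iff.1 ht'.symm

end CfsgLib.Suzuki
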