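import Mathlib
import Cfsg.Agent.Lib.Suzuki.Group

/-!
# The Suzuki group: centralizers, the Sylow 2-subgroup, simplicity
-/

set_option autoImplicit false
set_option linter.unusedSectionVars false

namespace CfsgLib.Suzuki

open Matrix MulAction
open scoped Pointwise commutatorElement

variable {F : Type*} [Field F] [Fintype F] [CharP F 2] {m : ℕ} [hP : Param F m]

include hP

theorem eight_le_card : 8 ≤ Fintype.card F := by
  rw [hP.card, show 8 = 2 ^ 3 from rfl]
  exact Nat.pow_le_pow_right (by norm_num) (by have := hP.one_le; omega)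

theorem odd_card_sub_one : Odd (Fintype.card F - 1) := by
  rw [hP.card]
  refine Nat.Even.sub_odd (Nat.one_le_two_pow) ?_ odd_one
  exact (Nat.even_pow).2 ⟨even_two, by omega⟩

theorem odd_card_sq_add_one : Odd (Fintype.card F ^ 2 + 1) := by
  rw [hP.card]
  exact Even.add_one (((Nat.even_pow).2 ⟨even_two, by omega⟩).pow_of_ne_zero two_ne_zero)

theorem exists_unit_ne_one : ∃ t : Fˣ, t ≠ 1 := by
  classical
  have : 1 < Fintype.card Fˣ := by
    rw [Fintype.card_units]
    have := eight_le_card (F := F) (m := m)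
    omega
  exact Fintype.exists_ne_of_one_lt_card this 1

theorem sq_eq_one {t : Fˣ} (h : t * t = 1) : t = 1 := by
  have h' : (t : F) * t = 1 := by rw [← Units.val_mul, h, Units.val_one]
  have h0 : ((t : F) - 1) ^ 2 = 0 := by
    linear_combination h' + (1 - (t : F)) * two_eq_zero (F := F)
  exact Units.ext (sub_eq_zero.1 (eq_zero_of_pow_eq_zero h0))

/-- A nontrivial translation fixes only `∞`. -/
theorem gT_fix {a b : F} (h : gT (m := m) a b ≠ 1) {p : Pts F m} (hp : gT (m := m) a b • p = p) :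
    p = pinf F m := by
  by_contra hne
  obtain ⟨x, y, rfl⟩ := (pts_cases p).resolve_left hne
  rw [gT_smul_paff] at hp
  obtain ⟨h1, h2⟩ := paff_inj hp
  have ha : a = 0 := by simpa using h1
  subst ha
  have hb : b = 0 := by simpa using h2
  subst hb
  exact h gT_zero

theorem gT_conj_gT (a b c d : F) : gT a b * gT (m := m) c d * (gT a b)⁻¹ =
    gT c (d + sg F m a * c + sg F m c * a) := by
  rw [gT_inv, gT_mul, gT_mul, map_add]
  have h2 : (2 : F) = 0 := two_eq_zero
  congr 1
  · linear_combination a * h2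
  · linear_combination (b + sg F m a * a) * h2

/-- The centralizer of a nontrivial translation lies in the translation group. -/
theorem centralizer_gT_le {u : Gp F m} (hu : u ∈ grpU F m) (h1 : u ≠ 1) :
    Subgroup.centralizer {u} ≤ grpU F m := by
  obtain ⟨a, b, rfl⟩ := hu
  intro c hc
  rw [Subgroup.mem_centralizer_singleton_iff] at hc
  have hci : c • pinf F m = pinf F m := gT_fix h1 (by
    rw [← mul_smul, ← hc, mul_smul, gT_smul_pinf])
  obtain ⟨x, y, t, rfl⟩ := exists_eq_gT_mul_gH hci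
  have e : gT x y * gH t * gT (m := m) a b * (gT x y * gH t)⁻¹ = gT a b := by
    rw [hc, mul_inv_cancel_right]
  rw [show gT x y * gH t * gT (m := m) a b * (gT x y * gH t)⁻¹ =
    gT x y * (gH t * gT a b * (gH t)⁻¹) * (gT x y)⁻¹ by group, gH_conj_gT, gT_conj_gT] at e
  obtain ⟨f1, f2⟩ := gT_inj e
  suffices t = 1 by rw [this, map_one, mul_one]; exact gT_mem x y
  by_cases ha : a = 0
  · subst ha
    have hb : b ≠ 0 := fun hb => h1 (by rw [hb, gT_zero])
    simp at f2
    exact eq_one_of_sgsq ((mul_eq_right₀ hb).1 f2)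
  · exact Units.ext (sg_injective (by rw [(mul_eq_right₀ ha).1 f1, Units.val_one, map_one]))

theorem gH_fix {t : Fˣ} (ht : t ≠ 1) {p : Pts F m} (hp : gH (m := m) t • p = p) :
    p = pinf F m ∨ p = paff 0 0 := by
  by_contra h
  push Not at h
  have e1 : gH (m := m) t = 1 := eq_one_of_fix_three (p := pinf F m) (q := paff 0 0) (r := p)
    (Ne.symm (paff_ne_pinf _ _)) (Ne.symm h.1) (Ne.symm h.2) (gH_smul_pinf t)
    (by simp [gH_smul_paff]) hp
  exact ht (gH_injective (e1.trans (map_one _).symm))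

/-- The centralizer of a nontrivial torus element is the torus. -/
theorem centralizer_gH {h : Gp F m} (hh : h ∈ grpH F m) (h1 : h ≠ 1) :
    Subgroup.centralizer {h} = grpH F m := by
  obtain ⟨t, rfl⟩ := hh
  have ht : t ≠ 1 := fun e => h1 (by rw [e, map_one])
  refine le_antisymm (fun c hc => ?_) ?_
  · rw [Subgroup.mem_centralizer_singleton_iff] at hc
    have e : ∀ p : Pts F m, gH t • p = p → gH t • (c • p) = c • p := fun p hp => by
      rw [← mul_smul, ← hc, mul_smul, hp]
    have h0 : gH (m := m) t • paff (m := m) (0 : F) 0 = paff 0 0 := by simp [gH_smul_paff]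
    rcases gH_fix ht (e _ (gH_smul_pinf t)) with h' | h'
    · rcases gH_fix ht (e _ h0) with h'' | h''
      · exact absurd (MulAction.injective c (h''.trans h'.symm)) (paff_ne_pinf _ _)
      · exact mem_stab_two h' h''
    · have h'' : c • paff (m := m) (0 : F) 0 = pinf F m :=
        ((gH_fix ht (e _ h0)).resolve_right fun h'' =>
          paff_ne_pinf _ _ (MulAction.injective c (h''.trans h'.symm)))
      obtain ⟨s, hs⟩ : gW F m * c ∈ grpH F m := mem_stab_two
        (by rw [mul_smul, h', gW_smul_zero]) (by rw [mul_smul, h'', gW_smul_pinf])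
      have hc' : c = gW F m * gH s := by rw [hs, ← mul_assoc, gW_mul_self, one_mul]
      have e2 : c * gH t * c⁻¹ = gH t := by rw [hc, mul_inv_cancel_right]
      have e3 : c * gH t * c⁻¹ = (gH t)⁻¹ := by
        rw [hc', ← gW_conj_gH t]
        have : gH (m := m) s * gH t * (gH s)⁻¹ = gH t := by
          rw [← map_mul, mul_comm, map_mul, mul_inv_cancel_right]
        calc gW F m * gH s * gH t * (gW F m * gH s)⁻¹
            = gW F m * (gH s * gH t * (gH s)⁻¹) * (gW F m)⁻¹ := by group
          _ = _ := by rw [this]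
      rw [e2, eq_inv_iff_mul_eq_one, ← map_mul] at e3
      exact absurd (sq_eq_one (F := F) (m := m) (gH_injective (e3.trans (map_one _).symm))) ht
  · rintro _ ⟨s, rfl⟩
    rw [Subgroup.mem_centralizer_singleton_iff, ← map_mul, mul_comm, map_mul]

variable (F m) in
/-- The translation group as a Sylow 2-subgroup. -/
noncomputable def sylowU : Sylow 2 (Gp F m) :=
  Sylow.ofCard (grpU F m) (by
    have hodd := (odd_card_sq_add_one (F := F) (m := m)).mul (odd_card_sub_one (F := F) (m := m))
    have hnd : ¬ 2 ∣ (Fintype.card F ^ 2 + 1) * (Fintype.card F - 1) :=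
      fun h => (Nat.not_even_iff_odd.2 hodd) (even_iff_two_dvd.2 h)
    have h8 := eight_le_card (F := F) (m := m)
    rw [natCard_grpU, natCard_group, mul_assoc, Nat.factorization_mul (pow_ne_zero _ (by omega))
      (fun h => hnd (by rw [h]; exact dvd_zero 2)), Finsupp.add_apply,
      Nat.factorization_eq_zero_of_not_dvd hnd, add_zero, hP.card, ← pow_mul,
      Nat.Prime.factorization_pow Nat.prime_two, Finsupp.single_eq_same])

@[simp] theorem coe_sylowU : ((sylowU F m : Sylow 2 (Gp F m)) : Subgroup (Gp F m)) = grpU F m := rfl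

theorem grpU_conj_mem {u : Gp F m} (hu : u ∈ grpU F m) {g : Gp F m}
    (hg : g • pinf F m = pinf F m) : g * u * g⁻¹ ∈ grpU F m := by
  obtain ⟨x, y, t, rfl⟩ := exists_eq_gT_mul_gH hg
  obtain ⟨a, b, rfl⟩ := hu
  rw [show gT x y * gH t * gT (m := m) a b * (gT x y * gH t)⁻¹ =
    gT x y * (gH t * gT a b * (gH t)⁻¹) * (gT x y)⁻¹ by group, gH_conj_gT, gT_conj_gT]
  exact gT_mem _ _

/-- An element of even order is conjugate into the translations. -/
theorem exists_conj_mem_grpU {x : Gp F m} {k : ℕ} (hx : orderOf x = 2 ^ k) :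
    ∃ g : Gp F m, g * x * g⁻¹ ∈ grpU F m := by
  obtain ⟨P, hPle⟩ := (IsPGroup.of_card (p := 2) (n := k) (G := Subgroup.zpowers x)
    (by rw [Nat.card_zpowers, hx])).exists_le_sylow
  obtain ⟨g, hg⟩ := MulAction.exists_smul_eq (Gp F m) P (sylowU F m)
  refine ⟨g, ?_⟩
  rw [← coe_sylowU, ← hg]
  exact Subgroup.smul_mem_pointwise_smul x (MulAut.conj g) _ (hPle (Subgroup.mem_zpowers x))

/-! ### Generation and simplicity -/

theorem grpU_le_commutator : grpU F m ≤ commutator (Gp F m) := by
  obtain ⟨t, ht⟩ := exists_unit_ne_one (F := F) (m := m)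
  set f : grpU F m → grpU F m := fun u =>
    ⟨gH t * (u : Gp F m) * (gH t)⁻¹ * (u : Gp F m)⁻¹,
      mul_mem (grpU_conj_mem u.2 (gH_smul_pinf t)) (inv_mem u.2)⟩ with hf
  have hinj : Function.Injective f := by
    intro u v h
    have e : gH t * (u : Gp F m) * (gH t)⁻¹ * (u : Gp F m)⁻¹ =
        gH t * (v : Gp F m) * (gH t)⁻¹ * (v : Gp F m)⁻¹ := congrArg Subtype.val h
    have hc : (v : Gp F m)⁻¹ * u ∈ Subgroup.centralizer {gH (m := m) t} := by
      rw [Subgroup.mem_centralizer_singleton_iff]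
      have e1 : (v : Gp F m)⁻¹ * (gH t)⁻¹ * (gH t * (v : Gp F m) * (gH t)⁻¹ * (v : Gp F m)⁻¹) *
          (u : Gp F m) * gH t = (v : Gp F m)⁻¹ * (gH t)⁻¹ *
          (gH t * (u : Gp F m) * (gH t)⁻¹ * (u : Gp F m)⁻¹) * (u : Gp F m) * gH t := by rw [e]
      have e2 : (gH t)⁻¹ * ((v : Gp F m)⁻¹ * (u : Gp F m)) * gH t = (v : Gp F m)⁻¹ * (u : Gp F m) := by
        calc (gH t)⁻¹ * ((v : Gp F m)⁻¹ * (u : Gp F m)) * gH t
            = (v : Gp F m)⁻¹ * (gH t)⁻¹ *
              (gH t * (v : Gp F m) * (gH t)⁻¹ * (v : Gp F m)⁻¹) * (u : Gp F m) * gH t := by group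
          _ = _ := e1
          _ = _ := by group
      calc (v : Gp F m)⁻¹ * (u : Gp F m) * gH t = gH t * ((gH t)⁻¹ * ((v : Gp F m)⁻¹ * (u : Gp F m)) * gH t) := by group
        _ = _ := by rw [e2]
    by_contra hne
    have h1 : (v : Gp F m)⁻¹ * u ≠ 1 := fun h' => hne (Subtype.ext (inv_mul_eq_one.1 h').symm)
    have hmem := centralizer_gT_le (mul_mem (inv_mem v.2) u.2) h1
      (Subgroup.mem_centralizer_singleton_iff.2 (Subgroup.mem_centralizer_singleton_iff.1 hc).symm)
    obtain ⟨a, b, hab⟩ := hmem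
    have := gTH_inj (m := m) (a := 0) (b := 0) (t := t) (a' := a) (b' := b) (t' := 1)
      (by rw [gT_zero, one_mul, map_one, mul_one, hab])
    exact ht this.2.2
  intro u hu
  obtain ⟨v, hv⟩ := (Finite.injective_iff_surjective.1 hinj) ⟨u, hu⟩
  have hv' : gH t * (v : Gp F m) * (gH t)⁻¹ * (v : Gp F m)⁻¹ = u := congrArg Subtype.val hv
  rw [← hv']
  exact Subgroup.commutator_mem_commutator (Subgroup.mem_top _) (Subgroup.mem_top _)

theorem gW_mem_commutator : gW F m ∈ commutator (Gp F m) := by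
  have ho : orderOf (gW F m) = 2 ^ 1 := by
    rw [pow_one]
    exact orderOf_eq_prime (by rw [pow_two, gW_mul_self]) gW_ne_one
  obtain ⟨g, hg⟩ := exists_conj_mem_grpU ho
  have := Subgroup.Normal.conj_mem inferInstance _ (grpU_le_commutator hg) g⁻¹
  simpa [mul_assoc] using this

theorem grpH_le_commutator : grpH F m ≤ commutator (Gp F m) := by
  rintro _ ⟨t, rfl⟩
  have h : ⁅gW F m, gH (m := m) t⁆ = gH (t⁻¹ * t⁻¹) := by
    rw [commutatorElement_def, gW_conj_gH, map_mul, map_inv]
  have hsq : Function.Surjective fun s : Fˣ => s⁻¹ * s⁻¹ :=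
    Finite.surjective_of_injective fun a b (hab : a⁻¹ * a⁻¹ = b⁻¹ * b⁻¹) => by
      have h1 : a * a = b * b := by
        have := congrArg (·⁻¹) hab
        simpa [_root_.mul_inv_rev] using this
      exact inv_mul_eq_one.1 (sq_eq_one (F := F) (m := m) (t := b⁻¹ * a) (by
        rw [mul_mul_mul_comm, h1, mul_mul_mul_comm, inv_mul_cancel, one_mul])) |>.symm
  obtain ⟨s, hs⟩ := hsq t
  have h' : ⁅gW F m, gH (m := m) s⁆ = gH (s⁻¹ * s⁻¹) := by
    rw [commutatorElement_def, gW_conj_gH, map_mul, map_inv]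
  rw [show t = s⁻¹ * s⁻¹ from hs.symm, ← h']
  exact Subgroup.commutator_mem_commutator (Subgroup.mem_top _) (Subgroup.mem_top _)

theorem closure_eq_top : grpU F m ⊔ grpH F m ⊔ Subgroup.zpowers (gW F m) = ⊤ := by
  set K := grpU F m ⊔ grpH F m ⊔ Subgroup.zpowers (gW F m) with hK
  have hU : ∀ a b, gT (m := m) a b ∈ K := fun a b =>
    (le_sup_left.trans le_sup_left : grpU F m ≤ K) (gT_mem a b)
  have hH : ∀ t, gH (m := m) t ∈ K := fun t =>
    (le_sup_right.trans le_sup_left : grpH F m ≤ K) (gH_mem t)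
  have hW : gW F m ∈ K := (le_sup_right : Subgroup.zpowers (gW F m) ≤ K) (Subgroup.mem_zpowers _)
  refine eq_top_iff.2 fun g _ => ?_
  by_cases h : g • pinf F m = pinf F m
  · obtain ⟨a, b, t, rfl⟩ := exists_eq_gT_mul_gH h
    exact mul_mem (hU a b) (hH t)
  · obtain ⟨a, b, hab⟩ := exists_gT_smul _ h
    obtain ⟨a', b', t, hk⟩ := exists_eq_gT_mul_gH (g := (gT a b * gW F m)⁻¹ * g) (by
      rw [mul_smul, inv_smul_eq_iff, mul_smul, gW_smul_pinf, hab])
    rw [← mul_inv_cancel_left (gT a b * gW F m) g, hk]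
    exact mul_mem (mul_mem (hU a b) hW) (mul_mem (hU a' b') (hH t))

theorem commutator_eq_top : commutator (Gp F m) = ⊤ := by
  refine eq_top_iff.2 ?_
  rw [← closure_eq_top]
  exact sup_le (sup_le grpU_le_commutator grpH_le_commutator)
    (Subgroup.zpowers_le.2 gW_mem_commutator)

theorem isSolvable_stab : Group.IsSolvable ↥(stabilizer (Gp F m) (pinf F m)) := by
  let φ : ↥(stabilizer (Gp F m) (pinf F m)) →* Fˣ :=
    { toFun := fun g => ((borelEquiv F m).symm g).2
      map_one' := by
        have : (borelEquiv F m).symm 1 = ((0, 0), 1) := by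
          rw [Equiv.symm_apply_eq]
          exact Subtype.ext (show (1 : Gp F m) = gT 0 0 * gH 1 by simp [gT_zero])
        rw [this]
      map_mul' := fun g g' => by
        obtain ⟨⟨⟨a, b⟩, t⟩, rfl⟩ := (borelEquiv F m).surjective g
        obtain ⟨⟨⟨a', b'⟩, t'⟩, rfl⟩ := (borelEquiv F m).surjective g'
        obtain ⟨a'', b'', hab⟩ : gH t * gT (m := m) a' b' * (gH t)⁻¹ ∈ grpU F m :=
          grpU_conj_mem (gT_mem a' b') (gH_smul_pinf t)
        have : borelEquiv F m ((a, b), t) * borelEquiv F m ((a', b'), t') =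
            borelEquiv F m ((a + a'', b + b'' + sg F m a * a''), t * t') := by
          refine Subtype.ext ?_
          show gT a b * gH t * (gT a' b' * gH t') =
            gT (a + a'') (b + b'' + sg F m a * a'') * gH (t * t')
          rw [map_mul, ← gT_mul, ← hab]
          group
        rw [this, Equiv.symm_apply_apply, Equiv.symm_apply_apply, Equiv.symm_apply_apply] }
  have hker : Group.IsNilpotent φ.ker := by
    refine IsPGroup.isNilpotent (p := 2) ?_
    have hU2 : IsPGroup 2 (grpU F m) := IsPGroup.of_card (n := 2 * (2 * m + 1))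
      (by rw [natCard_grpU, hP.card, ← pow_mul, mul_comm])
    refine hU2.of_injective
      (MonoidHom.codRestrict ((stabilizer (Gp F m) (pinf F m)).subtype.comp φ.ker.subtype)
        (grpU F m) fun g => ?_) ?_
    · obtain ⟨⟨⟨a, b⟩, t⟩, hg⟩ := (borelEquiv F m).surjective g.1
      have ht : ((borelEquiv F m).symm g.1).2 = 1 := g.2
      rw [← hg, Equiv.symm_apply_apply] at ht
      show ((g.1 : ↥(stabilizer (Gp F m) (pinf F m))) : Gp F m) ∈ grpU F m
      rw [← hg, show t = 1 from ht]
      show gT a b * gH 1 ∈ grpU F m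
      rw [map_one, mul_one]
      exact gT_mem a b
    · exact fun x y h => Subtype.ext (Subtype.ext (congrArg Subtype.val h :))
  exact Group.isSolvable_of_ker_le_range φ.ker.subtype φ (le_of_eq φ.ker.range_subtype.symm)

theorem isSimpleGroup_gp : IsSimpleGroup (Gp F m) := by
  have : Nontrivial (Gp F m) := ⟨⟨gW F m, 1, gW_ne_one⟩⟩
  have hfaith : FaithfulSMul (Gp F m) (Pts F m) := ⟨fun {g g'} h => by
    by_contra hne
    refine hne (inv_mul_eq_one.1 (eq_one_of_fix_three (g := g⁻¹ * g') (p := pinf F m)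
      (q := paff 0 0) (r := paff 1 0) (Ne.symm (paff_ne_pinf _ _)) (Ne.symm (paff_ne_pinf _ _))
      (fun e => zero_ne_one (paff_inj e).1) ?_ ?_ ?_))
    all_goals rw [mul_smul, inv_smul_eq_iff, h]⟩
  refine ⟨fun N hN => ?_⟩
  by_contra hc
  push Not at hc
  have := isPreprimitive_of_is_two_pretransitive (two_transitive (F := F) (m := m))
  have hpre : IsPretransitive N (Pts F m) := by
    refine IsPreprimitive.isQuasiPreprimitive.isPretransitive_of_normal (N := N) fun h => ?_
    apply hc.1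
    refine (Subgroup.eq_bot_iff_forall _).2 fun n hn => ?_
    refine eq_of_smul_eq_smul (α := Pts F m) fun p => ?_
    rw [one_smul]
    have := (h ▸ Set.mem_univ p : p ∈ fixedPoints N (Pts F m)) ⟨n, hn⟩
    exact this
  have hsup : N ⊔ stabilizer (Gp F m) (pinf F m) = ⊤ := by
    refine eq_top_iff.2 fun g _ => ?_
    obtain ⟨n, hn⟩ := hpre.exists_smul_eq (pinf F m) (g • pinf F m)
    rw [← mul_inv_cancel_left (n : Gp F m) g]
    refine mul_mem (Subgroup.mem_sup_left n.2) (Subgroup.mem_sup_right ?_)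
    rw [mem_stabilizer_iff, mul_smul, inv_smul_eq_iff]
    exact hn.symm
  have hsol : Group.IsSolvable (Gp F m ⧸ N) := by
    have := isSolvable_stab (F := F) (m := m)
    refine Group.isSolvable_of_surjective
      (f := (QuotientGroup.mk' N).comp (stabilizer (Gp F m) (pinf F m)).subtype) ?_
    intro x
    obtain ⟨g, rfl⟩ := QuotientGroup.mk'_surjective N x
    obtain ⟨n, hn, s, hs, rfl⟩ := Subgroup.mem_sup_of_normal_left.1
      (hsup ▸ Subgroup.mem_top g : g ∈ N ⊔ stabilizer (Gp F m) (pinf F m))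
    refine ⟨⟨s, hs⟩, ?_⟩
    rw [map_mul, show QuotientGroup.mk' N n = 1 from (QuotientGroup.eq_one_iff n).2 hn, one_mul]
    rfl
  have hperf : commutator (Gp F m ⧸ N) = ⊤ := by
    rw [commutator_def, ← Subgroup.map_top_of_surjective _ (QuotientGroup.mk'_surjective N),
      ← Subgroup.map_commutator, ← commutator_def, commutator_eq_top]
  obtain ⟨n, hn⟩ := (Group.isSolvable_def _).1 hsol
  have : ∀ k, derivedSeries (Gp F m ⧸ N) k = ⊤ := by
    intro k
    induction k with
    | zero => rfl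
    | succ k ih => rw [derivedSeries_succ, ih, ← commutator_def, hperf]
  rw [this] at hn
  refine hc.2 (eq_top_iff.2 fun g _ => (QuotientGroup.eq_one_iff g).1 ?_)
  have : (QuotientGroup.mk g : Gp F m ⧸ N) ∈ (⊥ : Subgroup _) := hn ▸ Subgroup.mem_top _
  exact Subgroup.mem_bot.1 this

/-! ### The Sylow 2-subgroup -/

variable (F m) in
/-- The central translations. -/
def grpZ : Subgroup (Gp F m) where
  carrier := {g | ∃ b, g = gT 0 b}
  one_mem' := ⟨0, gT_zero.symm⟩
  mul_mem' := by
    rintro _ _ ⟨b, rfl⟩ ⟨d, rfl⟩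
    exact ⟨b + d, by rw [gT_mul]; simp⟩
  inv_mem' := by
    rintro _ ⟨b, rfl⟩
    exact ⟨b, by rw [gT_inv]; simp⟩

theorem natCard_grpZ : Nat.card (grpZ F m) = Fintype.card F := by
  rw [← Nat.card_congr (Equiv.ofBijective (fun b : F => (⟨gT 0 b, b, rfl⟩ : grpZ F m))
    ⟨fun b d h => (gT_inj (congrArg Subtype.val h)).2, fun z => by
      obtain ⟨b, hb⟩ := z.2; exact ⟨b, Subtype.ext hb.symm⟩⟩), Nat.card_eq_fintype_card]

theorem mem_grpZ_of_commute {a b : F}
    (h : ∀ c : F, gT (m := m) c 0 * gT a b = gT a b * gT c 0) : a = 0 := by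
  by_contra ha
  have h2 : (2 : F) = 0 := two_eq_zero
  have e : ∀ c : F, sg F m c * a = sg F m a * c := fun c => by
    have := h c
    rw [gT_mul, gT_mul] at this
    linear_combination (gT_inj this).2
  obtain ⟨t, ht⟩ := exists_unit_ne_one (F := F) (m := m)
  have e1 := e 1
  rw [map_one, one_mul, mul_one] at e1
  have et := e (t : F)
  rw [← e1, mul_comm (a : F)] at et
  rcases sg_fix hP.card (mul_right_cancel₀ ha et) with h' | h'
  · exact t.ne_zero h'
  · exact ht (Units.ext h')

theorem grpZ_eq_center : (Subgroup.center (grpU F m)).map (grpU F m).subtype = grpZ F m := by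
  refine le_antisymm ?_ ?_
  · rintro _ ⟨z, hz, rfl⟩
    obtain ⟨a, b, hab⟩ := z.2
    have ha : a = 0 := mem_grpZ_of_commute (b := b) fun c => by
      have := congrArg Subtype.val (Subgroup.mem_center_iff.1 hz ⟨gT c 0, gT_mem c 0⟩)
      rw [← hab]
      exact this
    exact ⟨b, by rw [Subgroup.subtype_apply, hab, ha]⟩
  · rintro _ ⟨b, rfl⟩
    refine ⟨⟨gT 0 b, gT_mem 0 b⟩, Subgroup.mem_center_iff.2 ?_, rfl⟩
    rintro ⟨_, c, d, rfl⟩
    refine Subtype.ext ?_
    show gT c d * gT 0 b = gT 0 b * gT c d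
    rw [gT_mul, gT_mul]
    simp [add_comm d b]

theorem grpZ_eq_commutator : ⁅grpU F m, grpU F m⁆ = grpZ F m := by
  refine le_antisymm (Subgroup.commutator_le.2 ?_) ?_
  · rintro _ ⟨a, b, rfl⟩ _ ⟨c, d, rfl⟩
    refine ⟨sg F m a * c + sg F m c * a, ?_⟩
    rw [commutatorElement_def, gT_conj_gT, gT_inv, gT_mul]
    have h2 : (2 : F) = 0 := two_eq_zero
    congr 1
    · linear_combination c * h2
    · linear_combination (d + sg F m c * c) * h2
  · obtain ⟨t, ht⟩ := exists_unit_ne_one (F := F) (m := m)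
    rintro _ ⟨b, rfl⟩
    have hw : sg F m (1 : F) * (t : F) + sg F m (t : F) * 1 ≠ 0 := by
      rw [map_one, one_mul, mul_one, Ne, ← sub_neg_eq_add, CharTwo.neg_eq, sub_eq_zero]
      intro h
      rcases sg_fix hP.card h.symm with h' | h'
      · exact t.ne_zero h'
      · exact ht (Units.ext h')
    by_cases hb : b = 0
    · subst hb; rw [gT_zero]; exact one_mem _
    -- scale by an element `k` with `σ k · k = b / w`
    set w := sg F m (1 : F) * (t : F) + sg F m (t : F) * 1
    have hsurj : Function.Surjective fun k : Fˣ =>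
        Units.map (sg F m : F →* F) k * k := Finite.surjective_of_injective fun k l h => by
      refine (div_eq_one.1 (Units.ext (eq_one_of_sg_mul_self hP.card ?_)))
      have h' : sg F m (k : F) * k = sg F m (l : F) * l := congrArg Units.val h
      have hl : sg F m (l : F) * l ≠ 0 :=
        mul_ne_zero ((map_ne_zero (sg F m)).2 l.ne_zero) l.ne_zero
      rw [Units.val_div_eq_div_val, map_div₀, div_mul_div_comm, h', div_self hl]
    obtain ⟨k, hk⟩ := hsurj (Units.mk0 (b / w) (div_ne_zero hb hw))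
    have hk' : sg F m (k : F) * k = b / w := congrArg Units.val hk
    have : gT (m := m) 0 b = ⁅gT (m := m) (k : F) 0, gT ((k : F) * (t : F)) 0⁆ := by
      rw [commutatorElement_def, gT_conj_gT, gT_inv, gT_mul]
      have h2 : (2 : F) = 0 := two_eq_zero
      congr 1
      · linear_combination -((k : F) * t) * h2
      · have e : b = sg F m (k : F) * k * w := by rw [hk', div_mul_cancel₀ b hw]
        rw [e]
        simp only [w, map_mul, map_one]
        linear_combination (-(sg F m (k : F) * sg F m (t : F) * k * t)) * h2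
    rw [this]
    exact Subgroup.commutator_mem_commutator (gT_mem _ _) (gT_mem _ _)

theorem gT_sq (a b : F) : gT (m := m) a b * gT a b = gT 0 (sg F m a * a) := by
  rw [gT_mul]
  have h2 : (2 : F) = 0 := two_eq_zero
  congr 1
  · linear_combination a * h2
  · linear_combination b * h2

theorem exponent_grpU : Monoid.exponent (grpU F m) = 4 := by
  refine Nat.dvd_antisymm ?_ ?_
  · refine Monoid.exponent_dvd_of_forall_pow_eq_one fun u => Subtype.ext ?_
    obtain ⟨a, b, hab⟩ := u.2
    rw [SubgroupClass.coe_pow, hab, show gT (m := m) a b ^ 4 = (gT a b ^ 2) ^ 2 by rw [← pow_mul],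
      pow_two (gT a b), gT_sq, pow_two, gT_sq]
    simp [gT_zero]
  · set x : grpU F m := ⟨gT 1 0, gT_mem 1 0⟩
    have h2 : x ^ 2 ≠ 1 := fun h => by
      have h' : gT (m := m) (1 : F) 0 * gT 1 0 = gT 0 0 := by
        rw [gT_zero, ← pow_two]
        exact congrArg Subtype.val h
      rw [gT_sq] at h'
      simpa using (gT_inj h').2
    have hx4 : x ^ 2 ^ 2 = 1 := Subtype.ext (by
      rw [SubgroupClass.coe_pow, show (x : Gp F m) ^ 2 ^ 2 = ((x : Gp F m) ^ 2) ^ 2 by rw [← pow_mul]; rfl,
        pow_two (x : Gp F m),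
        show (x : Gp F m) * (x : Gp F m) = gT 0 (sg F m 1 * 1) from gT_sq 1 0, pow_two, gT_sq]
      simp [gT_zero])
    have : orderOf x = 4 := orderOf_eq_prime_pow (p := 2) (n := 1) (by simpa using h2) hx4
    exact this.symm.dvd.trans (Monoid.order_dvd_exponent x)

end CfsgLib.Suzuki
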