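import Mathlib
import Cfsg.Agent.Lib.Suzuki.Structure

/-!
# Consequences for the Suzuki group: independence of ovoid points, the symplectic form
-/

set_option autoImplicit false
set_option linter.unusedSectionVars false

namespace CfsgLib.Suzuki

open Matrix MulAction

/-- The characteristic and parameter facts from the cardinality. -/
theorem charP_two_of_card {F : Type*} [Field F] [Fintype F] {k : ℕ}
    (hF : Fintype.card F = 2 ^ k) : CharP F 2 := by
  obtain ⟨p, hp⟩ := CharP.exists F
  haveI := hp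
  obtain ⟨n, hpp, hn⟩ := FiniteField.card F p
  rw [hF] at hn
  have h2 : p ∣ 2 ^ k := hn ▸ dvd_pow_self p n.2.ne'
  have : p = 2 := (Nat.prime_dvd_prime_iff_eq hpp Nat.prime_two).1 (hpp.dvd_of_dvd_pow h2)
  exact this ▸ hp

variable {F : Type*} [Field F] [Fintype F] [CharP F 2] {m : ℕ} [hP : Param F m]

include hP

theorem stabilizer_proj_inf :
    stabilizer (Gp F m) (Cfsg.suzukiPointInfinity F) = stabilizer (Gp F m) (pinf F m) := by
  ext g
  simp only [mem_stabilizer_iff]
  exact ⟨fun h => Subtype.ext h, fun h => congrArg Subtype.val h⟩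

theorem stabilizer_proj_zero :
    stabilizer (Gp F m) (Cfsg.suzukiPointZero F) = stabilizer (Gp F m) (paff (m := m) (0 : F) 0) := by
  ext g
  simp only [mem_stabilizer_iff, ← pt_zero (F := F) (m := m)]
  exact ⟨fun h => Subtype.ext h, fun h => congrArg Subtype.val h⟩

theorem independent_three (p : Fin 3 ↪ Pts F m) :
    Projectivization.Independent (fun i => (p i : Projectivization F (Fin 4 → F))) := by
  obtain ⟨g, h0, h1⟩ : ∃ g : Gp F m, g • pinf F m = p 0 ∧ g • paff (m := m) (0 : F) 0 = p 1 :=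
    is_two_pretransitive_iff.1 two_transitive (Ne.symm (paff_ne_pinf _ _))
      (p.injective.ne (by decide))
  obtain ⟨x, y, hxy⟩ := (pts_cases (g⁻¹ • p 2)).resolve_left fun h =>
    p.injective.ne (by decide : (2 : Fin 3) ≠ 0) (by rw [← h0, ← h, smul_inv_smul])
  have hne : ¬ (x = 0 ∧ y = 0) := fun h =>
    p.injective.ne (by decide : (2 : Fin 3) ≠ 1)
      (by rw [← h1, ← show g⁻¹ • p 2 = paff 0 0 by rw [hxy, h.1, h.2], smul_inv_smul])
  let v : Fin 3 → Fin 4 → F := ![![1, 0, 0, 0], ![0, 0, 0, 1], vec m x y]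
  have hv : LinearIndependent F v := by
    rw [Fintype.linearIndependent_iff]
    intro c hc
    have e : ∀ j : Fin 4, c 0 * v 0 j + c 1 * v 1 j + c 2 * v 2 j = 0 := fun j => by
      simpa [Fin.sum_univ_three] using congrFun hc j
    have h2 : c 2 = 0 := by
      by_contra hc2
      refine hne ⟨?_, ?_⟩
      · have := e 2
        simp [v, vec, hc2] at this
        exact this
      · have := e 1
        simp [v, vec, hc2] at this
        exact this
    have h00 := e 0
    have h33 := e 3
    simp [v, h2] at h00 h33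
    intro i
    fin_cases i
    · exact h00
    · exact h33
    · exact h2
  have hv0 : ∀ i, v i ≠ 0 := fun i => hv.ne_zero i
  let G : Matrix.SpecialLinearGroup (Fin 4) F := g.1
  have hw : LinearIndependent F (fun i => G • v i) := by
    let e := Matrix.SpecialLinearGroup.toLin' G
    exact hv.map' e.toLinearMap e.ker
  have hind := Projectivization.Independent.mk (fun i => G • v i)
    (fun i => (smul_ne_zero_iff_ne G).mpr (hv0 i)) hw
  convert hind using 1
  funext i
  have key : ∀ (q : Pts F m) (w : Fin 4 → F) (hw : w ≠ 0),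
      (q : Projectivization F (Fin 4 → F)) = Projectivization.mk F w hw →
      ((g • q : Pts F m) : Projectivization F (Fin 4 → F)) =
        Projectivization.mk F (G • w) ((smul_ne_zero_iff_ne G).mpr hw) := fun q w hw hq => by
    show G • (q : Projectivization F (Fin 4 → F)) = _
    rw [hq]
    rfl
  fin_cases i
  · show ((p 0 : Pts F m) : Projectivization F (Fin 4 → F)) = _
    rw [← h0]
    exact key _ _ (hv0 0) rfl
  · show ((p 1 : Pts F m) : Projectivization F (Fin 4 → F)) = _
    rw [← h1]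
    exact key _ _ (hv0 1) (pt_zero (m := m))
  · show ((p 2 : Pts F m) : Projectivization F (Fin 4 → F)) = _
    rw [← smul_inv_smul g (p 2), hxy]
    exact key _ _ (hv0 2) rfl

variable (F) in
/-- The isometries of the antidiagonal form. -/
def isoms : Subgroup (Matrix.SpecialLinearGroup (Fin 4) F) where
  carrier := {g | (g : Matrix (Fin 4) (Fin 4) F)ᵀ * Cfsg.suzukiForm F * (g : Matrix (Fin 4) (Fin 4) F) =
    Cfsg.suzukiForm F}
  one_mem' := by simp
  mul_mem' := fun {a b} ha hb => by
    simp only [Set.mem_ofPred_eq, Matrix.SpecialLinearGroup.coe_mul, Matrix.transpose_mul] at *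
    rw [show (b : Matrix (Fin 4) (Fin 4) F)ᵀ * (a : Matrix (Fin 4) (Fin 4) F)ᵀ * Cfsg.suzukiForm F *
      ((a : Matrix (Fin 4) (Fin 4) F) * b) = (b : Matrix (Fin 4) (Fin 4) F)ᵀ *
      ((a : Matrix (Fin 4) (Fin 4) F)ᵀ * Cfsg.suzukiForm F * a) * b by
        simp only [Matrix.mul_assoc], ha, hb]
  inv_mem' := fun {a} ha => by
    simp only [Set.mem_ofPred_eq] at *
    have h : (a : Matrix (Fin 4) (Fin 4) F) * (a⁻¹ : Matrix.SpecialLinearGroup (Fin 4) F) = 1 := by
      rw [← Matrix.SpecialLinearGroup.coe_mul, mul_inv_cancel]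
      rfl
    generalize ((a⁻¹ : Matrix.SpecialLinearGroup (Fin 4) F) : Matrix (Fin 4) (Fin 4) F) = b at h ⊢
    nth_rewrite 1 [← ha]
    rw [show bᵀ * ((a : Matrix (Fin 4) (Fin 4) F)ᵀ * Cfsg.suzukiForm F * a) * b =
      ((a : Matrix (Fin 4) (Fin 4) F) * b)ᵀ * Cfsg.suzukiForm F * ((a : Matrix (Fin 4) (Fin 4) F) * b) by
        rw [Matrix.transpose_mul]; simp only [Matrix.mul_assoc], h]
    simp

theorem mem_isoms {g : Matrix.SpecialLinearGroup (Fin 4) F} (hg : g ∈ Cfsg.Sz F m) : g ∈ isoms F := by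
  have hle : grpU F m ⊔ grpH F m ⊔ Subgroup.zpowers (gW F m) ≤
      (isoms F).subgroupOf (Cfsg.Sz F m) := by
    refine sup_le (sup_le ?_ ?_) (Subgroup.zpowers_le.2 ?_)
    · rintro _ ⟨a, b, rfl⟩
      show (trMat m a b)ᵀ * Cfsg.suzukiForm F * trMat m a b = Cfsg.suzukiForm F
      have h2 : (2 : F) = 0 := two_eq_zero
      ext i j
      fin_cases i <;> fin_cases j <;>
        simp [trMat, ov, Cfsg.suzukiForm, Matrix.mul_apply, Fin.sum_univ_four] <;>
        grobner
    · rintro _ ⟨t, rfl⟩
      show (htMat m t)ᵀ * Cfsg.suzukiForm F * htMat m t = Cfsg.suzukiForm F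
      have ht0 : (t : F) ≠ 0 := t.ne_zero
      have hs : sg F m (t : F) ≠ 0 := (map_ne_zero (sg F m)).2 ht0
      ext i j
      rw [htMat, Matrix.diagonal_transpose, Matrix.mul_diagonal, Matrix.diagonal_mul]
      fin_cases i <;> fin_cases j <;> simp [Cfsg.suzukiForm] <;> field_simp
    · show (Cfsg.suzukiForm F)ᵀ * Cfsg.suzukiForm F * Cfsg.suzukiForm F = Cfsg.suzukiForm F
      ext i j
      fin_cases i <;> fin_cases j <;>
        simp [Cfsg.suzukiForm, Matrix.mul_apply, Fin.sum_univ_four]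
  rw [closure_eq_top] at hle
  exact Subgroup.mem_subgroupOf.1 (hle (Subgroup.mem_top (⟨g, hg⟩ : Gp F m)))

theorem isZassenhaus : Cfsg.IsZassenhausGroup (Gp F m) (Pts F m) := by
  obtain ⟨t, ht⟩ := exists_unit_ne_one (F := F) (m := m)
  have ht1 : gH (m := m) t ≠ 1 := fun h => ht (gH_injective (h.trans (map_one _).symm))
  refine ⟨⟨fun {g g'} h => ?_⟩, two_transitive,
    fun g a b c hab hbc hac => eq_one_of_fix_three hab hac hbc,
    ⟨gH t, ht1, pinf F m, paff 0 0, Ne.symm (paff_ne_pinf _ _), gH_smul_pinf t,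
      by simp [gH_smul_paff]⟩, fun N hN hpre => ?_⟩
  · by_contra hne
    refine hne (inv_mul_eq_one.1 (eq_one_of_fix_three (g := g⁻¹ * g') (p := pinf F m)
      (q := paff 0 0) (r := paff 1 0) (Ne.symm (paff_ne_pinf _ _)) (Ne.symm (paff_ne_pinf _ _))
      (fun e => zero_ne_one (paff_inj e).1) ?_ ?_ ?_))
    all_goals rw [mul_smul, inv_smul_eq_iff, h]
  · rcases (isSimpleGroup_gp (F := F) (m := m)).eq_bot_or_eq_top_of_normal N hN with rfl | rfl
    · obtain ⟨⟨n, hn⟩, h⟩ := hpre.exists_smul_eq (pinf F m) (paff 0 0)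
      rw [Subgroup.mem_bot] at hn
      subst hn
      change (1 : Gp F m) • pinf F m = paff 0 0 at h
      rw [one_smul] at h
      exact absurd h.symm (paff_ne_pinf _ _)
    · refine ⟨pinf F m, fun h => ht1 ?_⟩
      have := (Subgroup.eq_bot_iff_forall _).1 h ⟨gH t, Subgroup.mem_top _⟩ (gH_smul_pinf t)
      exact congrArg Subtype.val this

end CfsgLib.Suzuki
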