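import Mathlib
import Cfsg.Prelude.Def_Sz
import Cfsg.Agent.Lib.Suzuki.Symp

/-!
# The two models of the Suzuki group: the ovoid stabilizer and the fixed points of the polarity
-/

set_option autoImplicit false
set_option linter.unusedSectionVars false

namespace CfsgLib.Suzuki

open Matrix MulAction
open scoped Pointwise

variable {F : Type*} [Field F] [Fintype F] [CharP F 2] {m : ℕ} [hP : Param F m]

/-- The Plücker coordinates on the four index pairs. -/
def minors (v u : Fin 4 → F) (p : Fin 4) : F :=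
  v (Cfsg.Lie.pairOf p).1 * u (Cfsg.Lie.pairOf p).2 - v (Cfsg.Lie.pairOf p).2 * u (Cfsg.Lie.pairOf p).1

variable (m) in
/-- The vectors `v` with a partner `u` whose line has the Plücker coordinates `σ v`. -/
def IsPolar (v : Fin 4 → F) : Prop :=
  ∃ u : Fin 4 → F, Cfsg.Lie.altForm4 v u = 0 ∧ ∀ p, minors v u p = sg F m (v p)

include hP

theorem isPolar_smul {v : Fin 4 → F} (hv : IsPolar m v) {c : F} (hc : c ≠ 0) :
    IsPolar m (c • v) := by
  obtain ⟨u, hB, hu⟩ := hv
  refine ⟨(sg F m c * c⁻¹) • u, ?_, fun p => ?_⟩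
  · simp only [Cfsg.Lie.altForm4, Pi.smul_apply, smul_eq_mul] at hB ⊢
    linear_combination (c * (sg F m c * c⁻¹)) * hB
  · have := hu p
    simp only [minors, Pi.smul_apply, smul_eq_mul, map_mul] at this ⊢
    rw [← this]
    field_simp

theorem isPolar_inf : IsPolar m (![1, 0, 0, 0] : Fin 4 → F) := by
  refine ⟨![0, 1, 0, 0], by simp [Cfsg.Lie.altForm4], fun p => ?_⟩
  fin_cases p <;> simp [minors, Cfsg.Lie.pairOf]

theorem isPolar_vec (x y : F) : IsPolar m (vec m x y) := by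
  have h2 : (2 : F) = 0 := two_eq_zero
  refine ⟨![y + x * sg F m x, sg F m x, 1, 0], ?_, fun p => ?_⟩
  · simp [Cfsg.Lie.altForm4, vec]
    linear_combination (y + x * sg F m x) * h2
  · fin_cases p <;>
      simp [minors, Cfsg.Lie.pairOf, vec, ov, map_add, map_mul, map_pow, sg_sg hP.card] <;>
      grobner

theorem mem_ovoid_of_isPolar {v : Fin 4 → F} (hv0 : v ≠ 0) (hv : IsPolar m v) :
    Projectivization.mk F v hv0 ∈ Cfsg.suzukiOvoid F m := by
  have h2 : (2 : F) = 0 := two_eq_zero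
  rw [mem_ovoid_iff]
  by_cases h3 : v 3 = 0
  · left
    obtain ⟨u, hB, hu⟩ := hv
    simp only [Cfsg.Lie.altForm4] at hB
    have e02 := hu 1
    have e13 := hu 2
    have e23 := hu 3
    simp [minors, Cfsg.Lie.pairOf, h3] at e02 e13 e23
    obtain ⟨hv1, hv2⟩ : v 1 = 0 ∧ v 2 = 0 := by
      by_cases hu3 : u 3 = 0
      · have hv2 : v 2 = 0 := by
          rw [hu3, mul_zero] at e13
          exact sg_injective (e13.symm.trans (map_zero (sg F m)).symm)
        refine ⟨?_, hv2⟩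
        rw [h3, hu3, hv2, mul_zero, zero_mul, zero_mul, zero_add, add_zero, add_zero, mul_eq_zero]
          at hB
        refine hB.elim id fun hu2 => ?_
        rw [hv2, hu2, mul_zero, zero_mul, sub_zero] at e02
        exact sg_injective (e02.symm.trans (map_zero (sg F m)).symm)
      · have hv2 : v 2 = 0 := e23.resolve_right hu3
        rw [hv2, map_zero] at e13
        exact ⟨(mul_eq_zero.1 e13).resolve_right hu3, hv2⟩
    refine (Projectivization.mk_eq_mk_iff' F _ _ _ _).2 ⟨v 0, ?_⟩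
    funext i
    fin_cases i <;> simp [hv1, hv2, h3]
  · right
    obtain ⟨u, hB, hu⟩ := isPolar_smul hv (inv_ne_zero h3)
    set w := (v 3)⁻¹ • v with hw
    have hw3 : w 3 = 1 := by simp [w, h3]
    refine ⟨w 2, w 1, (Projectivization.mk_eq_mk_iff' F _ _ _ _).2 ⟨v 3, ?_⟩⟩
    simp only [Cfsg.Lie.altForm4] at hB
    have e02 := hu 1
    have e13 := hu 2
    have e23 := hu 3
    simp [minors, Cfsg.Lie.pairOf, hw3] at e02 e13 e23
    rw [hw3] at hB
    have hov : ov m (w 2) (w 1) = w 0 := by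
      simp only [ov]
      grobner
    funext i
    fin_cases i
    · show v 3 * ov m (w 2) (w 1) = v 0
      rw [hov, hw, Pi.smul_apply, smul_eq_mul, mul_inv_cancel_left₀ h3]
    · show v 3 * w 1 = v 1
      rw [hw, Pi.smul_apply, smul_eq_mul, mul_inv_cancel_left₀ h3]
    · show v 3 * w 2 = v 2
      rw [hw, Pi.smul_apply, smul_eq_mul, mul_inv_cancel_left₀ h3]
    · show v 3 * 1 = v 3
      rw [mul_one]

theorem isPolar_of_mem {v : Fin 4 → F} (hv0 : v ≠ 0)
    (h : Projectivization.mk F v hv0 ∈ Cfsg.suzukiOvoid F m) : IsPolar m v := by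
  rcases mem_ovoid_iff.1 h with h | ⟨x, y, h⟩
  · obtain ⟨c, hc⟩ := (Projectivization.mk_eq_mk_iff' F _ _ _ _).1 h
    rw [← hc]
    exact isPolar_smul isPolar_inf fun e => hv0 (by rw [← hc, e, zero_smul])
  · obtain ⟨c, hc⟩ := (Projectivization.mk_eq_mk_iff' F _ _ _ _).1 h
    rw [← hc]
    exact isPolar_smul (isPolar_vec x y) fun e => hv0 (by rw [← hc, e, zero_smul])

omit hP in
theorem transpose_form {g : GL (Fin 4) F} (hg : g ∈ Cfsg.Lie.Sp4 F) :
    (g : Matrix (Fin 4) (Fin 4) F)ᵀ * Cfsg.suzukiForm F * (g : Matrix (Fin 4) (Fin 4) F) =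
      Cfsg.suzukiForm F := by
  ext i j
  have h : Cfsg.Lie.altForm4 ((g : Matrix (Fin 4) (Fin 4) F) *ᵥ Pi.single i 1)
      ((g : Matrix (Fin 4) (Fin 4) F) *ᵥ Pi.single j 1) =
        Cfsg.Lie.altForm4 (Pi.single i 1 : Fin 4 → F) (Pi.single j 1) :=
    hg (Pi.single i 1) (Pi.single j 1)
  simp only [Matrix.mulVec_single_one, Matrix.col_apply, Cfsg.Lie.altForm4] at h
  have e : Cfsg.suzukiForm F i j = Cfsg.Lie.altForm4 (Pi.single i 1 : Fin 4 → F) (Pi.single j 1) := by
    fin_cases i <;> fin_cases j <;> simp [Cfsg.suzukiForm, Cfsg.Lie.altForm4, Pi.single_apply]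
  rw [e, Cfsg.Lie.altForm4, ← h]
  simp [Matrix.mul_apply, Fin.sum_univ_four, Cfsg.suzukiForm]
  ring

omit hP in
theorem det_eq_one {g : GL (Fin 4) F} (hg : g ∈ Cfsg.Lie.Sp4 F) :
    (g : Matrix (Fin 4) (Fin 4) F).det = 1 := by
  have hJ : (Cfsg.suzukiForm F) * (Cfsg.suzukiForm F) = 1 := by
    ext i j
    fin_cases i <;> fin_cases j <;> simp [Cfsg.suzukiForm, Matrix.mul_apply, Fin.sum_univ_four]
  have h := congrArg Matrix.det (transpose_form hg)
  rw [Matrix.det_mul, Matrix.det_mul, Matrix.det_transpose] at h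
  have hJd : (Cfsg.suzukiForm F).det ≠ 0 := fun e => by
    have := congrArg Matrix.det hJ
    rw [Matrix.det_mul, e, mul_zero, Matrix.det_one] at this
    exact zero_ne_one this
  have h' : (g : Matrix (Fin 4) (Fin 4) F).det * (g : Matrix (Fin 4) (Fin 4) F).det = 1 := by
    refine mul_right_cancel₀ hJd ?_
    linear_combination h
  have h0 : ((g : Matrix (Fin 4) (Fin 4) F).det - 1) ^ 2 = 0 := by
    linear_combination h' + (1 - (g : Matrix (Fin 4) (Fin 4) F).det) * two_eq_zero (F := F)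
  exact sub_eq_zero.1 (eq_zero_of_pow_eq_zero h0)

omit hP in
theorem form_transpose {g : GL (Fin 4) F} (hg : g ∈ Cfsg.Lie.Sp4 F) :
    (g : Matrix (Fin 4) (Fin 4) F) * Cfsg.suzukiForm F * (g : Matrix (Fin 4) (Fin 4) F)ᵀ =
      Cfsg.suzukiForm F := by
  have h := transpose_form hg
  have hJ : (Cfsg.suzukiForm F) * (Cfsg.suzukiForm F) = 1 := by
    ext i j
    fin_cases i <;> fin_cases j <;> simp [Cfsg.suzukiForm, Matrix.mul_apply, Fin.sum_univ_four]
  set M := (g : Matrix (Fin 4) (Fin 4) F)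
  set J := Cfsg.suzukiForm F
  have e : (J * Mᵀ * J) * M = 1 := by rw [mul_assoc J, mul_assoc J, h, hJ]
  have e' : M * (J * Mᵀ * J) = 1 := mul_eq_one_comm.1 e
  calc M * J * Mᵀ = M * (J * Mᵀ * J) * J := by simp only [mul_assoc, hJ, mul_one]
    _ = J := by rw [e', one_mul]

omit hP in
theorem minors_mulVec {g : GL (Fin 4) F} (hg : g ∈ Cfsg.Lie.Sp4 F) {v u : Fin 4 → F}
    (hB : Cfsg.Lie.altForm4 v u = 0) (p : Fin 4) :
    minors ((g : Matrix (Fin 4) (Fin 4) F) *ᵥ v) ((g : Matrix (Fin 4) (Fin 4) F) *ᵥ u) p =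
      ∑ r, Cfsg.Lie.star4 (g : Matrix (Fin 4) (Fin 4) F) p r * minors v u r := by
  have h := form_transpose hg
  have h2 : (2 : F) = 0 := two_eq_zero
  have key : ∀ k l : Fin 4, Cfsg.suzukiForm F k l = 0 →
      (g : Matrix (Fin 4) (Fin 4) F) k 0 * (g : Matrix (Fin 4) (Fin 4) F) l 3 +
      (g : Matrix (Fin 4) (Fin 4) F) k 1 * (g : Matrix (Fin 4) (Fin 4) F) l 2 +
      (g : Matrix (Fin 4) (Fin 4) F) k 2 * (g : Matrix (Fin 4) (Fin 4) F) l 1 +
      (g : Matrix (Fin 4) (Fin 4) F) k 3 * (g : Matrix (Fin 4) (Fin 4) F) l 0 = 0 := by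
    intro k l hkl
    have := congrFun (congrFun h k) l
    rw [hkl] at this
    rw [← this]
    simp [Matrix.mul_apply, Fin.sum_univ_four, Cfsg.suzukiForm]
    ring
  have hk : Cfsg.suzukiForm F (Cfsg.Lie.pairOf p).1 (Cfsg.Lie.pairOf p).2 = 0 := by
    fin_cases p <;> simp [Cfsg.suzukiForm, Cfsg.Lie.pairOf]
  have hkey := key _ _ hk
  simp only [Cfsg.Lie.altForm4] at hB
  simp only [minors, Cfsg.Lie.star4, Matrix.of_apply, Matrix.mulVec, dotProduct, Fin.sum_univ_four]
  generalize (Cfsg.Lie.pairOf p).1 = k at *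
  generalize (Cfsg.Lie.pairOf p).2 = l at *
  simp only [Cfsg.Lie.pairOf, Matrix.cons_val_zero, Matrix.cons_val_one, Matrix.cons_val_two,
    Matrix.cons_val_three, Matrix.head_cons, Matrix.tail_cons]
  grobner

omit hP in
theorem altForm4_mulVec {g : GL (Fin 4) F} (hg : g ∈ Cfsg.Lie.Sp4 F) (v u : Fin 4 → F) :
    Cfsg.Lie.altForm4 ((g : Matrix (Fin 4) (Fin 4) F) *ᵥ v) ((g : Matrix (Fin 4) (Fin 4) F) *ᵥ u) =
      Cfsg.Lie.altForm4 v u := hg v u

/-- The embedding of the ovoid stabilizer in the general linear group. -/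
def toGLEmb : Gp F m →* GL (Fin 4) F :=
  (Matrix.SpecialLinearGroup.toGL (n := Fin 4) (R := F)).comp (Cfsg.Sz F m).subtype

theorem toGLEmb_injective : Function.Injective (toGLEmb (F := F) (m := m)) :=
  fun _ _ h => Subtype.ext (Matrix.SpecialLinearGroup.toGL_injective h)

theorem toGLEmb_mem_Sp4 (g : Gp F m) : toGLEmb g ∈ Cfsg.Lie.Sp4 F := by
  intro u v
  have h : (g.1 : Matrix (Fin 4) (Fin 4) F)ᵀ * Cfsg.suzukiForm F *
      (g.1 : Matrix (Fin 4) (Fin 4) F) = Cfsg.suzukiForm F := mem_isoms g.2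
  have e : ∀ a b : Fin 4 → F, Cfsg.Lie.altForm4 a b = a ⬝ᵥ (Cfsg.suzukiForm F *ᵥ b) := fun a b => by
    simp [Cfsg.Lie.altForm4, dotProduct, Matrix.mulVec, Fin.sum_univ_four, Cfsg.suzukiForm]
  show Cfsg.Lie.altForm4 ((g.1 : Matrix (Fin 4) (Fin 4) F) *ᵥ u)
    ((g.1 : Matrix (Fin 4) (Fin 4) F) *ᵥ v) = _
  rw [e, e, Matrix.dotProduct_mulVec, Matrix.vecMul_mulVec, Matrix.dotProduct_mulVec _ _ v,
    Matrix.dotProduct_mulVec, Matrix.vecMul_vecMul, ← Matrix.dotProduct_mulVec u, h,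
    Matrix.dotProduct_mulVec]

theorem range_toGLEmb : (toGLEmb (F := F) (m := m)).range = Cfsg.Lie.Sz F (2 ^ (m + 1)) := by
  refine le_antisymm ?_ ((Subgroup.closure_le _).2 ?_)
  · have key : ∀ g : Gp F m, Cfsg.Lie.star4 (g.1 : Matrix (Fin 4) (Fin 4) F) =
        (g.1 : Matrix (Fin 4) (Fin 4) F).map (fun x => sg F m x) →
        toGLEmb g ∈ Cfsg.Lie.Sz F (2 ^ (m + 1)) := fun g h => by
      refine Subgroup.subset_closure ⟨toGLEmb_mem_Sp4 g, ?_⟩
      simp only [← sg_def (F := F) (m := m)]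
      exact h
    rw [MonoidHom.range_eq_map, ← closure_eq_top, Subgroup.map_le_iff_le_comap]
    refine sup_le (sup_le ?_ ?_) (Subgroup.zpowers_le.2 (key _ ?_))
    · rintro _ ⟨a, b, rfl⟩
      refine key _ ?_
      show Cfsg.Lie.star4 (trMat m a b) = (trMat m a b).map (fun x => sg F m x)
      ext i j
      fin_cases i <;> fin_cases j <;>
        simp [Cfsg.Lie.star4, Cfsg.Lie.pairOf, trMat, ov, map_add, map_mul, map_pow, sg_sg hP.card] <;>
        grobner
    · rintro _ ⟨t, rfl⟩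
      refine key _ ?_
      show Cfsg.Lie.star4 (htMat m t) = (htMat m t).map (fun x => sg F m x)
      have ht0 : (t : F) ≠ 0 := t.ne_zero
      have hs : sg F m (t : F) ≠ 0 := (map_ne_zero (sg F m)).2 ht0
      ext i j
      fin_cases i <;> fin_cases j <;>
        simp [Cfsg.Lie.star4, Cfsg.Lie.pairOf, htMat, map_mul, map_pow, map_inv₀, sg_sg hP.card] <;>
        field_simp
    · show Cfsg.Lie.star4 (Cfsg.suzukiForm F) = (Cfsg.suzukiForm F).map (fun x => sg F m x)
      ext i j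
      fin_cases i <;> fin_cases j <;>
        simp [Cfsg.Lie.star4, Cfsg.Lie.pairOf, Cfsg.suzukiForm, CharTwo.neg_eq]
  · rintro g ⟨hg, hstar⟩
    let h : SpecialLinearGroup (Fin 4) F := ⟨(g : Matrix (Fin 4) (Fin 4) F), det_eq_one hg⟩
    have hmem : h ∈ Cfsg.Sz F m := by
      refine mem_Sz_of_mapsTo fun p hp => ?_
      induction p using Projectivization.ind with
      | _ v hv =>
        obtain ⟨u, hB, hu⟩ := isPolar_of_mem hv hp
        refine mem_ovoid_of_isPolar ((smul_ne_zero_iff_ne h).mpr hv) ?_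
        show IsPolar m ((g : Matrix (Fin 4) (Fin 4) F) *ᵥ v)
        refine ⟨(g : Matrix (Fin 4) (Fin 4) F) *ᵥ u, by rw [altForm4_mulVec hg, hB], fun p => ?_⟩
        rw [minors_mulVec hg hB, hstar]
        simp only [Matrix.map_apply, ← sg_def (F := F) (m := m), hu, Matrix.mulVec, dotProduct,
          map_sum, map_mul]
    exact ⟨⟨h, hmem⟩, Units.ext rfl⟩

variable (F m) in
/-- The two models agree. -/
noncomputable def lieEquiv : Gp F m ≃* ↥(Cfsg.Lie.Sz F (2 ^ (m + 1))) :=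
  (MonoidHom.ofInjective toGLEmb_injective).trans (MulEquiv.subgroupCongr range_toGLEmb)

end CfsgLib.Suzuki
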