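import Mathlib

/-!
Elements of prime order dividing `q² + 1` in `GL₄(q)`, `q` even: centralizers are cyclic and
automizers have exponent dividing four.
-/

set_option autoImplicit false

namespace CfsgLib.Suzuki.GLFour

open Matrix Polynomial

variable {K : Type*} [Field K] [Fintype K] [CharP K 2]

/-- The order of `q` modulo a prime divisor of `q² + 1` is four. -/
lemma orderOf_card_eq_four {p : ℕ} (hp : p.Prime) (hd : p ∣ Fintype.card K ^ 2 + 1) :
    orderOf (Fintype.card K : ZMod p) = 4 := by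
  have := Fact.mk hp
  obtain ⟨n, -, hn⟩ := FiniteField.card K 2
  have hodd : Odd (Fintype.card K ^ 2 + 1) := by
    rw [hn]
    exact Even.add_one (((Nat.even_pow).2 ⟨even_two, n.2.ne'⟩).pow_of_ne_zero two_ne_zero)
  have hp2 : p ≠ 2 := by
    rintro rfl
    exact Nat.not_even_iff_odd.2 hodd (even_iff_two_dvd.2 hd)
  have hz : ((Fintype.card K ^ 2 + 1 : ℕ) : ZMod p) = 0 := (ZMod.natCast_eq_zero_iff _ _).2 hd
  rw [Nat.cast_add, Nat.cast_pow, Nat.cast_one] at hz
  set z := (Fintype.card K : ZMod p)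
  have h2 : (2 : ZMod p) ≠ 0 := by
    intro h
    have : ((2 : ℕ) : ZMod p) = 0 := by exact_mod_cast h
    exact hp2 ((Nat.prime_dvd_prime_iff_eq hp Nat.prime_two).1 ((ZMod.natCast_eq_zero_iff _ _).1 this))
  refine orderOf_eq_prime_pow (p := 2) (n := 1) ?_ ?_
  · intro h
    exact h2 (by rw [pow_one] at h; linear_combination hz - h)
  · show z ^ 4 = 1
    linear_combination (z ^ 2 - 1) * hz

/-- The regular representation of the field of degree four. -/
theorem exists_rep : ∃ (L : Type) (_ : Field L) (_ : Finite L) (_ : Algebra K L)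
    (φ : L →ₐ[K] Matrix (Fin 4) (Fin 4) K), Function.Injective φ ∧ Module.finrank K L = 4 ∧
      Nat.card L = Fintype.card K ^ 4 ∧ ∀ M, (∀ l, M * φ l = φ l * M) → ∃ l, φ l = M := by
  have : Fact (Nat.Prime 2) := ⟨Nat.prime_two⟩
  have : NeZero (4 : ℕ) := ⟨by norm_num⟩
  let b := Module.finBasisOfFinrankEq K (FiniteField.Extension K 2 4)
    (FiniteField.finrank_extension K 2 4)
  refine ⟨FiniteField.Extension K 2 4, inferInstance, inferInstance, inferInstance,
    Algebra.leftMulMatrix b, Algebra.leftMulMatrix_injective _, FiniteField.finrank_extension K 2 4,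
    ?_, fun M hM => ⟨Matrix.toLin b b M 1, ?_⟩⟩
  · rw [FiniteField.natCard_extension, Nat.card_eq_fintype_card]
  · apply (Matrix.toLin b b).injective
    refine LinearMap.ext fun l => ?_
    have h := LinearMap.congr_fun (congrArg (Matrix.toLin b b) (hM l)) 1
    rw [Matrix.toLin_mul b b b, Matrix.toLin_mul b b b] at h
    simp only [LinearMap.comp_apply, Algebra.leftMulMatrix_apply, Matrix.toLin_toMatrix] at h ⊢
    simp only [Algebra.lmul] at h ⊢
    simpa [mul_comm] using h.symm

/-- The multiplicative group of the extension inside `GL₄`. -/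
def singerHom {L : Type} [Field L] [Algebra K L]
    (φ : L →ₐ[K] Matrix (Fin 4) (Fin 4) K) : Lˣ →* GL (Fin 4) K :=
  Units.map φ.toRingHom.toMonoidHom

lemma singerHom_injective {L : Type} [Field L] [Algebra K L]
    {φ : L →ₐ[K] Matrix (Fin 4) (Fin 4) K} (hφ : Function.Injective φ) :
    Function.Injective (singerHom φ) := Units.map_injective (f := φ.toRingHom.toMonoidHom) hφ

/-- The Singer cyclic subgroup is a Hall subgroup at `p`. -/
lemma card_GL_four {p : ℕ} (hp : p.Prime) (hd : p ∣ Fintype.card K ^ 2 + 1) :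
    ∃ c, Nat.card (GL (Fin 4) K) = (Fintype.card K ^ 4 - 1) * c ∧ ¬ p ∣ c := by
  have := Fact.mk hp
  have ho := orderOf_card_eq_four (K := K) hp hd
  have hq1 : 1 < Fintype.card K := Fintype.one_lt_card
  rw [Matrix.card_GL_field]
  generalize Fintype.card K = q at *
  have hpq : ¬ p ∣ q := fun h => by
    rw [(ZMod.natCast_eq_zero_iff _ _).2 h, orderOf_zero] at ho
    omega
  have hpow : ∀ j, 0 < j → j ≤ 3 → ¬ p ∣ q ^ j - 1 := by
    intro j h1 h2 h
    have h0 : ((q ^ j - 1 : ℕ) : ZMod p) = 0 := (ZMod.natCast_eq_zero_iff _ _).2 h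
    rw [Nat.cast_sub (Nat.one_le_pow _ _ (by omega)), Nat.cast_pow, Nat.cast_one, sub_eq_zero] at h0
    have h3 := orderOf_dvd_of_pow_eq_one h0
    rw [ho] at h3
    omega
  have hfac : ∀ i : ℕ, i ≤ 3 → q ^ 4 - q ^ i = q ^ i * (q ^ (4 - i) - 1) := fun i hi => by
    rw [Nat.mul_sub, mul_one, ← pow_add, Nat.add_sub_cancel' (by omega)]
  refine ⟨q ^ 6 * ((q ^ 3 - 1) * (q ^ 2 - 1) * (q - 1)), ?_, ?_⟩
  · simp only [Fin.prod_univ_four, Fin.val_zero, Fin.val_one, Fin.val_two]
    rw [show ((3 : Fin 4) : ℕ) = 3 from rfl,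
      hfac 0 (by omega), hfac 1 (by omega), hfac 2 (by omega), hfac 3 le_rfl]
    simp only [Nat.reduceSub, pow_one, pow_zero, one_mul]
    ring
  · simp only [Nat.Prime.dvd_mul hp, not_or]
    exact ⟨fun h => hpq (hp.dvd_of_dvd_pow h), ⟨hpow 3 (by omega) le_rfl,
      hpow 2 (by omega) (by omega)⟩, by simpa using hpow 1 (by omega) (by omega)⟩

/-- Some Sylow subgroup lies in the Singer subgroup. -/
lemma exists_conj_mem_range {p : ℕ} [hp : Fact p.Prime]
    (hd : p ∣ Fintype.card K ^ 2 + 1) {L : Type} [Field L] [Finite L] [Algebra K L]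
    {φ : L →ₐ[K] Matrix (Fin 4) (Fin 4) K} (hφ : Function.Injective φ)
    (hL : Nat.card L = Fintype.card K ^ 4) {x : GL (Fin 4) K} (hx : orderOf x = p) :
    ∃ u z, singerHom φ z = u * x * u⁻¹ ∧ orderOf z = p := by
  obtain ⟨c, hc, hpc⟩ := card_GL_four (K := K) hp.out hd
  set H := (singerHom φ).range
  have hH : Nat.card H = Fintype.card K ^ 4 - 1 := by
    rw [← Nat.card_congr (MonoidHom.ofInjective (singerHom_injective hφ)).toEquiv, Nat.card_units, hL]
  obtain ⟨Q, hQ⟩ := Sylow.exists_subgroup_card_pow_prime (G := H) p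
    (Nat.ordProj_dvd (Nat.card H) p)
  let P0 : Sylow p (GL (Fin 4) K) := Sylow.ofCard (Q.map H.subtype) (by
    rw [Subgroup.card_map_of_injective H.subtype_injective, hQ, hc, hH,
      Nat.factorization_mul (by rw [← hH]; exact Nat.card_pos.ne')
        (fun h => hpc (by rw [h]; exact dvd_zero p)),
      Finsupp.add_apply, Nat.factorization_eq_zero_of_not_dvd hpc, add_zero])
  obtain ⟨P, hP⟩ := (IsPGroup.of_card (p := p) (G := Subgroup.zpowers x) (n := 1)
    (by rw [Nat.card_zpowers, hx, pow_one])).exists_le_sylow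
  obtain ⟨u, hu⟩ := MulAction.exists_smul_eq (GL (Fin 4) K) P P0
  have hux : u * x * u⁻¹ ∈ (P0 : Subgroup (GL (Fin 4) K)) := by
    rw [← hu]
    exact Subgroup.smul_mem_pointwise_smul x (MulAut.conj u) _ (hP (Subgroup.mem_zpowers x))
  obtain ⟨z, hz⟩ := Subgroup.map_subtype_le Q hux
  refine ⟨u, z, hz, ?_⟩
  rw [← orderOf_injective _ (singerHom_injective hφ) z, hz, ← MulAut.conj_apply,
    MulEquiv.orderOf_eq, hx]

/-- A subalgebra containing an element of order `p` is everything. -/
lemma subalgebra_eq_top {p : ℕ} (hp : p.Prime) (hd : p ∣ Fintype.card K ^ 2 + 1)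
    {L : Type} [Field L] [Finite L] [Algebra K L] (hrk : Module.finrank K L = 4)
    (S : Subalgebra K L) {z : Lˣ} (hz : orderOf z = p) (hzS : (z : L) ∈ S) : S = ⊤ := by
  classical
  have : Module.Finite K L := Module.Finite.of_finite
  let : Fintype S := Fintype.ofFinite S
  let : Field S := Fintype.fieldOfDomain S
  have := Fact.mk hp
  have hq : 1 < Fintype.card K := Fintype.one_lt_card
  have hcard : Fintype.card S = Fintype.card K ^ Module.finrank K S :=
    Module.card_eq_pow_finrank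
  have h1 : (⟨(z : L), hzS⟩ : S) ^ (Fintype.card S - 1) = 1 :=
    FiniteField.pow_card_sub_one_eq_one _ fun h => z.ne_zero (congrArg Subtype.val h)
  have h2 : z ^ (Fintype.card S - 1) = 1 := Units.ext (by
    rw [Units.val_pow_eq_pow_val]
    exact congrArg Subtype.val h1)
  have h3 := orderOf_dvd_of_pow_eq_one h2
  rw [hz, hcard, ← ZMod.natCast_eq_zero_iff, Nat.cast_sub (Nat.one_le_pow _ _ (by omega)),
    Nat.cast_pow, Nat.cast_one, sub_eq_zero] at h3
  have h4 := orderOf_dvd_of_pow_eq_one h3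
  rw [orderOf_card_eq_four hp hd] at h4
  have hle : Module.finrank K S ≤ 4 := hrk ▸ Submodule.finrank_le (Subalgebra.toSubmodule S)
  have hpos : 0 < Module.finrank K S := Module.finrank_pos
  rw [← Algebra.toSubmodule_eq_top]
  exact Submodule.eq_top_of_finrank_eq ((Nat.le_antisymm hle (Nat.le_of_dvd hpos h4)).trans hrk.symm)

/-- Centralizers of elements of order `p` are cyclic. -/
theorem cent_cyclic {p : ℕ} [hp : Fact p.Prime] (hd : p ∣ Fintype.card K ^ 2 + 1)
    {x : GL (Fin 4) K} (hx : orderOf x = p) : IsCyclic ↥(Subgroup.centralizer {x}) := by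
  obtain ⟨L, _, _, _, φ, hφ, hrk, hL, hcomm⟩ := exists_rep (K := K)
  obtain ⟨u, z, hz, hzo⟩ := exists_conj_mem_range hd hφ hL hx
  have : IsCyclic ↥((singerHom φ).range) :=
    isCyclic_of_surjective _ (singerHom φ).rangeRestrict_surjective
  have key : ∀ c ∈ Subgroup.centralizer {x}, u * c * u⁻¹ ∈ (singerHom φ).range := by
    intro c hc
    rw [Subgroup.mem_centralizer_singleton_iff] at hc
    have hm : (u * c * u⁻¹) * singerHom φ z = singerHom φ z * (u * c * u⁻¹) := by
      rw [hz]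
      calc u * c * u⁻¹ * (u * x * u⁻¹) = u * (c * x) * u⁻¹ := by group
        _ = u * (x * c) * u⁻¹ := by rw [hc]
        _ = _ := by group
    set M := u * c * u⁻¹
    let S : Subalgebra K L := (Subalgebra.centralizer K {(M : Matrix (Fin 4) (Fin 4) K)}).comap φ
    have hS := subalgebra_eq_top hp.out hd hrk S hzo (by
      rw [Subalgebra.mem_comap, Subalgebra.mem_centralizer_iff]
      rintro _ rfl
      exact congrArg Units.val hm)
    obtain ⟨l, hl⟩ := hcomm M fun l => by
      have : l ∈ S := hS ▸ Algebra.mem_top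
      rw [Subalgebra.mem_comap, Subalgebra.mem_centralizer_iff] at this
      exact this _ rfl
    have hl0 : l ≠ 0 := fun h => M.ne_zero (by rw [← hl, h, map_zero])
    exact ⟨Units.mk0 l hl0, Units.ext hl⟩
  let f : ↥(Subgroup.centralizer {x}) →* ↥((singerHom φ).range) :=
    ((MulAut.conj u).toMonoidHom.comp (Subgroup.centralizer {x}).subtype).codRestrict _
      fun c => key c c.2
  exact isCyclic_of_injective f fun a b h =>
    Subtype.ext ((MulAut.conj u).injective (congrArg Subtype.val h))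

omit [Fintype K] [CharP K 2] in
/-- Polynomials preserve intertwining. -/
lemma aeval_semiconj {A : Type*} [Ring A] [Algebra K A] {g a b : A} (h : g * a = b * g) (f : K[X]) :
    g * aeval a f = aeval b f * g := by
  induction f using Polynomial.induction_on' with
  | add f1 f2 h1 h2 => rw [map_add, map_add, mul_add, add_mul, h1, h2]
  | monomial n c =>
    rw [aeval_monomial, aeval_monomial, ← mul_assoc, ← Algebra.commutes, mul_assoc, mul_assoc,
      (SemiconjBy.pow_right (show SemiconjBy g a b from h) n).eq]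

/-- The automizer of an element of order `p` has exponent dividing four. -/
theorem autom {p : ℕ} [hp : Fact p.Prime] (hd : p ∣ Fintype.card K ^ 2 + 1)
    {x g : GL (Fin 4) K} (hx : orderOf x = p)
    {i : ℕ} (hg : g * x * g⁻¹ = x ^ i) : i ^ 4 ≡ 1 [MOD p] := by
  obtain ⟨L, _, _, _, φ, hφ, hrk, hL, -⟩ := exists_rep (K := K)
  obtain ⟨u, z, hz, hzo⟩ := exists_conj_mem_range hd hφ hL hx
  set g' := u * g * u⁻¹
  have hg' : g' * singerHom φ z = singerHom φ (z ^ i) * g' := by
    rw [map_pow, hz, conj_pow, ← hg]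
    simp only [g']
    group
  have hv : (g' : Matrix (Fin 4) (Fin 4) K) * φ (z : L) = φ ((z ^ i : Lˣ) : L) * g' :=
    congrArg Units.val hg'
  have e := aeval_semiconj (K := K) hv (minpoly K (z : L))
  rw [aeval_algHom_apply, aeval_algHom_apply, minpoly.aeval, map_zero, mul_zero] at e
  have h3 : aeval ((z ^ i : Lˣ) : L) (minpoly K (z : L)) = 0 :=
    hφ (by rw [map_zero]; exact (Units.mul_left_eq_zero g').1 e.symm)
  have : FiniteDimensional K L := Module.Finite.of_finite
  obtain ⟨σ0, hσ0⟩ := minpoly.exists_algEquiv_of_root (K := K)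
    (Algebra.IsAlgebraic.isAlgebraic (z : L)) h3
  set σ : L ≃ₐ[K] L := σ0⁻¹
  have hσ : σ (z : L) = ((z ^ i : Lˣ) : L) := by
    rw [← hσ0]
    exact σ0.symm_apply_apply _
  have hcard : Nat.card (L ≃ₐ[K] L) = 4 := by rw [IsGalois.card_aut_eq_finrank, hrk]
  have hσ4 : σ ^ 4 = 1 := hcard ▸ pow_card_eq_one'
  have hpow : ∀ n : ℕ, (σ ^ n) (z : L) = (z : L) ^ i ^ n := by
    intro n
    induction n with
    | zero => simp
    | succ n ih =>
      have hσ' : σ (z : L) = (z : L) ^ i := by rw [hσ, Units.val_pow_eq_pow_val]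
      rw [pow_succ', AlgEquiv.mul_apply, ih, map_pow, hσ', ← pow_mul, pow_succ, mul_comm]
  have h4 := hpow 4
  rw [hσ4, AlgEquiv.one_apply] at h4
  have h7 : z ^ i ^ 4 = z ^ 1 := Units.ext (by
    rw [Units.val_pow_eq_pow_val, pow_one]; exact h4.symm)
  rw [← hzo]
  exact pow_eq_pow_iff_modEq.1 h7

end CfsgLib.Suzuki.GLFour

namespace CfsgLib.Suzuki.GLFour

open Matrix

/-- An element of prime order dividing `q² + 1` fixes no nonzero vector. -/
theorem fixed_eq_zero {K : Type*} [Field K] [Fintype K] [CharP K 2] {p : ℕ} [hp : Fact p.Prime]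
    (hd : p ∣ Fintype.card K ^ 2 + 1) {x : GL (Fin 4) K} (hx : orderOf x = p) {v : Fin 4 → K}
    (hv : (x : Matrix (Fin 4) (Fin 4) K) *ᵥ v = v) : v = 0 := by
  obtain ⟨L, _, _, _, φ, hφ, -, hL, -⟩ := exists_rep (K := K)
  obtain ⟨u, z, hz, hzo⟩ := exists_conj_mem_range hd hφ hL hx
  have hz1 : (z : L) - 1 ≠ 0 := by
    intro h
    rw [sub_eq_zero, ← Units.val_one] at h
    rw [Units.ext h, orderOf_one] at hzo
    exact hp.out.ne_one hzo.symm
  have h1 : φ (z : L) *ᵥ ((u : Matrix (Fin 4) (Fin 4) K) *ᵥ v) =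
      (u : Matrix (Fin 4) (Fin 4) K) *ᵥ v := by
    have e : φ (z : L) = ((u * x * u⁻¹ : GL (Fin 4) K) : Matrix (Fin 4) (Fin 4) K) :=
      congrArg Units.val hz
    rw [e, mulVec_mulVec, ← Units.val_mul, inv_mul_cancel_right, Units.val_mul, ← mulVec_mulVec, hv]
  have h2 : φ ((z : L) - 1) *ᵥ ((u : Matrix (Fin 4) (Fin 4) K) *ᵥ v) = 0 := by
    rw [map_sub, map_one, sub_mulVec, one_mulVec, h1, sub_self]
  have h3 := congrArg (φ ((z : L) - 1)⁻¹ *ᵥ ·) h2
  simp only [mulVec_mulVec, mulVec_zero, ← mul_assoc, ← map_mul, inv_mul_cancel₀ hz1, map_one,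
    one_mul] at h3
  have h4 := congrArg (((u⁻¹ : GL (Fin 4) K) : Matrix (Fin 4) (Fin 4) K) *ᵥ ·) h3
  simpa [mulVec_mulVec, ← Units.val_mul] using h4

end CfsgLib.Suzuki.GLFour
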