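import Mathlib
import Cfsg.Agent.Lib.Ree.Count
import Cfsg.Agent.Lib.Ree.Hall
import Cfsg.Agent.Lib.Suzuki.GLFour
import Cfsg.Agent.Lib.Suzuki.Structure

/-!
# The Suzuki group: the two tori of order `q ± r + 1`, centralizers, Sylow subgroups
-/

set_option autoImplicit false
set_option linter.unusedSectionVars false

namespace CfsgLib.Suzuki

open MulAction Matrix

variable {F : Type*} [Field F] [Fintype F] [CharP F 2] {m : ℕ} [hP : Param F m]

/-- The inclusion into the general linear group. -/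
def toGLHom : Gp F m →* GL (Fin 4) F :=
  (Matrix.SpecialLinearGroup.toGL (n := Fin 4) (R := F)).comp (Cfsg.Sz F m).subtype

theorem toGLHom_injective : Function.Injective (toGLHom (F := F) (m := m)) :=
  fun _ _ h => Subtype.ext (Matrix.SpecialLinearGroup.toGL_injective h)

include hP

theorem card_group_split : Nat.card (Gp F m) =
    Nat.card (grpH F m) * (Fintype.card F ^ 2 * (Fintype.card F ^ 2 + 1)) := by
  rw [natCard_group, natCard_grpH]; ring

theorem coprime_sq : (Fintype.card F - 1).Coprime (Fintype.card F ^ 2 + 1) := by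
  refine Nat.coprime_of_dvd fun p hp h1 h2 => ?_
  have h8 := eight_le_card (F := F) (m := m)
  have hodd := odd_card_sub_one (F := F) (m := m)
  have e : Fintype.card F ^ 2 + 1 = (Fintype.card F + 1) * (Fintype.card F - 1) + 2 := by
    have h := Nat.sq_sub_sq (Fintype.card F) 1
    have : 1 ≤ Fintype.card F ^ 2 := Nat.one_le_pow _ _ (by omega)
    rw [one_pow] at h
    omega
  rw [e] at h2
  have : p ∣ 2 := (Nat.dvd_add_right (Dvd.dvd.mul_left h1 _)).1 h2
  rw [(Nat.prime_dvd_prime_iff_eq hp Nat.prime_two).1 this] at h1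
  exact Nat.not_even_iff_odd.2 hodd (even_iff_two_dvd.2 h1)

theorem prime_dvd_card {p : ℕ} (hp : p.Prime) (h : p ∣ Nat.card (Gp F m)) :
    p = 2 ∨ p ∣ Fintype.card F - 1 ∨ p ∣ Fintype.card F ^ 2 + 1 := by
  rw [natCard_group] at h
  rcases (Nat.Prime.dvd_mul hp).1 h with h | h
  · rcases (Nat.Prime.dvd_mul hp).1 h with h | h
    · rw [hP.card, ← pow_mul] at h
      exact Or.inl ((Nat.prime_dvd_prime_iff_eq hp Nat.prime_two).1 (hp.dvd_of_dvd_pow h))
    · exact Or.inr (Or.inr h)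
  · exact Or.inr (Or.inl h)

theorem coprime_two_pow {n k : ℕ} (h : Odd n) : n.Coprime (2 ^ k) :=
  Nat.Coprime.pow_right _ (Nat.coprime_two_right.2 h)

theorem coprime_card_sq_right : (Fintype.card F ^ 2 + 1).Coprime
    (Fintype.card F ^ 2 * (Fintype.card F - 1)) := by
  refine Nat.Coprime.mul_right ?_ (coprime_sq (F := F) (m := m)).symm
  have h := odd_card_sq_add_one (F := F) (m := m)
  rw [hP.card, ← pow_mul] at h ⊢
  exact coprime_two_pow (F := F) (m := m) h

theorem coprime_card_sub_one : (Fintype.card F - 1).Coprime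
    (Fintype.card F ^ 2 * (Fintype.card F ^ 2 + 1)) := by
  refine Nat.Coprime.mul_right ?_ (coprime_sq (F := F) (m := m))
  have h := odd_card_sub_one (F := F) (m := m)
  rw [hP.card, ← pow_mul] at ⊢
  rw [hP.card] at h
  exact coprime_two_pow (F := F) (m := m) h

theorem exists_conj_grpH {p : ℕ} (hp : p.Prime) (hd : p ∣ Fintype.card F - 1) {z : Gp F m}
    (hz : orderOf z = p) : ∃ h : Gp F m, h * z * h⁻¹ ∈ grpH F m := by
  have := Fact.mk hp
  obtain ⟨h, -, hh⟩ := CfsgLib.Ree.exists_conj_into (le_top : grpH F m ≤ ⊤)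
    (c := Fintype.card F ^ 2 * (Fintype.card F ^ 2 + 1))
    (by rw [Subgroup.card_top]; exact card_group_split)
    (by rw [natCard_grpH]; exact coprime_card_sub_one (F := F) (m := m))
    (by rw [natCard_grpH]; exact hd) (Subgroup.mem_top z) hz
  exact ⟨h, hh⟩

theorem conj_ne_one {G : Type*} [Group G] {z : G} (hz : z ≠ 1) (h : G) : h * z * h⁻¹ ≠ 1 :=
  fun e => hz (conj_eq_one_iff.1 e)

theorem ne_one_of_prime {z : Gp F m} {p : ℕ} (hp : p.Prime) (hz : orderOf z = p) : z ≠ 1 :=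
  fun e => by rw [e, orderOf_one] at hz; exact hp.ne_one hz.symm

/-- The centralizer of an element of prime order `2` is conjugate into `U`. -/
theorem cent_two {z : Gp F m} (hz : orderOf z = 2) :
    ∃ h : Gp F m, ∀ c ∈ Subgroup.centralizer {z}, h * c * h⁻¹ ∈ grpU F m := by
  obtain ⟨h, hh⟩ := exists_conj_mem_grpU (k := 1) (x := z) (by rw [pow_one]; exact hz)
  refine ⟨h, fun c hc => centralizer_gT_le hh (conj_ne_one (F := F) (m := m)
    (ne_one_of_prime Nat.prime_two hz) h) ?_⟩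
  rw [CfsgLib.Ree.centralizer_conj_iff]
  simpa [mul_assoc] using hc

/-- The centralizer of an element of prime order dividing `q - 1` is a conjugate of the torus. -/
theorem cent_H {z : Gp F m} {p : ℕ} (hp : p.Prime) (hd : p ∣ Fintype.card F - 1)
    (hz : orderOf z = p) :
    ∃ h : Gp F m, ∀ c ∈ Subgroup.centralizer {z}, h * c * h⁻¹ ∈ grpH F m := by
  obtain ⟨h, hh⟩ := exists_conj_grpH hp hd hz
  refine ⟨h, fun c hc => ?_⟩
  rw [← centralizer_gH hh (conj_ne_one (F := F) (m := m) (ne_one_of_prime hp hz) h),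
    CfsgLib.Ree.centralizer_conj_iff]
  simpa [mul_assoc] using hc

/-- Elements of prime order dividing `q² + 1`. -/
def IsT (x : Gp F m) : Prop := ∃ p, p.Prime ∧ p ∣ Fintype.card F ^ 2 + 1 ∧ orderOf x = p

theorem IsT.ne_one {x : Gp F m} (hx : IsT x) : x ≠ 1 := by
  obtain ⟨p, hp, -, ho⟩ := hx
  exact ne_one_of_prime hp ho

theorem IsT.cent_cyclic {x : Gp F m} (hx : IsT x) : IsCyclic ↥(Subgroup.centralizer {x}) := by
  obtain ⟨p, hp, hd, ho⟩ := hx
  have := Fact.mk hp
  have := GLFour.cent_cyclic (K := F) hd (x := toGLHom x)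
    (by rw [orderOf_injective _ toGLHom_injective, ho])
  let f : ↥(Subgroup.centralizer {x}) →* ↥(Subgroup.centralizer {toGLHom x}) :=
    (toGLHom.comp (Subgroup.centralizer {x}).subtype).codRestrict _ fun c => by
      rw [Subgroup.mem_centralizer_singleton_iff]
      show toGLHom (c : Gp F m) * toGLHom x = toGLHom x * toGLHom (c : Gp F m)
      rw [← map_mul, ← map_mul, Subgroup.mem_centralizer_singleton_iff.1 c.2]
  exact isCyclic_of_injective f fun a b h =>
    Subtype.ext (toGLHom_injective (congrArg Subtype.val h))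

theorem IsT.comm {x : Gp F m} (hx : IsT x) {a b : Gp F m} (ha : a ∈ Subgroup.centralizer {x})
    (hb : b ∈ Subgroup.centralizer {x}) : a * b = b * a := by
  have := hx.cent_cyclic
  exact congrArg Subtype.val (IsCyclic.commGroup.mul_comm
    (⟨a, ha⟩ : ↥(Subgroup.centralizer {x})) ⟨b, hb⟩)

theorem self_mem_cent (x : Gp F m) : x ∈ Subgroup.centralizer {x} :=
  Subgroup.mem_centralizer_singleton_iff.2 rfl

theorem IsT.card_cent_dvd {x : Gp F m} (hx : IsT x) :
    Nat.card ↥(Subgroup.centralizer {x}) ∣ Fintype.card F ^ 2 + 1 := by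
  have hd : Nat.card ↥(Subgroup.centralizer {x}) ∣
      Fintype.card F ^ 2 * (Fintype.card F ^ 2 + 1) * (Fintype.card F - 1) :=
    natCard_group (F := F) (m := m) ▸ Subgroup.card_subgroup_dvd_card _
  rw [show Fintype.card F ^ 2 * (Fintype.card F ^ 2 + 1) * (Fintype.card F - 1) =
    (Fintype.card F ^ 2 + 1) * (Fintype.card F ^ 2 * (Fintype.card F - 1)) by ring] at hd
  refine Nat.Coprime.dvd_of_dvd_mul_right (Nat.coprime_of_dvd fun r hr h1 h2 => ?_) hd
  have := Fact.mk hr
  obtain ⟨⟨w, hw⟩, hwr⟩ := exists_prime_orderOf_dvd_card' r h1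
  rw [Subgroup.orderOf_mk] at hwr
  obtain ⟨p, hp, hpd, ho⟩ := hx
  have hxw : x ∈ Subgroup.centralizer {w} :=
    Subgroup.mem_centralizer_singleton_iff.2 (Subgroup.mem_centralizer_singleton_iff.1 hw).symm
  have hco := coprime_card_sq_right (F := F) (m := m)
  rcases (Nat.Prime.dvd_mul hr).1 h2 with h | h
  · rw [hP.card, ← pow_mul] at h
    have hr2 := (Nat.prime_dvd_prime_iff_eq hr Nat.prime_two).1 (hr.dvd_of_dvd_pow h)
    obtain ⟨g, hg⟩ := cent_two (hr2 ▸ hwr)
    have h' := Subgroup.orderOf_dvd_natCard _ (hg x hxw)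
    rw [CfsgLib.Ree.orderOf_conj', ho, natCard_grpU] at h'
    exact hp.ne_one (Nat.eq_one_of_dvd_coprimes hco hpd (h'.mul_right _))
  · obtain ⟨g, hg⟩ := cent_H hr h hwr
    have h' := Subgroup.orderOf_dvd_natCard _ (hg x hxw)
    rw [CfsgLib.Ree.orderOf_conj', ho, natCard_grpH] at h'
    exact hp.ne_one (Nat.eq_one_of_dvd_coprimes hco hpd (h'.mul_left _))

theorem isT_pow {g : Gp F m} {p : ℕ} (hp : p.Prime) (hpg : p ∣ orderOf g)
    (hd : p ∣ Fintype.card F ^ 2 + 1) :
    IsT (g ^ (orderOf g / p)) ∧ g ∈ Subgroup.centralizer {g ^ (orderOf g / p)} :=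
  ⟨⟨p, hp, hd, orderOf_pow_orderOf_div (orderOf_pos g).ne' hpg⟩,
    Subgroup.mem_centralizer_singleton_iff.2 (Commute.self_pow g _).eq⟩

theorem IsT.cent_eq {x y : Gp F m} (hx : IsT x) (hy : y ∈ Subgroup.centralizer {x}) (h1 : y ≠ 1) :
    Subgroup.centralizer {y} = Subgroup.centralizer {x} := by
  refine le_antisymm (fun c hc => ?_) fun c hc =>
    Subgroup.mem_centralizer_singleton_iff.2 (hx.comm hc hy)
  obtain ⟨r, hr, hry⟩ := Nat.exists_prime_and_dvd (fun h => h1 (orderOf_eq_one_iff.1 h))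
  obtain ⟨hw, hyw⟩ := isT_pow hr hry ((hry.trans (Subgroup.orderOf_dvd_natCard _ hy)).trans
    hx.card_cent_dvd)
  have hcw : c ∈ Subgroup.centralizer {y ^ (orderOf y / r)} :=
    Subgroup.mem_centralizer_singleton_iff.2
      ((show Commute c y from Subgroup.mem_centralizer_singleton_iff.1 hc).pow_right _).eq
  have hxw : x ∈ Subgroup.centralizer {y ^ (orderOf y / r)} :=
    Subgroup.mem_centralizer_singleton_iff.2
      ((show Commute x y from (Subgroup.mem_centralizer_singleton_iff.1 hy).symm).pow_right _).eq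
  exact Subgroup.mem_centralizer_singleton_iff.2 (hw.comm hcw hxw)

theorem IsT.TI {x y g : Gp F m} (hx : IsT x) (hy : y ∈ Subgroup.centralizer {x}) (h1 : y ≠ 1)
    (hg : g * y * g⁻¹ ∈ Subgroup.centralizer {x}) :
    g ∈ Subgroup.normalizer ((Subgroup.centralizer {x} : Subgroup (Gp F m)) : Set (Gp F m)) := by
  refine Subgroup.mem_normalizer_fintype fun c hc => ?_
  rw [SetLike.mem_coe] at hc ⊢
  rw [← hx.cent_eq hg (conj_ne_one (F := F) (m := m) h1 g), CfsgLib.Ree.centralizer_conj_iff,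
    show g⁻¹ * (g * c * g⁻¹) * g = c by group, hx.cent_eq hy h1]
  exact hc

theorem IsT.card_normalizer {x : Gp F m} (hx : IsT x) : ∃ n, n ∣ 4 ∧
    Nat.card ↥(Subgroup.normalizer ((Subgroup.centralizer {x} : Subgroup (Gp F m)) :
      Set (Gp F m))) = n * Nat.card ↥(Subgroup.centralizer {x}) := by
  obtain ⟨p, hp, hd, ho⟩ := id hx
  have := Fact.mk hp
  set A := Subgroup.centralizer {x}
  set N := Subgroup.normalizer (A : Set (Gp F m))
  set Z := Subgroup.zpowers x
  have hAN : A ≤ N := Subgroup.le_normalizer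
  have hN : N ≤ Subgroup.normalizer (Z : Set (Gp F m)) := by
    have := hx.cent_cyclic
    exact CfsgLib.Ree.normalizer_le_of_cyclic (Subgroup.zpowers_le.2 (self_mem_cent x))
  let ψ := (Subgroup.normalizerMonoidHom Z).comp (Subgroup.inclusion hN)
  have hker : ψ.ker = A.subgroupOf N := by
    rw [← MonoidHom.comap_ker, Subgroup.normalizerMonoidHom_ker]
    ext g
    show (g : Gp F m) ∈ Subgroup.centralizer (Z : Set (Gp F m)) ↔ (g : Gp F m) ∈ A
    simp only [Z, A]
    rw [Subgroup.zpowers_eq_closure, Subgroup.centralizer_closure]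
  have h4 : ∀ g : N, ψ g ^ 4 = 1 := by
    intro g
    obtain ⟨i, hi⟩ : ∃ i : ℕ, x ^ i = (g : Gp F m) * x * (g : Gp F m)⁻¹ :=
      mem_powers_iff_mem_zpowers.2
        ((Subgroup.mem_normalizer_iff.1 (hN g.2) x).1 (Subgroup.mem_zpowers x))
    have hi4 := GLFour.autom (K := F) hd (x := toGLHom x) (g := toGLHom (g : Gp F m))
      (by rw [orderOf_injective _ toGLHom_injective, ho]) (i := i)
      (by rw [← map_inv, ← map_mul, ← map_mul, ← map_pow, hi])
    have hpow : ∀ k : ℕ, (g : Gp F m) ^ k * x * ((g : Gp F m) ^ k)⁻¹ = x ^ i ^ k := by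
      intro k
      induction k with
      | zero => simp
      | succ k ih =>
        calc (g : Gp F m) ^ (k + 1) * x * ((g : Gp F m) ^ (k + 1))⁻¹
            = (g : Gp F m) * ((g : Gp F m) ^ k * x * ((g : Gp F m) ^ k)⁻¹) * (g : Gp F m)⁻¹ := by
              rw [pow_succ']; group
          _ = x ^ i ^ (k + 1) := by rw [ih, ← conj_pow, ← hi, ← pow_mul, pow_succ']
    have h := hpow 4
    rw [pow_eq_pow_iff_modEq.2 (ho.symm ▸ hi4 : i ^ 4 ≡ 1 [MOD orderOf x]), pow_one,
      mul_inv_eq_iff_eq_mul] at h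
    rw [← map_pow, ← MonoidHom.mem_ker, hker, Subgroup.mem_subgroupOf, Subgroup.coe_pow,
      Subgroup.mem_centralizer_singleton_iff]
    exact h
  have hcyc : IsCyclic (MulAut Z) := by
    have hc : Nat.card Z = p := by rw [Nat.card_zpowers, ho]
    have e := IsCyclic.mulAutMulEquiv Z
    rw [hc] at e
    exact isCyclic_of_surjective e.symm e.symm.surjective
  refine ⟨Nat.card ψ.range, ?_, ?_⟩
  · obtain ⟨⟨_, g, rfl⟩, hgen⟩ := IsCyclic.exists_generator (α := ψ.range)
    rw [← orderOf_eq_card_of_forall_mem_zpowers hgen, ← Subgroup.orderOf_coe]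
    exact orderOf_dvd_of_pow_eq_one (h4 g)
  · rw [← Nat.card_congr (Subgroup.subgroupOfEquivOfLe hAN).toEquiv, ← hker, Subgroup.card_eq_card_quotient_mul_card_subgroup ψ.ker,
      Nat.card_congr (QuotientGroup.quotientKerEquivRange ψ).toEquiv]

/-! ### Counting -/

/-- The nontrivial elements with a conjugate in a set. -/
def conjClass (A : Subgroup (Gp F m)) : Set (Gp F m) :=
  {g | ∃ h, h * g * h⁻¹ ∈ (A : Set (Gp F m)) \ {1}}

omit hP in
theorem conjClass_eq_card (A N : Subgroup (Gp F m))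
    (hN : ∀ h ∈ N, ∀ g ∈ A, h * g * h⁻¹ ∈ A)
    (hTI : ∀ h : Gp F m, ∀ g ∈ A, g ≠ 1 → h * g * h⁻¹ ∈ A → h ∈ N) :
    (conjClass A).ncard * Nat.card N = Nat.card (Gp F m) * (Nat.card A - 1) := by
  rw [CfsgLib.Ree.ReeData.card_conj_elems (conjClass A) ((A : Set (Gp F m)) \ {1}) N rfl
    (fun h hh g hg => ⟨hN h hh g hg.1, fun e => hg.2 (conj_eq_one_iff.1 e)⟩)
    (fun h g hg hhg => hTI h g hg.1 hg.2 hhg.1),
    Set.ncard_sdiff_singleton_of_mem (show (1 : Gp F m) ∈ (A : Set (Gp F m)) from one_mem A),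
    ← Nat.card_coe_set_eq]
  rfl

theorem card_class_U : (conjClass (grpU F m)).ncard *
    (Fintype.card F ^ 2 * (Fintype.card F - 1)) =
      Nat.card (Gp F m) * (Fintype.card F ^ 2 - 1) := by
  rw [← natCard_stab (F := F) (m := m), ← natCard_grpU (F := F) (m := m)]
  refine conjClass_eq_card _ _ (fun h hh g hg => grpU_conj_mem hg (mem_stabilizer_iff.1 hh))
    fun h g hg h1 hhg => ?_
  obtain ⟨a, b, hab⟩ := hhg
  rw [mem_stabilizer_iff]
  refine gT_fix (a := a) (b := b) (hab ▸ conj_ne_one (F := F) (m := m) h1 h) ?_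
  obtain ⟨c, d, rfl⟩ := hg
  rw [← hab, mul_smul, mul_smul, inv_smul_smul, gT_smul_pinf]

theorem mem_normalizer_grpH_iff (g : Gp F m) :
    g ∈ Subgroup.normalizer (grpH F m : Set (Gp F m)) ↔
      g ∈ grpH F m ∨ gW F m * g ∈ grpH F m := by
  have hH := Subgroup.le_normalizer (H := grpH F m)
  have hW : gW F m ∈ Subgroup.normalizer (grpH F m : Set (Gp F m)) := by
    refine Subgroup.mem_normalizer_fintype ?_
    rintro _ ⟨t, rfl⟩
    rw [gW_conj_gH]
    exact inv_mem (gH_mem t)
  constructor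
  · intro hg
    obtain ⟨t, ht⟩ := exists_unit_ne_one (F := F) (m := m)
    obtain ⟨s, hs⟩ := (Subgroup.mem_normalizer_iff.1 (inv_mem hg) _).1 (gH_mem (m := m) t)
    rw [inv_inv] at hs
    have hs1 : s ≠ 1 := fun e => by
      rw [e, map_one] at hs
      have h1 : gH (m := m) t = 1 :=
        conj_eq_one_iff.1 (show g⁻¹ * gH t * g⁻¹⁻¹ = 1 by rw [inv_inv]; exact hs.symm)
      exact ht (gH_injective (h1.trans (map_one _).symm))
    have e : ∀ p : Pts F m, gH s • p = p → gH t • (g • p) = g • p := fun p hp => by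
      rw [← mul_smul, show gH (m := m) t * g = g * (g⁻¹ * gH t * g) by group, ← hs, mul_smul, hp]
    have h0 : gH (m := m) s • paff (m := m) (0 : F) 0 = paff 0 0 := by simp [gH_smul_paff]
    rcases gH_fix ht (e _ (gH_smul_pinf s)) with h | h <;> rcases gH_fix ht (e _ h0) with h' | h'
    · exact absurd (MulAction.injective g (h'.trans h.symm)) (paff_ne_pinf _ _)
    · exact Or.inl (mem_stab_two h h')
    · exact Or.inr (mem_stab_two (by rw [mul_smul, h, gW_smul_zero])
        (by rw [mul_smul, h', gW_smul_pinf]))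
    · exact absurd (MulAction.injective g (h'.trans h.symm)) (paff_ne_pinf _ _)
  · rintro (hg | hg)
    · exact hH hg
    · have := mul_mem (inv_mem hW) (hH hg)
      rwa [inv_mul_cancel_left] at this

theorem natCard_normalizer_grpH :
    Nat.card ↥(Subgroup.normalizer (grpH F m : Set (Gp F m))) = 2 * (Fintype.card F - 1) := by
  classical
  have e : (Subgroup.normalizer (grpH F m : Set (Gp F m)) : Set (Gp F m)) =
      (grpH F m : Set (Gp F m)) ∪ (fun g => gW F m * g) '' (grpH F m : Set (Gp F m)) := by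
    ext g
    rw [SetLike.mem_coe, mem_normalizer_grpH_iff]
    refine or_congr Iff.rfl ⟨fun h => ⟨gW F m * g, h, ?_⟩, ?_⟩
    · show gW F m * (gW F m * g) = g
      rw [← mul_assoc, gW_mul_self, one_mul]
    · rintro ⟨k, hk, rfl⟩
      rwa [← mul_assoc, gW_mul_self, one_mul]
  have hd : Disjoint (grpH F m : Set (Gp F m))
      ((fun g => gW F m * g) '' (grpH F m : Set (Gp F m))) := by
    rw [Set.disjoint_left]
    rintro _ ⟨t, rfl⟩ ⟨_, ⟨s, rfl⟩, h⟩
    have h' := congrArg (fun k : Gp F m => k • pinf F m) h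
    simp only [mul_smul, gH_smul_pinf, gW_smul_pinf] at h'
    exact paff_ne_pinf _ _ h'
  have h2 := natCard_grpH (F := F) (m := m)
  calc Nat.card ↥(Subgroup.normalizer (grpH F m : Set (Gp F m)))
      = (Subgroup.normalizer (grpH F m : Set (Gp F m)) : Set (Gp F m)).ncard :=
        Nat.card_coe_set_eq _
    _ = Nat.card (grpH F m) + Nat.card (grpH F m) := by
        rw [e, Set.ncard_union_eq hd, Set.ncard_image_of_injective _ (mul_right_injective _)]
        rfl
    _ = _ := by rw [h2]; ring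

theorem card_class_H : (conjClass (grpH F m)).ncard * (2 * (Fintype.card F - 1)) =
    Nat.card (Gp F m) * (Fintype.card F - 2) := by
  rw [← natCard_normalizer_grpH (F := F) (m := m), show Fintype.card F - 2 =
    Nat.card (grpH F m) - 1 by rw [natCard_grpH]; omega]
  refine conjClass_eq_card _ _ (fun h hh g hg => (Subgroup.mem_normalizer_iff.1 hh g).1 hg)
    fun h g hg h1 hhg => Subgroup.mem_normalizer_fintype fun c hc => ?_
  rw [SetLike.mem_coe] at hc ⊢
  rw [← centralizer_gH hhg (conj_ne_one (F := F) (m := m) h1 h), CfsgLib.Ree.centralizer_conj_iff,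
    show h⁻¹ * (h * c * h⁻¹) * h = c by group, centralizer_gH hg h1]
  exact hc

variable (F m) in
/-- Elements of order dividing `q² + 1`. -/
def singT : Set (Gp F m) := {g | g ≠ 1 ∧ orderOf g ∣ Fintype.card F ^ 2 + 1}

theorem classify (g : Gp F m) :
    g = 1 ∨ g ∈ conjClass (grpU F m) ∨ g ∈ conjClass (grpH F m) ∨ g ∈ singT F m := by
  by_cases h1 : g = 1
  · exact Or.inl h1
  obtain ⟨r, hr, hrg⟩ := Nat.exists_prime_and_dvd (fun h => h1 (orderOf_eq_one_iff.1 h))
  have ho : orderOf (g ^ (orderOf g / r)) = r := orderOf_pow_orderOf_div (orderOf_pos g).ne' hrg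
  have hgc : g ∈ Subgroup.centralizer {g ^ (orderOf g / r)} :=
    Subgroup.mem_centralizer_singleton_iff.2 (Commute.self_pow g _).eq
  rcases prime_dvd_card hr (hrg.trans (orderOf_dvd_natCard g)) with h | h | h
  · obtain ⟨k, hk⟩ := cent_two (ho.trans h)
    exact Or.inr (Or.inl ⟨k, hk g hgc, conj_ne_one (F := F) (m := m) h1 k⟩)
  · obtain ⟨k, hk⟩ := cent_H hr h ho
    exact Or.inr (Or.inr (Or.inl ⟨k, hk g hgc, conj_ne_one (F := F) (m := m) h1 k⟩))
  · have hw : IsT (g ^ (orderOf g / r)) := ⟨r, hr, h, ho⟩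
    exact Or.inr (Or.inr (Or.inr
      ⟨h1, (Subgroup.orderOf_dvd_natCard _ hgc).trans hw.card_cent_dvd⟩))

theorem class_orders {g : Gp F m} :
    (g ∈ conjClass (grpU F m) → g ≠ 1 ∧ orderOf g ∣ Fintype.card F ^ 2) ∧
    (g ∈ conjClass (grpH F m) → g ≠ 1 ∧ orderOf g ∣ Fintype.card F - 1) := by
  constructor <;> rintro ⟨h, hA, hne⟩
  · refine ⟨fun e => hne (by simp [e]), ?_⟩
    rw [← CfsgLib.Ree.orderOf_conj' h g, ← natCard_grpU (F := F) (m := m)]
    exact Subgroup.orderOf_dvd_natCard _ hA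
  · refine ⟨fun e => hne (by simp [e]), ?_⟩
    rw [← CfsgLib.Ree.orderOf_conj' h g, ← natCard_grpH (F := F) (m := m)]
    exact Subgroup.orderOf_dvd_natCard _ hA

theorem card_singT : 2 * (singT F m).ncard =
    Fintype.card F ^ 3 * (Fintype.card F - 1) ^ 2 := by
  classical
  have hone : ∀ {g : Gp F m} {a b : ℕ}, a.Coprime b → orderOf g ∣ a → orderOf g ∣ b → g = 1 :=
    fun hab ha hb => orderOf_eq_one_iff.1 (Nat.eq_one_of_dvd_coprimes hab ha hb)
  have cT := coprime_card_sq_right (F := F) (m := m)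
  have cH := coprime_card_sub_one (F := F) (m := m)
  have hu : (Set.univ : Set (Gp F m)) =
      {1} ∪ conjClass (grpU F m) ∪ conjClass (grpH F m) ∪ singT F m :=
    (Set.eq_univ_of_forall fun g => by
      rcases classify g with h | h | h | h <;> simp [h]).symm
  have hsum := congrArg Set.ncard hu
  rw [Set.ncard_univ, Set.ncard_union_eq, Set.ncard_union_eq, Set.ncard_union_eq,
    Set.ncard_singleton] at hsum
  rotate_left
  · rw [Set.disjoint_singleton_left]
    exact fun h => (class_orders.1 h).1 rfl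
  · rw [Set.disjoint_left]
    rintro g (rfl | hg) hg'
    · exact (class_orders.2 hg').1 rfl
    · exact (class_orders.1 hg).1 (hone cH (class_orders.2 hg').2
        ((class_orders.1 hg).2.mul_right _))
  · rw [Set.disjoint_left]
    rintro g ((rfl | hg) | hg) hg'
    · exact hg'.1 rfl
    · exact hg'.1 (hone cT hg'.2 ((class_orders.1 hg).2.mul_right _))
    · exact hg'.1 (hone cT hg'.2 ((class_orders.2 hg).2.mul_left _))
  have hU := card_class_U (F := F) (m := m)
  have hH := card_class_H (F := F) (m := m)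
  have hG := natCard_group (F := F) (m := m)
  have h8 := eight_le_card (F := F) (m := m)
  generalize (singT F m).ncard = T at *
  generalize (conjClass (grpU F m)).ncard = U at *
  generalize (conjClass (grpH F m)).ncard = H at *
  generalize Nat.card (Gp F m) = Γ at *
  generalize Fintype.card F = q at *
  have h1 : 1 ≤ q := by omega
  have h2 : 2 ≤ q := by omega
  have hq2 : 1 ≤ q ^ 2 := Nat.one_le_pow _ _ h1
  zify [h1, h2, hq2] at *
  have hne : (q : ℤ) ^ 2 * ((q : ℤ) - 1) ≠ 0 := by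
    have : (1 : ℤ) < q := by exact_mod_cast (show 1 < q by omega)
    positivity
  have hU' : (U : ℤ) = ((q : ℤ) ^ 2 + 1) * ((q : ℤ) ^ 2 - 1) := by
    refine mul_right_cancel₀ hne ?_
    rw [hU, hG]; ring
  have hne2 : (2 : ℤ) * ((q : ℤ) - 1) ≠ 0 := by
    have : (1 : ℤ) < q := by exact_mod_cast (show 1 < q by omega)
    positivity
  have hH' : 2 * (H : ℤ) = (q : ℤ) ^ 2 * ((q : ℤ) ^ 2 + 1) * ((q : ℤ) - 2) := by
    have hne3 : ((q : ℤ) - 1) ≠ 0 := fun e => hne2 (by rw [e, mul_zero])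
    refine mul_right_cancel₀ hne3 ?_
    rw [show 2 * (H : ℤ) * ((q : ℤ) - 1) = (H : ℤ) * (2 * ((q : ℤ) - 1)) by ring, hH, hG]; ring
  linear_combination -2 * hsum + 2 * hG - 2 * hU' - hH'

/-- The nontrivial elements conjugate into the centralizer of `x`. -/
abbrev TS (x : Gp F m) : Set (Gp F m) := conjClass (Subgroup.centralizer {x})

theorem IsT.card_TS {x : Gp F m} (hx : IsT x) : ∃ n, n ∣ 4 ∧
    Nat.card ↥(Subgroup.normalizer ((Subgroup.centralizer {x} : Subgroup (Gp F m)) :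
      Set (Gp F m))) = n * Nat.card ↥(Subgroup.centralizer {x}) ∧
    (TS x).ncard * (n * Nat.card ↥(Subgroup.centralizer {x})) =
      Nat.card (Gp F m) * (Nat.card ↥(Subgroup.centralizer {x}) - 1) := by
  obtain ⟨n, hn, hN⟩ := hx.card_normalizer
  refine ⟨n, hn, hN, hN ▸ conjClass_eq_card _ _
    (fun h hh g hg => (Subgroup.mem_normalizer_iff.1 hh g).1 hg)
    fun h g hg h1 hhg => hx.TI hg h1 hhg⟩

theorem IsT.self_mem_TS {x : Gp F m} (hx : IsT x) : x ∈ TS x :=
  ⟨1, by simpa using self_mem_cent x, by simpa using hx.ne_one⟩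

theorem IsT.TS_subset {x : Gp F m} (hx : IsT x) : TS x ⊆ singT F m := by
  rintro g ⟨h, hh, hne⟩
  refine ⟨fun e => hne (by simp [e]), ?_⟩
  rw [← CfsgLib.Ree.orderOf_conj' h g]
  exact (Subgroup.orderOf_dvd_natCard _ hh).trans hx.card_cent_dvd

theorem singT_mem {g : Gp F m} (hg : g ∈ singT F m) : ∃ w, IsT w ∧ g ∈ TS w := by
  obtain ⟨r, hr, hrg⟩ := Nat.exists_prime_and_dvd (fun h => hg.1 (orderOf_eq_one_iff.1 h))
  obtain ⟨hw, hgw⟩ := isT_pow hr hrg (hrg.trans hg.2)
  exact ⟨_, hw, 1, by simpa using hgw, by simpa using hg.1⟩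

/-- The classes are equal or disjoint. -/
theorem IsT.TS_eq {x k g : Gp F m} (hx : IsT x) (hk : IsT k) (hgx : g ∈ TS x) (hgk : g ∈ TS k) :
    k ∈ TS x := by
  obtain ⟨h, hh, hne⟩ := hgx
  obtain ⟨l, hl, hne'⟩ := hgk
  refine ⟨h * l⁻¹, ?_, conj_ne_one (F := F) (m := m) hk.ne_one _⟩
  have e : k ∈ Subgroup.centralizer {l * g * l⁻¹} := by
    rw [hk.cent_eq hl hne']; exact self_mem_cent k
  rw [CfsgLib.Ree.centralizer_conj_iff] at e
  show h * l⁻¹ * k * (h * l⁻¹)⁻¹ ∈ Subgroup.centralizer {x}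
  rw [← hx.cent_eq hh hne, CfsgLib.Ree.centralizer_conj_iff,
    show h⁻¹ * (h * l⁻¹ * k * (h * l⁻¹)⁻¹) * h = l⁻¹ * k * l by group]
  exact e

theorem IsT.TS_disjoint {x k : Gp F m} (hx : IsT x) (hk : IsT k) (h : k ∉ TS x) :
    Disjoint (TS x) (TS k) :=
  Set.disjoint_left.2 fun _ h1 h2 => h (hx.TS_eq hk h1 h2)

theorem IsT.five_le {x : Gp F m} (hx : IsT x) : 5 ≤ Nat.card ↥(Subgroup.centralizer {x}) := by
  obtain ⟨p, hp, hd, ho⟩ := hx
  have h1 : p ∣ Nat.card ↥(Subgroup.centralizer {x}) :=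
    ho ▸ Subgroup.orderOf_dvd_natCard _ (self_mem_cent x)
  have h2 := Nat.le_of_dvd Nat.card_pos h1
  have := Fact.mk hp
  have h4 := GLFour.orderOf_card_eq_four (K := F) hp hd
  have hq0 : (Fintype.card F : ZMod p) ≠ 0 := fun e => by rw [e, orderOf_zero] at h4; omega
  have h5 := orderOf_dvd_of_pow_eq_one (ZMod.pow_card_sub_one_eq_one hq0)
  rw [h4] at h5
  have h6 := Nat.le_of_dvd (Nat.sub_pos_of_lt hp.one_lt) h5
  omega

variable (F m) in
/-- The two classes of tori. -/
theorem exists_tori : ∃ x k : Gp F m, IsT x ∧ IsT k ∧ k ∉ TS x ∧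
    (∀ g ∈ singT F m, g ∈ TS x ∨ g ∈ TS k) ∧
    (∀ y ∈ ({x, k} : Set (Gp F m)),
      Nat.card ↥(Subgroup.normalizer ((Subgroup.centralizer {y} : Subgroup (Gp F m)) :
        Set (Gp F m))) = 4 * Nat.card ↥(Subgroup.centralizer {y})) ∧
    4 * (Nat.card ↥(Subgroup.centralizer {x}) * Nat.card ↥(Subgroup.centralizer {k})) *
        (Fintype.card F * (Fintype.card F - 1)) =
      2 * (Fintype.card F ^ 2 + 1) *
        ((Nat.card ↥(Subgroup.centralizer {x}) - 1) * Nat.card ↥(Subgroup.centralizer {k}) +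
         (Nat.card ↥(Subgroup.centralizer {k}) - 1) * Nat.card ↥(Subgroup.centralizer {x})) := by
  have h8 := eight_le_card (F := F) (m := m)
  have hT := card_singT (F := F) (m := m)
  have hG := natCard_group (F := F) (m := m)
  -- lower bound for a class
  have bound : ∀ y : Gp F m, IsT y → Nat.card (Gp F m) ≤ 5 * (TS y).ncard := by
    intro y hy
    obtain ⟨n, hn, -, e⟩ := hy.card_TS
    have hn4 := Nat.le_of_dvd (by norm_num) hn
    have h5 := hy.five_le
    generalize Nat.card ↥(Subgroup.centralizer {y}) = a at *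
    obtain ⟨b, rfl⟩ : ∃ b, a = b + 1 := ⟨a - 1, by omega⟩
    rw [Nat.add_sub_cancel] at e
    have h1 : (TS y).ncard * (n * (b + 1)) ≤ (TS y).ncard * (4 * (b + 1)) :=
      Nat.mul_le_mul_left _ (Nat.mul_le_mul_right _ hn4)
    refine Nat.le_of_mul_le_mul_left (c := b) ?_ (by omega)
    nlinarith [h1, e, h5]
  have hhalf : 2 * (singT F m).ncard < Nat.card (Gp F m) := by
    rw [hT, hG]
    obtain ⟨r, hr⟩ : ∃ r, Fintype.card F = r + 1 := ⟨Fintype.card F - 1, by omega⟩
    rw [hr, Nat.add_sub_cancel]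
    have hr1 : 7 ≤ r := by omega
    nlinarith [Nat.mul_pos (Nat.mul_pos (show 0 < r by omega) (show 0 < r + 1 by omega))
      (show 0 < r + 1 by omega)]
  obtain ⟨p, hp, hpd⟩ := Nat.exists_prime_and_dvd
    (show Fintype.card F ^ 2 + 1 ≠ 1 by simp)
  have := Fact.mk hp
  obtain ⟨x, hxo⟩ := exists_prime_orderOf_dvd_card' (G := Gp F m) p
    (by rw [hG]; exact (Dvd.dvd.mul_left hpd _).mul_right _)
  have hx : IsT x := ⟨p, hp, hpd, hxo⟩
  obtain ⟨n, hn, hNx, ex⟩ := hx.card_TS
  have hn4 := Nat.le_of_dvd (by norm_num) hn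
  have hn0 : 0 < n := Nat.pos_of_dvd_of_pos hn (by norm_num)
  have ha5 := hx.five_le
  obtain ⟨g, hg, hgx⟩ : ∃ g ∈ singT F m, g ∉ TS x := by
    by_contra hcon
    push Not at hcon
    have heq : TS x = singT F m := Set.Subset.antisymm hx.TS_subset hcon
    rw [heq] at ex
    rw [hG] at ex
    generalize (singT F m).ncard = T at *
    generalize Nat.card ↥(Subgroup.centralizer {x}) = a at *
    generalize Fintype.card F = q at *
    have h1 : 1 ≤ q := by omega
    have ha1 : 1 ≤ a := by omega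
    zify [h1, ha1] at *
    have e2 : (q : ℤ) * ((q : ℤ) - 1) * n * a = 2 * ((q : ℤ) ^ 2 + 1) * ((a : ℤ) - 1) := by
      refine mul_left_cancel₀ (show (q : ℤ) ^ 2 * ((q : ℤ) - 1) ≠ 0 from
        mul_ne_zero (pow_ne_zero _ (by omega)) (by omega)) ?_
      linear_combination 2 * ex - (n : ℤ) * a * hT
    obtain rfl | rfl | rfl : n = 1 ∨ n = 2 ∨ n = 4 := by
      have hn3 : n ≠ 3 := by rintro rfl; norm_num at hn
      omega
    all_goals push_cast at e2
    · nlinarith
    · -- `a (q + 1) = q² + 1`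
      have e3 : (a : ℤ) * ((q : ℤ) + 1) = (q : ℤ) ^ 2 + 1 := by linarith
      have e4 : ((a : ℤ) - ((q : ℤ) - 1)) * ((q : ℤ) + 1) = 2 := by linear_combination e3
      have hdvd : ((q : ℤ) + 1) ∣ 2 := Dvd.intro_left _ e4
      have := Int.le_of_dvd (by norm_num) hdvd
      omega
    · have hq8 : (8 : ℤ) ≤ q := by exact_mod_cast h8
      have : (0 : ℤ) ≤ (a : ℤ) * ((q : ℤ) ^ 2 - 2 * q - 1) :=
        mul_nonneg (by positivity) (by nlinarith)
      nlinarith
  obtain ⟨k, hk, hgk⟩ := singT_mem hg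
  have hkx : k ∉ TS x := by
    rintro ⟨l, hl, hne⟩
    obtain ⟨h, hh, hne'⟩ := hgk
    refine hgx ⟨l * h, ?_, conj_ne_one (F := F) (m := m) hg.1 _⟩
    show l * h * g * (l * h)⁻¹ ∈ Subgroup.centralizer {x}
    rw [← hx.cent_eq hl hne, CfsgLib.Ree.centralizer_conj_iff,
      show l⁻¹ * (l * h * g * (l * h)⁻¹) * l = h * g * h⁻¹ by group]
    exact hh
  obtain ⟨n', hn', hNk, ek⟩ := hk.card_TS
  have hd := hx.TS_disjoint hk hkx
  have hsub : TS x ∪ TS k ⊆ singT F m := Set.union_subset hx.TS_subset hk.TS_subset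
  have hle := Set.ncard_le_ncard hsub
  rw [Set.ncard_union_eq hd] at hle
  have hb5 := hk.five_le
  have all : ∀ g ∈ singT F m, g ∈ TS x ∨ g ∈ TS k := by
    intro g' hg'
    by_contra hcon
    rw [not_or] at hcon
    obtain ⟨w, hw, hgw⟩ := singT_mem hg'
    have d1 : Disjoint (TS x) (TS w) := hx.TS_disjoint hw fun hwx => hcon.1 (by
      obtain ⟨l, hl, hne⟩ := hwx
      obtain ⟨h, hh, hne'⟩ := hgw
      refine ⟨l * h, ?_, conj_ne_one (F := F) (m := m) hg'.1 _⟩
      show l * h * g' * (l * h)⁻¹ ∈ Subgroup.centralizer {x}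
      rw [← hx.cent_eq hl hne, CfsgLib.Ree.centralizer_conj_iff,
        show l⁻¹ * (l * h * g' * (l * h)⁻¹) * l = h * g' * h⁻¹ by group]
      exact hh)
    have d2 : Disjoint (TS k) (TS w) := hk.TS_disjoint hw fun hwk => hcon.2 (by
      obtain ⟨l, hl, hne⟩ := hwk
      obtain ⟨h, hh, hne'⟩ := hgw
      refine ⟨l * h, ?_, conj_ne_one (F := F) (m := m) hg'.1 _⟩
      show l * h * g' * (l * h)⁻¹ ∈ Subgroup.centralizer {k}
      rw [← hk.cent_eq hl hne, CfsgLib.Ree.centralizer_conj_iff,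
        show l⁻¹ * (l * h * g' * (l * h)⁻¹) * l = h * g' * h⁻¹ by group]
      exact hh)
    have h3 := Set.ncard_le_ncard (Set.union_subset hsub hw.TS_subset)
    rw [Set.ncard_union_eq (Set.disjoint_union_left.2 ⟨d1, d2⟩), Set.ncard_union_eq hd] at h3
    have := bound x hx
    have := bound k hk
    have := bound w hw
    omega
  have four : ∀ (y z : Gp F m) (j : ℕ), IsT y → IsT z → j ∣ 4 →
      (TS y).ncard + (TS z).ncard ≤ (singT F m).ncard →
      (TS y).ncard * (j * Nat.card ↥(Subgroup.centralizer {y})) =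
        Nat.card (Gp F m) * (Nat.card ↥(Subgroup.centralizer {y}) - 1) → j = 4 := by
    intro y z j hy hz hj hle e
    by_contra hj4
    have hj2 : j ≤ 2 := by
      have := Nat.le_of_dvd (by norm_num) hj
      have hj3 : j ≠ 3 := by rintro rfl; norm_num at hj
      omega
    have := bound z hz
    have h5 := hy.five_le
    generalize Nat.card ↥(Subgroup.centralizer {y}) = a at *
    obtain ⟨b, rfl⟩ : ∃ b, a = b + 1 := ⟨a - 1, by omega⟩
    rw [Nat.add_sub_cancel] at e
    have h1 : (TS y).ncard * (j * (b + 1)) ≤ (TS y).ncard * (2 * (b + 1)) :=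
      Nat.mul_le_mul_left _ (Nat.mul_le_mul_right _ hj2)
    have h2 : 2 * Nat.card (Gp F m) ≤ 5 * (TS y).ncard :=
      Nat.le_of_mul_le_mul_left (c := b) (by nlinarith [h1, e, h5]) (by omega)
    omega
  have hn_4 : n = 4 := four x k n hx hk hn hle ex
  have hn'_4 : n' = 4 := four k x n' hk hx hn' (by omega) ek
  subst hn_4 hn'_4
  refine ⟨x, k, hx, hk, hkx, all, by rintro y (rfl | rfl) <;> assumption, ?_⟩
  have heq : TS x ∪ TS k = singT F m := Set.Subset.antisymm hsub all
  have hsum : (TS x).ncard + (TS k).ncard = (singT F m).ncard := by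
    rw [← heq, Set.ncard_union_eq hd]
  rw [hG] at ex ek
  generalize (singT F m).ncard = T at *
  generalize (TS x).ncard = X at *
  generalize (TS k).ncard = K' at *
  generalize Nat.card ↥(Subgroup.centralizer {x}) = a at *
  generalize Nat.card ↥(Subgroup.centralizer {k}) = b at *
  generalize Fintype.card F = q at *
  have h1 : 1 ≤ q := by omega
  have ha1 : 1 ≤ a := by omega
  have hb1 : 1 ≤ b := by omega
  zify [h1, ha1, hb1] at *
  refine mul_left_cancel₀ (show (q : ℤ) ^ 2 * ((q : ℤ) - 1) ≠ 0 from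
    mul_ne_zero (pow_ne_zero _ (by omega)) (by omega)) ?_
  linear_combination (-4 * (a : ℤ) * b) * hT - (8 * (a : ℤ) * b) * hsum +
    (2 * (b : ℤ)) * ex + (2 * (a : ℤ)) * ek

theorem sylow_cyclic {p : ℕ} [hp : Fact p.Prime] (hp2 : p ≠ 2) (P : Sylow p (Gp F m)) :
    IsCyclic ↥(P : Subgroup (Gp F m)) := by
  by_cases hd : p ∣ Nat.card (Gp F m)
  swap
  · have h1 : Nat.card ↥(P : Subgroup (Gp F m)) = 1 := by
      rw [P.card_eq_multiplicity, Nat.factorization_eq_zero_of_not_dvd hd, pow_zero]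
    have : Subsingleton ↥(P : Subgroup (Gp F m)) := (Nat.card_eq_one_iff_unique.1 h1).1
    exact isCyclic_of_subsingleton
  rcases prime_dvd_card hp.out hd with h | h | h
  · exact absurd h hp2
  · have : IsCyclic ↥(grpH F m) := by
      rw [grpH]; exact isCyclic_of_surjective _ (gH (F := F) (m := m)).rangeRestrict_surjective
    refine CfsgLib.Ree.sylow_cyclic_of_hall (H := grpH F m) card_group_split (fun hc => ?_) P
    exact hp.out.ne_one (Nat.eq_one_of_dvd_coprimes (coprime_card_sub_one (F := F) (m := m)) h hc)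
  · have hne : Nat.card ↥(P : Subgroup (Gp F m)) ≠ 1 := by
      rw [P.card_eq_multiplicity]
      exact fun e => (Nat.one_lt_pow
        (Nat.Prime.factorization_pos_of_dvd hp.out Nat.card_pos.ne' hd).ne' hp.out.one_lt).ne' e
    have : Nontrivial ↥(P : Subgroup (Gp F m)) := Finite.one_lt_card_iff_nontrivial.1 (by
      have : 0 < Nat.card ↥(P : Subgroup (Gp F m)) := Nat.card_pos
      omega)
    have := P.2.center_nontrivial
    obtain ⟨z, hz, hz1⟩ := (Subgroup.nontrivial_iff_exists_ne_one _).1 this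
    obtain ⟨j, hj⟩ := IsPGroup.iff_orderOf.1 P.2 z
    obtain ⟨r, hr, hrz⟩ := Nat.exists_prime_and_dvd (fun e => hz1 (orderOf_eq_one_iff.1 e))
    rw [hj] at hrz
    have hrp := (Nat.prime_dvd_prime_iff_eq hr hp.out).1 (hr.dvd_of_dvd_pow hrz)
    rw [← hj, hrp, ← Subgroup.orderOf_coe] at hrz
    obtain ⟨hw, -⟩ := isT_pow hp.out hrz h
    have := hw.cent_cyclic
    refine Subgroup.isCyclic_of_le (H' := Subgroup.centralizer _) (fun c hc =>
      Subgroup.mem_centralizer_singleton_iff.2 ((show Commute c (z : Gp F m) from ?_).pow_right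
        (orderOf (z : Gp F m) / p)).eq)
    exact congrArg Subtype.val ((Subgroup.mem_center_iff.1 hz) ⟨c, hc⟩)

variable (F m) in
/-- The two tori. -/
theorem tori : ∀ j ∈ ({2 ^ (2 * m + 1) + 2 ^ (m + 1) + 1, 2 ^ (2 * m + 1) - 2 ^ (m + 1) + 1} : Set ℕ),
    ∃ A : Subgroup (Gp F m), IsCyclic A ∧ Nat.card A = j ∧
      (∀ u ∈ A, u ≠ 1 → Subgroup.centralizer {u} = A) ∧
      Nat.card (Subgroup.normalizer (A : Set (Gp F m))) = 4 * j := by
  obtain ⟨x, k, hx, hk, hkx, all, hN, heq⟩ := exists_tori F m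
  have h8 := eight_le_card (F := F) (m := m)
  set a := Nat.card ↥(Subgroup.centralizer {x}) with ha
  set b := Nat.card ↥(Subgroup.centralizer {k}) with hb
  have hco : a.Coprime b := by
    refine Nat.coprime_of_dvd fun r hr h1 h2 => hkx ?_
    have := Fact.mk hr
    have hr2 : r ≠ 2 := by
      rintro rfl
      exact Nat.not_even_iff_odd.2 (odd_card_sq_add_one (F := F) (m := m))
        (even_iff_two_dvd.2 (h1.trans hx.card_cent_dvd))
    obtain ⟨⟨u, hu⟩, huo⟩ := exists_prime_orderOf_dvd_card' r h1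
    obtain ⟨⟨v, hv⟩, hvo⟩ := exists_prime_orderOf_dvd_card' r h2
    rw [Subgroup.orderOf_mk] at huo hvo
    obtain ⟨P, hP'⟩ := (IsPGroup.of_card (p := r) (G := Subgroup.zpowers u) (n := 1)
      (by rw [Nat.card_zpowers, huo, pow_one])).exists_le_sylow
    obtain ⟨Q, hQ⟩ := (IsPGroup.of_card (p := r) (G := Subgroup.zpowers v) (n := 1)
      (by rw [Nat.card_zpowers, hvo, pow_one])).exists_le_sylow
    obtain ⟨g, hg⟩ := MulAction.exists_smul_eq (Gp F m) Q P
    have hvP : g * v * g⁻¹ ∈ (P : Subgroup (Gp F m)) := by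
      rw [← hg]
      exact Subgroup.smul_mem_pointwise_smul v (MulAut.conj g) _ (hQ (Subgroup.mem_zpowers v))
    have := sylow_cyclic hr2 P
    have huP := hP' (Subgroup.mem_zpowers u)
    let _ := IsCyclic.commGroup (α := ↥(P : Subgroup (Gp F m)))
    have hcomm : g * v * g⁻¹ * u = u * (g * v * g⁻¹) :=
      congrArg Subtype.val (mul_comm (⟨g * v * g⁻¹, hvP⟩ : ↥(P : Subgroup (Gp F m))) ⟨u, huP⟩)
    have hvx : g * v * g⁻¹ ∈ Subgroup.centralizer {x} := by
      rw [← hx.cent_eq hu (ne_one_of_prime hr huo), Subgroup.mem_centralizer_singleton_iff]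
      exact hcomm
    have hvne : v ≠ 1 := ne_one_of_prime hr hvo
    exact hx.TS_eq hk ⟨g, hvx,
      conj_ne_one (F := F) (m := m) hvne g⟩ ⟨1, by simpa using hv, by simpa using hvne⟩
  have hab : a * b = Fintype.card F ^ 2 + 1 := by
    refine Nat.dvd_antisymm (hco.mul_dvd_of_dvd_of_dvd hx.card_cent_dvd hk.card_cent_dvd) ?_
    refine (Nat.dvd_iff_prime_pow_dvd_dvd _ _).2 fun r e hr hre => ?_
    rcases eq_or_ne e 0 with rfl | he
    · simp
    have := Fact.mk hr
    have hrd : r ∣ Fintype.card F ^ 2 + 1 := (dvd_pow_self r he).trans hre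
    have hr2 : r ≠ 2 := by
      rintro rfl
      exact Nat.not_even_iff_odd.2 (odd_card_sq_add_one (F := F) (m := m))
        (even_iff_two_dvd.2 hrd)
    obtain ⟨Q, hQ⟩ := Sylow.exists_subgroup_card_pow_prime (G := Gp F m) r
      (hre.trans (natCard_group (F := F) (m := m) ▸ (dvd_mul_left _ _).mul_right _))
    obtain ⟨P, hQP⟩ := (IsPGroup.of_card hQ).exists_le_sylow
    have := sylow_cyclic hr2 P
    have := Subgroup.isCyclic_of_le hQP
    obtain ⟨u, hu⟩ := IsCyclic.exists_generator (α := Q)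
    have hcard : orderOf (u : Gp F m) = r ^ e := by
      rw [Subgroup.orderOf_coe, orderOf_eq_card_of_forall_mem_zpowers hu, hQ]
    have hu1 : (u : Gp F m) ≠ 1 := fun h => by
      rw [h, orderOf_one] at hcard
      exact absurd hcard.symm (Nat.one_lt_pow he hr.one_lt).ne'
    have huT : (u : Gp F m) ∈ singT F m := ⟨hu1, hcard ▸ hre⟩
    rcases all _ huT with ⟨h, hh, -⟩ | ⟨h, hh, -⟩
    all_goals
      have hdvd := Subgroup.orderOf_dvd_natCard _ hh
      rw [CfsgLib.Ree.orderOf_conj', hcard] at hdvd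
    · exact hdvd.mul_right _
    · exact hdvd.mul_left _
  have ha5 := hx.five_le
  have hb5 := hk.five_le
  have hsum : a + b = 2 * Fintype.card F + 2 := by
    rw [hab] at heq
    have e2 : (a - 1) * b + (b - 1) * a + (a + b) = 2 * (a * b) := by
      obtain ⟨a', ha'⟩ : ∃ a', a = a' + 1 := ⟨a - 1, by omega⟩
      obtain ⟨b', hb'⟩ : ∃ b', b = b' + 1 := ⟨b - 1, by omega⟩
      rw [ha', hb']
      simp only [Nat.add_sub_cancel]
      ring
    rw [hab] at e2
    generalize (a - 1) * b + (b - 1) * a = X at *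
    generalize a + b = s at *
    generalize Fintype.card F = q at *
    obtain ⟨q', rfl⟩ : ∃ q', q = q' + 1 := ⟨q - 1, by omega⟩
    simp only [Nat.add_sub_cancel] at heq
    have h3 : 2 * ((q' + 1) * q') = X :=
      mul_left_cancel₀ (show 2 * ((q' + 1) ^ 2 + 1) ≠ 0 by positivity) (by linarith)
    linarith
  have hroots : ∀ j ∈ ({2 ^ (2 * m + 1) + 2 ^ (m + 1) + 1, 2 ^ (2 * m + 1) - 2 ^ (m + 1) + 1} : Set ℕ),
      a = j ∨ b = j := by
    intro j hj
    have hr : 2 ^ (m + 1) ≤ 2 ^ (2 * m + 1) := Nat.pow_le_pow_right (by norm_num) (by omega)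
    have hsq : (2 ^ (m + 1)) ^ 2 = 2 * 2 ^ (2 * m + 1) := by
      rw [← pow_mul, ← pow_succ']; congr 1; ring
    rw [hP.card] at hab hsum
    generalize 2 ^ (m + 1) = r at *
    generalize 2 ^ (2 * m + 1) = q at *
    have hj' : j = q + r + 1 ∨ j = q - r + 1 := hj
    zify [hr] at hj' hab hsum hsq ⊢
    have h0 : ((a : ℤ) - j) * ((b : ℤ) - j) = 0 := by
      rcases hj' with h | h <;> rw [h]
      · linear_combination hab - ((q : ℤ) + r + 1) * hsum + hsq
      · linear_combination hab - ((q : ℤ) - r + 1) * hsum + hsq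
    rcases mul_eq_zero.1 h0 with h | h
    · exact Or.inl (sub_eq_zero.1 h)
    · exact Or.inr (sub_eq_zero.1 h)
  intro j hj
  rcases hroots j hj with h | h
  · exact ⟨Subgroup.centralizer {x}, hx.cent_cyclic, ha ▸ h, fun u hu h1 => hx.cent_eq hu h1,
      by rw [hN x (by simp), ← ha, h]⟩
  · exact ⟨Subgroup.centralizer {k}, hk.cent_cyclic, hb ▸ h, fun u hu h1 => hk.cent_eq hu h1,
      by rw [hN k (by simp), ← hb, h]⟩

theorem isCNGroup : Cfsg.IsCNGroup (Gp F m) := by
  intro g hg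
  obtain ⟨r, hr, hrg⟩ := Nat.exists_prime_and_dvd (fun h => hg (orderOf_eq_one_iff.1 h))
  set w := g ^ (orderOf g / r) with hw
  have ho : orderOf w = r := orderOf_pow_orderOf_div (orderOf_pos g).ne' hrg
  have hle : ∀ c ∈ Subgroup.centralizer ({g} : Set (Gp F m)), c ∈ Subgroup.centralizer {w} :=
    fun c hc => Subgroup.mem_centralizer_singleton_iff.2
      ((show Commute c g from Subgroup.mem_centralizer_singleton_iff.1 hc).pow_right _).eq
  suffices ∃ (K : Subgroup (Gp F m)) (h : Gp F m), Group.IsNilpotent K ∧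
      ∀ c ∈ Subgroup.centralizer {w}, h * c * h⁻¹ ∈ K by
    obtain ⟨K, h, hK, hc⟩ := this
    let f : ↥(Subgroup.centralizer ({g} : Set (Gp F m))) →* K :=
      ((MulAut.conj h).toMonoidHom.comp (Subgroup.centralizer _).subtype).codRestrict _
        fun c => hc _ (hle _ c.2)
    have finj : Function.Injective f := fun a b e =>
      Subtype.ext ((MulAut.conj h).injective (congrArg Subtype.val e))
    exact Subgroup.isNilpotent_of_ker_le_center f (by rw [(MonoidHom.ker_eq_bot_iff f).2 finj]; exact bot_le)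
  rcases prime_dvd_card hr (hrg.trans (orderOf_dvd_natCard g)) with h | h | h
  · obtain ⟨k, hk⟩ := cent_two (ho.trans h)
    exact ⟨grpU F m, k, (IsPGroup.of_card (p := 2) (n := 2 * (2 * m + 1))
      (by rw [natCard_grpU, hP.card, ← pow_mul, mul_comm])).isNilpotent, hk⟩
  · obtain ⟨k, hk⟩ := cent_H hr h ho
    have : IsCyclic ↥(grpH F m) := by
      rw [grpH]; exact isCyclic_of_surjective _ (gH (F := F) (m := m)).rangeRestrict_surjective
    let _ := IsCyclic.commGroup (α := ↥(grpH F m))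
    exact ⟨grpH F m, k, inferInstance, hk⟩
  · have hwT : IsT w := ⟨r, hr, h, ho⟩
    have := hwT.cent_cyclic
    let _ := IsCyclic.commGroup (α := ↥(Subgroup.centralizer {w}))
    exact ⟨Subgroup.centralizer {w}, 1, inferInstance, fun c hc => by simpa using hc⟩

end CfsgLib.Suzuki
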