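import Mathlib
import Cfsg.Agent.Lib.Suzuki.Tori
import Cfsg.Agent.Lib.Suzuki.LieEquiv

/-!
# Covers of the Suzuki group by nilpotent subgroups
-/

set_option autoImplicit false
set_option linter.unusedSectionVars false

namespace CfsgLib.Suzuki

open MulAction

/-- A group with an injective homomorphism to a nilpotent group is nilpotent. -/
theorem isNilpotent_of_injective' {A B : Type*} [Group A] [Group B] [Group.IsNilpotent B]
    (f : A →* B) (hf : Function.Injective f) : Group.IsNilpotent A :=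
  Subgroup.isNilpotent_of_ker_le_center f (by rw [(MonoidHom.ker_eq_bot_iff f).2 hf]; exact bot_le)

/-- A cover by proper subgroups. -/
def IsCover {L : Type*} [Group L] (S : Finset (Subgroup L)) : Prop :=
  (∀ A ∈ S, A ≠ ⊤) ∧ ∀ g : L, ∃ A ∈ S, g ∈ A

/-- Abstract form: a family of nilpotent subgroups closed under taking centralizers, two members of
which lie in a proper subgroup, beats every nilpotent cover. -/
theorem no_nilpotent_minimal_cover {L : Type*} [Group L] [Finite L] (C : Finset (Subgroup L))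
    (hproper : ∀ X ∈ C, X ≠ ⊤) (hnil : ∀ X ∈ C, Group.IsNilpotent ↥X) (hbot : ∀ X ∈ C, X ≠ ⊥)
    (hcent : ∀ X ∈ C, ∀ g ∈ X, g ≠ 1 → Subgroup.centralizer {g} ≤ X)
    (hcov : ∀ g : L, g ≠ 1 → ∃ X ∈ C, g ∈ X)
    {X₁ X₂ B : Subgroup L} (h₁ : X₁ ∈ C) (h₂ : X₂ ∈ C) (hne : X₁ ≠ X₂) (hB₁ : X₁ ≤ B)
    (hB₂ : X₂ ≤ B) (hB : B ≠ ⊤) :
    ¬ ∃ S : Finset (Subgroup L), IsCover S ∧ (∀ T : Finset (Subgroup L), IsCover T → S.card ≤ T.card) ∧
      ∀ A ∈ S, Group.IsNilpotent ↥A := by
  classical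
  rintro ⟨S, hS, hmin, hSnil⟩
  have center_elt : ∀ A : Subgroup L, Group.IsNilpotent ↥A → ∀ g ∈ A, g ≠ 1 →
      ∃ z ∈ A, z ≠ 1 ∧ ∀ a ∈ A, a * z = z * a := by
    intro A hA g hg h1
    have : Nontrivial ↥A := ⟨⟨g, hg⟩, 1, fun e => h1 (congrArg Subtype.val e)⟩
    obtain ⟨z, hz, hz1⟩ := (Subgroup.center ↥A).bot_or_exists_ne_one.resolve_left
      (Group.IsNilpotent.center_ne_bot (G := ↥A))
    exact ⟨z, z.2, fun e => hz1 (Subtype.ext e), fun a ha =>
      congrArg Subtype.val (Subgroup.mem_center_iff.1 hz ⟨a, ha⟩)⟩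
  have hle : ∀ X ∈ C, ∀ A : Subgroup L, Group.IsNilpotent ↥A → ∀ g ∈ A, g ∈ X → g ≠ 1 → A ≤ X := by
    intro X hX A hA g hgA hgX h1
    obtain ⟨z, hzA, hz1, hz⟩ := center_elt A hA g hgA h1
    have hzX : z ∈ X := hcent X hX g hgX h1
      (Subgroup.mem_centralizer_singleton_iff.2 (hz g hgA).symm)
    exact fun a ha => hcent X hX z hzX hz1 (Subgroup.mem_centralizer_singleton_iff.2 (hz a ha))
  have huniq : ∀ X ∈ C, ∀ Y ∈ C, ∀ g ∈ X, g ∈ Y → g ≠ 1 → X = Y := fun X hX Y hY g h h' h1 =>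
    le_antisymm (hle Y hY X (hnil X hX) g h h' h1) (hle X hX Y (hnil Y hY) g h' h h1)
  have hsel : ∀ X : C, ∃ A, A ∈ S ∧ ∃ g ∈ A, g ∈ (X : Subgroup L) ∧ g ≠ 1 := by
    rintro ⟨X, hX⟩
    obtain ⟨g, hg, h1⟩ := X.bot_or_exists_ne_one.resolve_left (hbot X hX)
    obtain ⟨A, hA, hgA⟩ := hS.2 g
    exact ⟨A, hA, g, hgA, hg, h1⟩
  choose f hfS g hgA hgX hg1 using hsel
  have hinj : Function.Injective fun X : C => (⟨f X, hfS X⟩ : S) := fun X Y h => by
    have e : f X = f Y := congrArg Subtype.val h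
    refine Subtype.ext ?_
    exact huniq _ X.2 _ Y.2 (g X) (hgX X)
      (hle _ Y.2 _ (hSnil _ (hfS Y)) (g Y) (hgA Y) (hgX Y) (hg1 Y) (e ▸ hgA X)) (hg1 X)
  have hcard : C.card ≤ S.card := by
    simpa using Fintype.card_le_of_injective _ hinj
  let T := insert B ((C.erase X₁).erase X₂)
  have hT : IsCover T := by
    refine ⟨fun A hA => ?_, fun a => ?_⟩
    · rcases Finset.mem_insert.1 hA with rfl | hA
      · exact hB
      · exact hproper A (Finset.mem_of_mem_erase (Finset.mem_of_mem_erase hA))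
    · by_cases ha : a = 1
      · exact ⟨B, Finset.mem_insert_self _ _, ha ▸ B.one_mem⟩
      obtain ⟨X, hX, haX⟩ := hcov a ha
      by_cases e₁ : X = X₁
      · exact ⟨B, Finset.mem_insert_self _ _, hB₁ (e₁ ▸ haX)⟩
      by_cases e₂ : X = X₂
      · exact ⟨B, Finset.mem_insert_self _ _, hB₂ (e₂ ▸ haX)⟩
      exact ⟨X, Finset.mem_insert_of_mem (Finset.mem_erase.2 ⟨e₂, Finset.mem_erase.2 ⟨e₁, hX⟩⟩), haX⟩
  have h3 := hmin T hT
  have h4 : T.card ≤ ((C.erase X₁).erase X₂).card + 1 := Finset.card_insert_le _ _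
  rw [Finset.card_erase_of_mem (Finset.mem_erase.2 ⟨Ne.symm hne, h₂⟩),
    Finset.card_erase_of_mem h₁] at h4
  have h5 : 2 ≤ C.card := Finset.one_lt_card.2 ⟨X₁, h₁, X₂, h₂, hne⟩
  omega

variable {F : Type*} [Field F] [Fintype F] [CharP F 2] {m : ℕ} [hP : Param F m]

include hP

omit hP in
theorem mem_map_conj {X : Subgroup (Gp F m)} {g a : Gp F m} :
    a ∈ X.map (MulAut.conj g).toMonoidHom ↔ g⁻¹ * a * g ∈ X := by
  rw [Subgroup.mem_map_equiv]; simp [MulAut.conj_symm_apply]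

theorem isNilpotent_grpU : Group.IsNilpotent ↥(grpU F m) :=
  (IsPGroup.of_card (p := 2) (n := 2 * (2 * m + 1))
    (by rw [natCard_grpU, hP.card, ← pow_mul, mul_comm])).isNilpotent

theorem isNilpotent_grpH : Group.IsNilpotent ↥(grpH F m) := by
  have : IsCyclic ↥(grpH F m) := by
    rw [grpH]; exact isCyclic_of_surjective _ (gH (F := F) (m := m)).rangeRestrict_surjective
  let _ := IsCyclic.commGroup (α := ↥(grpH F m))
  infer_instance

variable (F m) in
/-- The maximal nilpotent subgroups. -/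
def IsMaxNil (X : Subgroup (Gp F m)) : Prop :=
  (∃ g, X = (grpU F m).map (MulAut.conj g).toMonoidHom) ∨
    (∃ g, X = (grpH F m).map (MulAut.conj g).toMonoidHom) ∨
    ∃ x, IsT x ∧ X = Subgroup.centralizer {x}

theorem IsMaxNil.nilpotent {X : Subgroup (Gp F m)} (hX : IsMaxNil F m X) : Group.IsNilpotent ↥X := by
  rcases hX with ⟨g, rfl⟩ | ⟨g, rfl⟩ | ⟨x, hx, rfl⟩
  · have := isNilpotent_grpU (F := F) (m := m)
    exact isNilpotent_of_injective' ((grpU F m).equivMapOfInjective _ (MulAut.conj g).injective).symm.toMonoidHom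
      (MulEquiv.injective _)
  · have := isNilpotent_grpH (F := F) (m := m)
    exact isNilpotent_of_injective' ((grpH F m).equivMapOfInjective _ (MulAut.conj g).injective).symm.toMonoidHom
      (MulEquiv.injective _)
  · have := hx.cent_cyclic
    let _ := IsCyclic.commGroup (α := ↥(Subgroup.centralizer {x}))
    infer_instance

theorem IsMaxNil.cent {X : Subgroup (Gp F m)} (hX : IsMaxNil F m X) {a : Gp F m} (ha : a ∈ X)
    (h1 : a ≠ 1) : Subgroup.centralizer {a} ≤ X := by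
  intro c hc
  rcases hX with ⟨g, rfl⟩ | ⟨g, rfl⟩ | ⟨x, hx, rfl⟩
  · rw [mem_map_conj] at ha ⊢
    refine centralizer_gT_le ha (by simpa using conj_ne_one (F := F) (m := m) h1 g⁻¹) ?_
    have := (CfsgLib.Ree.centralizer_conj_iff g⁻¹ a (g⁻¹ * c * g)).2 (by simpa [mul_assoc] using hc)
    simpa using this
  · rw [mem_map_conj] at ha ⊢
    rw [← centralizer_gH ha (by simpa using conj_ne_one (F := F) (m := m) h1 g⁻¹)]
    have := (CfsgLib.Ree.centralizer_conj_iff g⁻¹ a (g⁻¹ * c * g)).2 (by simpa [mul_assoc] using hc)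
    simpa using this
  · exact (hx.cent_eq ha h1).le hc

theorem IsMaxNil.ne_bot {X : Subgroup (Gp F m)} (hX : IsMaxNil F m X) : X ≠ ⊥ := by
  intro e
  have h8 := eight_le_card (F := F) (m := m)
  have hc : Nat.card X = 1 := by rw [e]; exact Subgroup.card_bot
  rcases hX with ⟨g, rfl⟩ | ⟨g, rfl⟩ | ⟨x, hx, rfl⟩
  · rw [Subgroup.card_map_of_injective (MulAut.conj g).injective, natCard_grpU] at hc
    nlinarith
  · rw [Subgroup.card_map_of_injective (MulAut.conj g).injective, natCard_grpH] at hc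
    omega
  · have := hx.five_le
    omega

theorem IsMaxNil.ne_top {X : Subgroup (Gp F m)} (hX : IsMaxNil F m X) : X ≠ ⊤ := by
  intro e
  have := hX.nilpotent
  rw [e] at this
  have : Group.IsNilpotent (Gp F m) := isNilpotent_of_injective' Subgroup.topEquiv.symm.toMonoidHom
    (MulEquiv.injective _)
  have hsol : Group.IsSolvable (Gp F m) := inferInstance
  obtain ⟨n, hn⟩ := (Group.isSolvable_def _).1 hsol
  have hall : ∀ k, derivedSeries (Gp F m) k = ⊤ := by
    intro k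
    induction k with
    | zero => rfl
    | succ k ih => rw [derivedSeries_succ, ih, ← commutator_def, commutator_eq_top]
  rw [hall] at hn
  exact gW_ne_one (Subgroup.mem_bot.1 (hn ▸ Subgroup.mem_top (gW F m)))

theorem exists_maxNil {a : Gp F m} (ha : a ≠ 1) : ∃ X, IsMaxNil F m X ∧ a ∈ X := by
  rcases classify a with h | h | h | h
  · exact absurd h ha
  · obtain ⟨g, hg, -⟩ := h
    exact ⟨_, Or.inl ⟨g⁻¹, rfl⟩, mem_map_conj.2 (by simpa using hg)⟩
  · obtain ⟨g, hg, -⟩ := h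
    exact ⟨_, Or.inr (Or.inl ⟨g⁻¹, rfl⟩), mem_map_conj.2 (by simpa using hg)⟩
  · obtain ⟨r, hr, hrg⟩ := Nat.exists_prime_and_dvd (fun e => h.1 (orderOf_eq_one_iff.1 e))
    obtain ⟨hw, haw⟩ := isT_pow hr hrg (hrg.trans h.2)
    exact ⟨_, Or.inr (Or.inr ⟨_, hw, rfl⟩), haw⟩

theorem no_nilpotent_cover : ¬ ∃ S : Finset (Subgroup (Gp F m)), IsCover S ∧
    (∀ T : Finset (Subgroup (Gp F m)), IsCover T → S.card ≤ T.card) ∧
      ∀ A ∈ S, Group.IsNilpotent ↥A := by
  classical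
  let C : Finset (Subgroup (Gp F m)) := (Set.toFinite {X | IsMaxNil F m X}).toFinset
  have hC : ∀ X, X ∈ C ↔ IsMaxNil F m X := fun X => by simp [C]
  have hU : IsMaxNil F m (grpU F m) := Or.inl ⟨1, by ext; rw [mem_map_conj]; simp⟩
  have hH : IsMaxNil F m (grpH F m) := Or.inr (Or.inl ⟨1, by ext; rw [mem_map_conj]; simp⟩)
  refine no_nilpotent_minimal_cover C (fun X h => ((hC X).1 h).ne_top)
    (fun X h => ((hC X).1 h).nilpotent) (fun X h => ((hC X).1 h).ne_bot)
    (fun X h g hg h1 => ((hC X).1 h).cent hg h1)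
    (fun g hg => by obtain ⟨X, hX, hgX⟩ := exists_maxNil hg; exact ⟨X, (hC X).2 hX, hgX⟩)
    ((hC _).2 hU) ((hC _).2 hH) (B := stabilizer (Gp F m) (pinf F m)) ?_ ?_ ?_ ?_
  · intro e
    have h := natCard_grpU (F := F) (m := m)
    rw [e, natCard_grpH] at h
    have h8 := eight_le_card (F := F) (m := m)
    have : Fintype.card F ≤ Fintype.card F ^ 2 := Nat.le_self_pow (by norm_num) _
    omega
  · rintro _ ⟨a, b, rfl⟩
    exact gT_smul_pinf a b
  · rintro _ ⟨t, rfl⟩
    exact gH_smul_pinf t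
  · intro e
    have h : gW F m ∈ stabilizer (Gp F m) (pinf F m) := e ▸ Subgroup.mem_top _
    rw [mem_stabilizer_iff, gW_smul_pinf] at h
    exact paff_ne_pinf _ _ h

/-- Transfer to an isomorphic group. -/
theorem no_nilpotent_cover_of_equiv {L : Type*} [Group L] (e : Gp F m ≃* L) :
    ¬ ∃ S : Finset (Subgroup L), IsCover S ∧
    (∀ T : Finset (Subgroup L), IsCover T → S.card ≤ T.card) ∧
      ∀ A ∈ S, Group.IsNilpotent ↥A := by
  classical
  rintro ⟨S, ⟨hp, hc⟩, hmin, hnil⟩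
  have hinj : Function.Injective (Subgroup.comap e.toMonoidHom) :=
    Subgroup.comap_injective e.surjective
  apply no_nilpotent_cover (F := F) (m := m)
  refine ⟨S.image (Subgroup.comap e.toMonoidHom), ⟨?_, ?_⟩, ?_, ?_⟩
  · rintro A hA h
    obtain ⟨B, hB, rfl⟩ := Finset.mem_image.1 hA
    exact hp B hB (hinj (h.trans (Subgroup.comap_top _).symm))
  · intro g
    obtain ⟨A, hA, hg⟩ := hc (e g)
    exact ⟨_, Finset.mem_image_of_mem _ hA, hg⟩
  · intro T hT
    have hinj' : Function.Injective (Subgroup.map e.toMonoidHom) := Subgroup.map_injective e.injective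
    refine le_trans (Finset.card_image_le.trans (hmin (T.image (Subgroup.map e.toMonoidHom)) ⟨?_, ?_⟩))
      Finset.card_image_le
    · rintro A hA h
      obtain ⟨B, hB, rfl⟩ := Finset.mem_image.1 hA
      exact hT.1 B hB (hinj' (h.trans (Subgroup.map_top_of_surjective _ e.surjective).symm))
    · intro g
      obtain ⟨A, hA, hg⟩ := hT.2 (e.symm g)
      exact ⟨_, Finset.mem_image_of_mem _ hA, Subgroup.mem_map_equiv.2 hg⟩
  · intro A hA
    obtain ⟨B, hB, rfl⟩ := Finset.mem_image.1 hA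
    have := hnil B hB
    exact isNilpotent_of_injective' (((e.toMonoidHom).comp (B.comap e.toMonoidHom).subtype).codRestrict B
      fun a => a.2) fun a b h => Subtype.ext (e.injective (congrArg Subtype.val h))

end CfsgLib.Suzuki
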