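import Mathlib
import Cfsg.Agent.Lib.Suzuki.LieEquiv

/-!
# The Suzuki group on the cosets of a Borel subgroup
-/

set_option autoImplicit false
set_option linter.unusedSectionVars false

namespace CfsgLib.Suzuki

open MulAction

variable {F : Type*} [Field F] [Fintype F] [CharP F 2] {m : ℕ} [hP : Param F m]

include hP

theorem normalizer_grpU :
    Subgroup.normalizer (grpU F m : Set (Gp F m)) = stabilizer (Gp F m) (pinf F m) := by
  ext g
  refine ⟨fun hg => ?_, fun hg => Subgroup.mem_normalizer_fintype fun u hu =>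
    grpU_conj_mem hu (mem_stabilizer_iff.1 hg)⟩
  have h1 : gT (m := m) (1 : F) 0 ≠ 1 := fun h => one_ne_zero (gT_inj (h.trans gT_zero.symm)).1
  obtain ⟨a, b, hab⟩ := (Subgroup.mem_normalizer_iff.1 (inv_mem hg) _).1 (gT_mem (m := m) (1 : F) 0)
  rw [inv_inv] at hab
  rw [mem_stabilizer_iff]
  refine gT_fix h1 ?_
  rw [← mul_smul, show gT (m := m) (1 : F) 0 * g = g * (g⁻¹ * gT 1 0 * g) by group, hab, mul_smul,
    gT_smul_pinf]

/-- The sharp action of `U` on the affine points. -/
theorem grpU_regular {p q : Pts F m} (hp : p ≠ pinf F m) (hq : q ≠ pinf F m) :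
    ∃! s : grpU F m, (s : Gp F m) • p = q := by
  obtain ⟨a, b, hab⟩ := exists_gT_smul p hp
  obtain ⟨c, d, hcd⟩ := exists_gT_smul q hq
  refine ⟨⟨gT c d * (gT a b)⁻¹, mul_mem (gT_mem c d) (inv_mem (gT_mem a b))⟩, ?_, ?_⟩
  · show (gT (m := m) c d * (gT a b)⁻¹) • p = q
    rw [mul_smul, ← hab, inv_smul_smul, hcd]
  · rintro ⟨s, hs⟩ h
    refine Subtype.ext ?_
    show s = gT c d * (gT a b)⁻¹
    rw [← mul_inv_eq_one]
    by_contra hne
    obtain ⟨x, y, hxy⟩ := mul_mem hs (inv_mem (mul_mem (gT_mem (m := m) c d) (inv_mem (gT_mem a b))))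
    refine hq (gT_fix (a := x) (b := y) (hxy ▸ hne) ?_)
    change s • p = q at h
    rw [← hxy, show (gT c d * (gT (m := m) a b)⁻¹)⁻¹ = gT a b * (gT c d)⁻¹ by group, mul_smul,
      mul_smul, ← hcd, inv_smul_smul, hab, h, hcd]

/-- The facts about the Sylow 2-subgroup, in any isomorphic group. -/
theorem sylow_borel {L : Type*} [Group L] [Finite L] (e : Gp F m ≃* L) :
    ∃ S : Sylow 2 L,
      Nat.card (Subgroup.normalizer ((S : Subgroup L) : Set L)) =
        Fintype.card F ^ 2 * (Fintype.card F - 1) ∧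
      (Subgroup.normalizer ((S : Subgroup L) : Set L)).index = Fintype.card F ^ 2 + 1 ∧
      IsMultiplyPretransitive L (L ⧸ Subgroup.normalizer ((S : Subgroup L) : Set L)) 2 ∧
      ∀ x y : L ⧸ Subgroup.normalizer ((S : Subgroup L) : Set L),
        x ≠ QuotientGroup.mk 1 → y ≠ QuotientGroup.mk 1 →
          ∃! s : ↥(S : Subgroup L), (s : L) • x = y := by
  let _ : MulAction L (Pts F m) := MulAction.compHom _ e.symm.toMonoidHom
  have hsmul : ∀ (g : L) (p : Pts F m), g • p = e.symm g • p := fun _ _ => rfl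
  have hcard : Nat.card ((grpU F m).map e.toMonoidHom) =
      2 ^ (Nat.card L).factorization 2 := by
    rw [Subgroup.card_map_of_injective e.injective, ← Nat.card_congr e.toEquiv]
    exact (sylowU F m).card_eq_multiplicity
  set S := (grpU F m).map e.toMonoidHom with hSdef
  refine ⟨Sylow.ofCard S hcard, ?_⟩
  suffices H : ∀ N : Subgroup L, N = stabilizer L (pinf F m) →
      Nat.card N = Fintype.card F ^ 2 * (Fintype.card F - 1) ∧ N.index = Fintype.card F ^ 2 + 1 ∧
      IsMultiplyPretransitive L (L ⧸ N) 2 ∧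
      ∀ x y : L ⧸ N, x ≠ QuotientGroup.mk 1 → y ≠ QuotientGroup.mk 1 →
        ∃! s : ↥S, (s : L) • x = y by
    refine H _ ?_
    show Subgroup.normalizer (S : Set L) = _
    rw [hSdef, ← Subgroup.map_equiv_normalizer_eq, normalizer_grpU]
    ext g
    rw [Subgroup.mem_map_equiv, mem_stabilizer_iff, mem_stabilizer_iff, hsmul]
  rintro N rfl
  have : IsPretransitive L (Pts F m) := ⟨fun p q => by
    obtain ⟨g, hg⟩ := exists_smul_eq (Gp F m) p q
    exact ⟨e g, by rw [hsmul, e.symm_apply_apply, hg]⟩⟩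
  have hidx : (stabilizer L (pinf F m)).index = Fintype.card F ^ 2 + 1 := by
    rw [index_stabilizer_of_transitive, natCard_pts]
  have hcardN : Nat.card (stabilizer L (pinf F m)) = Fintype.card F ^ 2 * (Fintype.card F - 1) := by
    have h := (stabilizer L (pinf F m)).index_mul_card
    rw [hidx, ← Nat.card_congr e.toEquiv, natCard_group] at h
    refine Nat.eq_of_mul_eq_mul_left (show 0 < Fintype.card F ^ 2 + 1 by omega) (h.trans ?_)
    ring
  refine ⟨hcardN, hidx, ?_, ?_⟩
  · rw [is_two_pretransitive_iff]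
    intro a b c d hab hcd
    have hinj := MulAction.injective_ofQuotientStabilizer L (pinf F m)
    obtain ⟨g, h1, h2⟩ : ∃ g : Gp F m, g • ofQuotientStabilizer L (pinf F m) a =
        ofQuotientStabilizer L (pinf F m) c ∧ g • ofQuotientStabilizer L (pinf F m) b =
        ofQuotientStabilizer L (pinf F m) d :=
      is_two_pretransitive_iff.1 two_transitive (hinj.ne hab) (hinj.ne hcd)
    refine ⟨e g, hinj ?_, hinj ?_⟩ <;>
      rw [MulAction.ofQuotientStabilizer_smul, hsmul, e.symm_apply_apply] <;> assumption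
  · intro x y hx hy
    have hinj := MulAction.injective_ofQuotientStabilizer L (pinf F m)
    have h0 : ofQuotientStabilizer L (pinf F m) (QuotientGroup.mk 1) = pinf F m := one_smul L _
    obtain ⟨s, hs, huniq⟩ := grpU_regular (p := ofQuotientStabilizer L (pinf F m) x)
      (q := ofQuotientStabilizer L (pinf F m) y) (fun h => hx (hinj (h.trans h0.symm)))
      (fun h => hy (hinj (h.trans h0.symm)))
    refine ⟨⟨e s, Subgroup.mem_map_of_mem _ s.2⟩, hinj ?_, ?_⟩
    · rw [MulAction.ofQuotientStabilizer_smul, hsmul, e.symm_apply_apply, hs]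
    · rintro ⟨t, ht⟩ h
      obtain ⟨u, hu, rfl⟩ := Subgroup.mem_map.1 ht
      have h' := congrArg (ofQuotientStabilizer L (pinf F m)) h
      rw [MulAction.ofQuotientStabilizer_smul] at h'
      change e u • _ = _ at h'
      rw [hsmul, e.symm_apply_apply] at h'
      refine Subtype.ext ?_
      show e u = e s
      rw [← huniq ⟨u, hu⟩ h']

end CfsgLib.Suzuki
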