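import Mathlib
import Cfsg.Agent.Lib.Suzuki.Tori
import Cfsg.Agent.Lib.Suzuki.Coset
import Cfsg.Agent.Lib.Suzuki.Cover

/-!
# Solvable subgroups of the Suzuki group and solubilizers
-/

set_option autoImplicit false
set_option linter.unusedSectionVars false

namespace CfsgLib.Suzuki

open MulAction
open scoped Pointwise

/-! ### Generalities -/

theorem normalizer_map_conj {G : Type*} [Group G] (X : Subgroup G) (g y : G) :
    y ∈ Subgroup.normalizer ((X.map (MulAut.conj g).toMonoidHom : Subgroup G) : Set G) ↔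
      g⁻¹ * y * g ∈ Subgroup.normalizer (X : Set G) := by
  rw [← Subgroup.map_equiv_normalizer_eq, Subgroup.mem_map_equiv]
  simp [MulAut.conj_symm_apply]

/-- Counting the conjugates of `X` whose normalizer contains `x`. -/
theorem card_conjugates_containing {G : Type*} [Group G] [Finite G] (X : Subgroup G) (x : G) :
    {Y : Subgroup G | (∃ g, Y = X.map (MulAut.conj g).toMonoidHom) ∧
        x ∈ Subgroup.normalizer (Y : Set G)}.ncard *
      Nat.card ↥(Subgroup.normalizer (X : Set G)) =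
    {z : G | z ∈ Subgroup.normalizer (X : Set G) ∧ IsConj x z}.ncard *
      Nat.card ↥(Subgroup.centralizer ({x} : Set G)) := by
  classical
  let _ : Fintype G := Fintype.ofFinite G
  have eS : {Y : Subgroup G | (∃ g, Y = X.map (MulAut.conj g).toMonoidHom) ∧
        x ∈ Subgroup.normalizer (Y : Set G)} =
      ↑((Finset.univ.image fun g : G => X.map (MulAut.conj g).toMonoidHom).filter
        fun Y : Subgroup G => x ∈ Subgroup.normalizer (Y : Set G)) := by
    ext Y; simp [eq_comm]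
  rw [eS, Set.ncard_coe_finset]
  set N := Subgroup.normalizer (X : Set G)
  set P : Finset G := Finset.univ.filter fun g => g⁻¹ * x * g ∈ N with hP
  have h1 : P.card = ((Finset.univ.image fun g : G => X.map (MulAut.conj g).toMonoidHom).filter
      fun Y : Subgroup G => x ∈ Subgroup.normalizer (Y : Set G)).card * Nat.card N := by
    rw [Finset.card_eq_sum_card_fiberwise (s := P)
      (t := (Finset.univ.image fun g : G => X.map (MulAut.conj g).toMonoidHom).filter
        fun Y : Subgroup G => x ∈ Subgroup.normalizer (Y : Set G))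
      (f := fun g => X.map (MulAut.conj g).toMonoidHom) (fun g hg => ?_), Finset.sum_const_nat]
    · intro Y hY
      obtain ⟨hY1, hY2⟩ := Finset.mem_filter.1 hY
      obtain ⟨g0, -, rfl⟩ := Finset.mem_image.1 hY1
      rw [Nat.card_eq_fintype_card, ← Finset.card_univ (α := N)]
      symm
      refine Finset.card_bij (fun k _ => g0 * (k : G)) (fun k _ => ?_)
        (fun a _ b _ e => Subtype.ext (mul_left_cancel e)) (fun g hg => ?_)
      · have e : X.map (MulAut.conj (g0 * (k : G))).toMonoidHom = X.map (MulAut.conj g0).toMonoidHom := by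
          ext y
          rw [Subgroup.mem_map_equiv, Subgroup.mem_map_equiv, MulAut.conj_symm_apply,
            MulAut.conj_symm_apply, Subgroup.mem_normalizer_iff.1 k.2 _]
          group
        refine Finset.mem_filter.2 ⟨?_, e⟩
        rw [hP, Finset.mem_filter]
        refine ⟨Finset.mem_univ _, (normalizer_map_conj X _ x).1 ?_⟩
        rw [e]; exact hY2
      · obtain ⟨-, he⟩ := Finset.mem_filter.1 hg
        refine ⟨⟨g0⁻¹ * g, ?_⟩, Finset.mem_univ _, mul_inv_cancel_left g0 g⟩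
        refine Subgroup.mem_normalizer_fintype fun y hy => ?_
        have hm : g * y * g⁻¹ ∈ X.map (MulAut.conj g).toMonoidHom := Subgroup.mem_map_of_mem _ hy
        change X.map (MulAut.conj g).toMonoidHom = _ at he
        rw [he, Subgroup.mem_map_equiv, MulAut.conj_symm_apply] at hm
        rw [SetLike.mem_coe, show g0⁻¹ * g * y * (g0⁻¹ * g)⁻¹ = g0⁻¹ * (g * y * g⁻¹) * g0 by group]
        exact hm
    · exact Finset.mem_filter.2 ⟨Finset.mem_image_of_mem _ (Finset.mem_univ g),
        (normalizer_map_conj X g x).2 (Finset.mem_filter.1 hg).2⟩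
  have h2 : P.card = {z : G | z ∈ N ∧ IsConj x z}.ncard *
      Nat.card ↥(Subgroup.centralizer ({x} : Set G)) := by
    rw [Set.ncard_eq_toFinset_card' {z : G | z ∈ N ∧ IsConj x z},
      Finset.card_eq_sum_card_fiberwise (s := P) (t := {z : G | z ∈ N ∧ IsConj x z}.toFinset)
      (f := fun g => g⁻¹ * x * g) (fun g hg => ?_), Finset.sum_const_nat]
    · intro z hz
      obtain ⟨hzN, hzc⟩ := Set.mem_toFinset.1 hz
      obtain ⟨c, hc⟩ := isConj_iff.1 hzc
      rw [Nat.card_eq_fintype_card, ← Finset.card_univ (α := ↥(Subgroup.centralizer ({x} : Set G)))]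
      symm
      refine Finset.card_bij (fun k _ => (k : G) * c⁻¹) (fun k _ => ?_)
        (fun a _ b _ e => Subtype.ext (mul_right_cancel e)) (fun g hg => ?_)
      · have e : ((k : G) * c⁻¹)⁻¹ * x * ((k : G) * c⁻¹) = z := by
          rw [← hc, show ((k : G) * c⁻¹)⁻¹ * x * ((k : G) * c⁻¹) = c * ((k : G)⁻¹ * (x * k)) * c⁻¹ by group,
            ← Subgroup.mem_centralizer_singleton_iff.1 k.2, inv_mul_cancel_left]
        exact Finset.mem_filter.2 ⟨by rw [hP, Finset.mem_filter, e]; exact ⟨Finset.mem_univ _, hzN⟩, e⟩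
      · obtain ⟨-, he⟩ := Finset.mem_filter.1 hg
        refine ⟨⟨g * c, ?_⟩, Finset.mem_univ _, mul_inv_cancel_right g c⟩
        rw [Subgroup.mem_centralizer_singleton_iff]
        change g⁻¹ * x * g = z at he
        rw [← hc] at he
        calc g * c * x = g * (c * x * c⁻¹) * c := by group
          _ = g * (g⁻¹ * x * g) * c := by rw [he]
          _ = x * (g * c) := by group
    · exact Set.mem_toFinset.2 ⟨(Finset.mem_filter.1 hg).2, isConj_iff.2 ⟨g⁻¹, by rw [inv_inv]⟩⟩
  rw [← h1, h2]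

variable {F : Type*} [Field F] [Fintype F] [CharP F 2] {m : ℕ} [hP : Param F m]

include hP

/-! ### Two-elements -/

theorem gT_ne_one {a b : F} (h : a ≠ 0 ∨ b ≠ 0) : gT (m := m) a b ≠ 1 := fun e => by
  obtain ⟨ha, hb⟩ := gT_inj (e.trans gT_zero.symm)
  rcases h with h | h <;> contradiction

theorem grpU_fix {u : Gp F m} (hu : u ∈ grpU F m) (h1 : u ≠ 1) {p : Pts F m} (hp : u • p = p) :
    p = pinf F m := by
  obtain ⟨a, b, rfl⟩ := hu
  exact gT_fix h1 hp

theorem mem_grpU_of_fix {x : Gp F m} {k : ℕ} (hx : orderOf x = 2 ^ k)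
    (hi : x • pinf F m = pinf F m) : x ∈ grpU F m := by
  rcases eq_or_ne x 1 with rfl | h1
  · exact one_mem _
  obtain ⟨g, hg⟩ := exists_conj_mem_grpU hx
  have hgi : g • pinf F m = pinf F m := grpU_fix hg (conj_ne_one (F := F) (m := m) h1 g)
    (by rw [mul_smul, mul_smul, inv_smul_smul, hi])
  have h := grpU_conj_mem hg (g := g⁻¹) (inv_smul_eq_iff.2 hgi.symm)
  rwa [inv_inv, show g⁻¹ * (g * x * g⁻¹) * g = x by group] at h

theorem twoGroup_le_grpU {x : Gp F m} (hx : x ∈ grpU F m) (h1 : x ≠ 1) {Q : Subgroup (Gp F m)}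
    (hQ : IsPGroup 2 Q) (hxQ : x ∈ Q) : Q ≤ grpU F m := by
  obtain ⟨P, hle⟩ := hQ.exists_le_sylow
  obtain ⟨k, hk⟩ := MulAction.exists_smul_eq (Gp F m) P (sylowU F m)
  have hmem : ∀ y ∈ (P : Subgroup (Gp F m)), k * y * k⁻¹ ∈ grpU F m := fun y hy => by
    rw [← coe_sylowU (F := F) (m := m), ← hk]
    exact Subgroup.smul_mem_pointwise_smul y (MulAut.conj k) _ hy
  have hki : k • pinf F m = pinf F m := grpU_fix (hmem x (hle hxQ)) (conj_ne_one (F := F) (m := m) h1 k)
    (by obtain ⟨a, b, rfl⟩ := hx; rw [mul_smul, mul_smul, inv_smul_smul, gT_smul_pinf])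
  intro y hy
  have h := grpU_conj_mem (hmem y (hle hy)) (g := k⁻¹) (inv_smul_eq_iff.2 hki.symm)
  rwa [inv_inv, show k⁻¹ * (k * y * k⁻¹) * k = y by group] at h

/-! ### Tori -/

/-- An abelian subgroup of odd order which is the centralizer of each of its nontrivial elements,
of index `n` in its normalizer. -/
structure Tor (X : Subgroup (Gp F m)) (n : ℕ) : Prop where
  comm : ∀ a ∈ X, ∀ b ∈ X, a * b = b * a
  odd : Odd (Nat.card X)
  cent : ∀ u ∈ X, u ≠ 1 → Subgroup.centralizer {u} = X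
  two_four : n = 2 ∨ n = 4
  card_normalizer : Nat.card ↥(Subgroup.normalizer (X : Set (Gp F m))) = n * Nat.card X

namespace Tor

variable {X X' : Subgroup (Gp F m)} {n n' : ℕ}

theorem eq_of_mem (h : Tor X n) (h' : Tor X' n') {c : Gp F m} (hc : c ∈ X) (hc' : c ∈ X')
    (h1 : c ≠ 1) : X = X' := by rw [← h.cent c hc h1, h'.cent c hc' h1]

theorem odd_order (h : Tor X n) {c : Gp F m} (hc : c ∈ X) : Odd (orderOf c) :=
  h.odd.of_dvd_nat (Subgroup.orderOf_dvd_natCard _ hc)

theorem eq_one_of_sq (h : Tor X n) {c : Gp F m} (hc : c ∈ X) (h2 : c * c = 1) : c = 1 := by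
  refine orderOf_eq_one_iff.1 (Nat.eq_one_of_dvd_coprimes
    (Nat.coprime_two_right.2 (h.odd_order hc)) dvd_rfl (orderOf_dvd_of_pow_eq_one ?_))
  rw [pow_two, h2]

theorem index_subgroupOf (h : Tor X n) :
    (X.subgroupOf (Subgroup.normalizer (X : Set (Gp F m)))).index = n := by
  have e := (X.subgroupOf (Subgroup.normalizer (X : Set (Gp F m)))).card_mul_index
  rw [Nat.card_congr (Subgroup.subgroupOfEquivOfLe (Subgroup.le_normalizer (H := X))).toEquiv,
    h.card_normalizer, mul_comm n] at e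
  exact Nat.eq_of_mul_eq_mul_left Nat.card_pos e

theorem pow_mem (h : Tor X n) {y : Gp F m} (hy : y ∈ Subgroup.normalizer (X : Set (Gp F m))) :
    y ^ n ∈ X := by
  have e := (X.subgroupOf (Subgroup.normalizer (X : Set (Gp F m)))).pow_index_mem ⟨y, hy⟩
  rw [h.index_subgroupOf, Subgroup.mem_subgroupOf, Subgroup.coe_pow] at e
  exact e

theorem comm_mem (h : Tor X n) {x y : Gp F m} (hx : x ∈ Subgroup.normalizer (X : Set (Gp F m)))
    (hy : y ∈ Subgroup.normalizer (X : Set (Gp F m))) : x * y * x⁻¹ * y⁻¹ ∈ X := by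
  set N := Subgroup.normalizer (X : Set (Gp F m))
  haveI : (X.subgroupOf N).Normal := Subgroup.normal_in_normalizer
  haveI : Fact (Nat.Prime 2) := ⟨Nat.prime_two⟩
  have hc : ∀ a b : N ⧸ X.subgroupOf N, a * b = b * a := by
    have hq : Nat.card (N ⧸ X.subgroupOf N) = n := h.index_subgroupOf
    rcases h.two_four with rfl | rfl
    · have := isCyclic_of_prime_card (p := 2) hq
      exact fun a b => IsCyclic.commGroup.mul_comm a b
    · exact IsPGroup.commutative_of_card_eq_prime_sq (p := 2) hq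
  have e : QuotientGroup.mk' (X.subgroupOf N) (⟨x, hx⟩ * ⟨y, hy⟩ * ⟨x, hx⟩⁻¹ * ⟨y, hy⟩⁻¹) = 1 := by
    simp only [map_mul, map_inv]
    rw [hc (QuotientGroup.mk' _ ⟨x, hx⟩) (QuotientGroup.mk' _ ⟨y, hy⟩), mul_inv_cancel_right,
      mul_inv_cancel]
  exact Subgroup.mem_subgroupOf.1 ((QuotientGroup.eq_one_iff (N := X.subgroupOf N) _).1 e)

theorem isSolvable_normalizer (h : Tor X n) :
    Group.IsSolvable ↥(Subgroup.normalizer (X : Set (Gp F m))) := by
  set N := Subgroup.normalizer (X : Set (Gp F m))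
  haveI : (X.subgroupOf N).Normal := Subgroup.normal_in_normalizer
  have h1 : Group.IsSolvable ↥(X.subgroupOf N) :=
    isSolvable_of_comm fun a b => Subtype.ext (Subtype.ext (h.comm _ a.2 _ b.2))
  have h2 : Group.IsSolvable (N ⧸ X.subgroupOf N) := by
    haveI : Fact (Nat.Prime 2) := ⟨Nat.prime_two⟩
    have hq : Nat.card (N ⧸ X.subgroupOf N) = n := h.index_subgroupOf
    rcases h.two_four with rfl | rfl
    · have := isCyclic_of_prime_card (p := 2) hq
      exact isSolvable_of_comm fun a b => IsCyclic.commGroup.mul_comm a b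
    · exact isSolvable_of_comm (IsPGroup.commutative_of_card_eq_prime_sq (p := 2) hq)
  exact Group.isSolvable_of_ker_le_range (X.subgroupOf N).subtype (QuotientGroup.mk' (X.subgroupOf N))
    (by rw [QuotientGroup.ker_mk' (X.subgroupOf N), Subgroup.range_subtype])

/-- An involution of the normalizer inverts the torus. -/
theorem invert (h : Tor X n) {t : Gp F m} (ht : t ∈ Subgroup.normalizer (X : Set (Gp F m)))
    (h2 : t * t = 1) (h1 : t ≠ 1) {c : Gp F m} (hc : c ∈ X) : t * c * t = c⁻¹ := by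
  have ht' : t⁻¹ = t := inv_eq_of_mul_eq_one_right h2
  have hc' : t * c * t ∈ X := by
    have := (Subgroup.mem_normalizer_iff.1 ht c).1 hc
    rwa [ht'] at this
  refine eq_inv_of_mul_eq_one_right ?_
  by_contra hne
  have hd := mul_mem hc hc'
  have hfix : t ∈ Subgroup.centralizer {c * (t * c * t)} := by
    rw [Subgroup.mem_centralizer_singleton_iff]
    calc t * (c * (t * c * t)) = (t * c * t) * (c * t) := by group
      _ = (t * c * t) * c * t := by group
      _ = c * (t * c * t) * t := by rw [h.comm _ hc' _ hc]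
  rw [h.cent _ hd hne] at hfix
  exact h1 (h.eq_one_of_sq hfix h2)

theorem mul_invol_mem (h : Tor X n) {t x : Gp F m}
    (ht : t ∈ Subgroup.normalizer (X : Set (Gp F m))) (h2 : t * t = 1) (h1 : t ≠ 1)
    (hx : x ∈ Subgroup.normalizer (X : Set (Gp F m))) (k2 : x * x = 1) (k1 : x ≠ 1)
    (hne : X ≠ ⊥) : t * x ∈ X := by
  obtain ⟨u, hu, hu1⟩ := X.bot_or_exists_ne_one.resolve_left hne
  rw [← h.cent u hu hu1, Subgroup.mem_centralizer_singleton_iff]
  have e1 := h.invert ht h2 h1 (inv_mem hu)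
  have e2 := h.invert hx k2 k1 hu
  have ex : x⁻¹ = x := inv_eq_of_mul_eq_one_right k2
  have et : t⁻¹ = t := inv_eq_of_mul_eq_one_right h2
  rw [inv_inv] at e1
  calc t * x * u = t * (x * u * x) * x⁻¹ := by group
    _ = t * u⁻¹ * x⁻¹ := by rw [e2]
    _ = (t * u⁻¹ * t) * t⁻¹ * x⁻¹ := by group
    _ = _ := by rw [e1, ex, et]; group

theorem invol_coset (h : Tor X n) (hne : X ≠ ⊥) {x : Gp F m}
    (hx : x ∈ Subgroup.normalizer (X : Set (Gp F m))) (k2 : x * x = 1) (k1 : x ≠ 1) :
    {t | t ∈ Subgroup.normalizer (X : Set (Gp F m)) ∧ t * t = 1 ∧ t ≠ 1} =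
      (fun c => c * x) '' (X : Set (Gp F m)) := by
  ext t
  constructor
  · rintro ⟨ht, h2, h1⟩
    exact ⟨t * x, h.mul_invol_mem ht h2 h1 hx k2 k1 hne, by
      show t * x * x = t
      rw [mul_assoc, k2, mul_one]⟩
  · rintro ⟨c, hc, rfl⟩
    refine ⟨mul_mem (Subgroup.le_normalizer (H := X) hc) hx, ?_, fun e => k1 ?_⟩
    · show c * x * (c * x) = 1
      rw [show c * x * (c * x) = c * (x * c * x) by group, h.invert hx k2 k1 hc, mul_inv_cancel]
    · have hx' : x ∈ X := (mul_right_inj c).1 (e.trans (mul_inv_cancel c).symm) ▸ inv_mem hc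
      exact h.eq_one_of_sq hx' k2

theorem exists_invol (h : Tor X n) :
    ∃ t ∈ Subgroup.normalizer (X : Set (Gp F m)), t * t = 1 ∧ t ≠ 1 := by
  haveI : Fact (Nat.Prime 2) := ⟨Nat.prime_two⟩
  obtain ⟨⟨t, ht⟩, ho⟩ := exists_prime_orderOf_dvd_card'
    (G := ↥(Subgroup.normalizer (X : Set (Gp F m)))) 2
    (by rw [h.card_normalizer]; rcases h.two_four with rfl | rfl <;> exact Dvd.dvd.mul_right (by norm_num) _)
  rw [← Subgroup.orderOf_coe] at ho
  exact ⟨t, ht, by rw [← pow_two, ← ho]; exact pow_orderOf_eq_one t,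
    ne_one_of_prime Nat.prime_two ho⟩

theorem invol_count (h : Tor X n) (hne : X ≠ ⊥) :
    {t | t ∈ Subgroup.normalizer (X : Set (Gp F m)) ∧ t * t = 1 ∧ t ≠ 1}.ncard = Nat.card X := by
  obtain ⟨x, hx, k2, k1⟩ := h.exists_invol
  rw [h.invol_coset hne hx k2 k1, Set.ncard_image_of_injective _ (mul_left_injective x)]
  rfl

theorem sq_not_mem (h : Tor X n) {y : Gp F m} (hy : y ∈ Subgroup.normalizer (X : Set (Gp F m)))
    (hyX : y ∉ X) (h2 : y * y ∈ X) : y * y = 1 := by
  by_contra hne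
  apply hyX
  rw [← h.cent _ h2 hne, Subgroup.mem_centralizer_singleton_iff]
  group

theorem order_four_iff (h : Tor X 4) (hne : X ≠ ⊥) (y : Gp F m) :
    (y ∈ Subgroup.normalizer (X : Set (Gp F m)) ∧ orderOf y = 4) ↔
      (y ∈ Subgroup.normalizer (X : Set (Gp F m)) ∧ y ∉ X ∧ ¬ (y * y = 1 ∧ y ≠ 1)) := by
  constructor
  · rintro ⟨hy, ho⟩
    refine ⟨hy, fun hX => ?_, fun ⟨e, _⟩ => ?_⟩
    · have := h.odd_order hX
      rw [ho] at this
      exact absurd this (by decide)
    · have := orderOf_dvd_of_pow_eq_one (show y ^ 2 = 1 by rw [pow_two, e])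
      rw [ho] at this
      norm_num at this
  · rintro ⟨hy, hyX, hn⟩
    refine ⟨hy, ?_⟩
    have hy1 : y ≠ 1 := fun e => hyX (e ▸ one_mem X)
    have h2 : y * y ∉ X := fun hm => hn ⟨h.sq_not_mem hy hyX hm, hy1⟩
    have h4 := h.sq_not_mem (mul_mem hy hy) h2 (by
      have := h.pow_mem hy
      rwa [show y ^ 4 = y * y * (y * y) by rw [← pow_two, ← pow_two, ← pow_mul]] at this)
    haveI : Fact (Nat.Prime 2) := ⟨Nat.prime_two⟩
    refine orderOf_eq_prime_pow (p := 2) (n := 1) ?_ ?_
    · rw [pow_one, pow_two]; exact fun e => h2 (e ▸ one_mem X)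
    · rw [show (2 : ℕ) ^ (1 + 1) = 2 * 2 from rfl, pow_mul, pow_two y, pow_two, h4]

theorem order_four_count (h : Tor X 4) (hne : X ≠ ⊥) :
    {y | y ∈ Subgroup.normalizer (X : Set (Gp F m)) ∧ orderOf y = 4}.ncard = 2 * Nat.card X := by
  set N := Subgroup.normalizer (X : Set (Gp F m))
  set I := {t | t ∈ N ∧ t * t = 1 ∧ t ≠ 1}
  have e : {y | y ∈ N ∧ orderOf y = 4} = (N : Set (Gp F m)) \ ((X : Set (Gp F m)) ∪ I) := by
    ext y
    rw [Set.mem_ofPred_eq, h.order_four_iff hne]
    simp only [Set.mem_sdiff, Set.mem_union, SetLike.mem_coe, I, Set.mem_ofPred_eq]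
    tauto
  have hsub : (X : Set (Gp F m)) ∪ I ⊆ (N : Set (Gp F m)) :=
    Set.union_subset (fun c hc => Subgroup.le_normalizer (H := X) hc) fun c hc => hc.1
  have hd : Disjoint (X : Set (Gp F m)) I := Set.disjoint_left.2 fun c hc hI =>
    hI.2.2 (h.eq_one_of_sq hc hI.2.1)
  rw [e, Set.ncard_sdiff hsub, Set.ncard_union_eq hd, h.invol_count hne, ← Nat.card_coe_set_eq,
    ← Nat.card_coe_set_eq (X : Set (Gp F m))]
  rw [show Nat.card ↥(N : Set (Gp F m)) = 4 * Nat.card X from h.card_normalizer]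
  show 4 * Nat.card X - (Nat.card X + Nat.card X) = _
  omega

/-- The part of the normalizer fixing `∞`. -/
theorem card_inter_stab (h : Tor X n) {x : Gp F m} (hx : x ∈ grpU F m) (h1 : x ≠ 1)
    (hxN : x ∈ Subgroup.normalizer (X : Set (Gp F m))) :
    Nat.card ↥(Subgroup.normalizer (X : Set (Gp F m)) ⊓ stabilizer (Gp F m) (pinf F m)) = n := by
  haveI : Fact (Nat.Prime 2) := ⟨Nat.prime_two⟩
  set N := Subgroup.normalizer (X : Set (Gp F m))
  set B := stabilizer (Gp F m) (pinf F m)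
  have hUB : ∀ u ∈ grpU F m, u • pinf F m = pinf F m := by
    rintro _ ⟨a, b, rfl⟩; exact gT_smul_pinf a b
  have hU2 : IsPGroup 2 (grpU F m) := IsPGroup.of_card (n := 2 * (2 * m + 1))
    (by rw [natCard_grpU, hP.card, ← pow_mul, mul_comm])
  -- an involution in the stabilizer
  obtain ⟨t, htU, htN, ht2, ht1⟩ : ∃ t ∈ grpU F m, t ∈ N ∧ t * t = 1 ∧ t ≠ 1 := by
    by_cases hxx : x * x = 1
    · exact ⟨x, hx, hxN, hxx, h1⟩
    · refine ⟨x * x, mul_mem hx hx, mul_mem hxN hxN, ?_, hxx⟩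
      obtain ⟨a, b, rfl⟩ := hx
      rw [gT_sq, gT_sq, map_zero, zero_mul, gT_zero]
  have hXB : ∀ c ∈ X, c • pinf F m = pinf F m → c = 1 := by
    intro c hc hci
    have e := h.invert htN ht2 ht1 (inv_mem hc)
    rw [inv_inv] at e
    have hm : c * t * c⁻¹ * t ∈ grpU F m := mul_mem (grpU_conj_mem htU hci) htU
    rw [show c * t * c⁻¹ * t = c * (t * c⁻¹ * t) by group, e] at hm
    obtain ⟨j, hj⟩ := IsPGroup.iff_orderOf.1 hU2 ⟨_, hm⟩
    rw [Subgroup.orderOf_mk] at hj
    have h3 : c * c = 1 := orderOf_eq_one_iff.1 (Nat.eq_one_of_dvd_coprimes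
      (coprime_two_pow (F := F) (m := m) (k := j) (h.odd_order (mul_mem hc hc))) dvd_rfl hj.dvd)
    exact h.eq_one_of_sq hc h3
  refine le_antisymm ?_ ?_
  · haveI : (X.subgroupOf N).Normal := Subgroup.normal_in_normalizer
    let f : ↥(N ⊓ B) → N ⧸ X.subgroupOf N := fun y => QuotientGroup.mk ⟨y.1, y.2.1⟩
    have hf : Function.Injective f := by
      intro a b e
      have e' := Subgroup.mem_subgroupOf.1 (QuotientGroup.eq.1 e)
      simp only [Subgroup.coe_mul, Subgroup.coe_inv] at e'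
      exact Subtype.ext (inv_mul_eq_one.1 (hXB _ e' (mem_stabilizer_iff.1 (B.mul_mem (B.inv_mem a.2.2) b.2.2))))
    exact (Nat.card_le_card_of_injective f hf).trans_eq h.index_subgroupOf
  · have hz : IsPGroup 2 (Subgroup.zpowers (⟨x, hxN⟩ : N)) := by
      obtain ⟨j, hj⟩ := IsPGroup.iff_orderOf.1 hU2 ⟨x, hx⟩
      exact IsPGroup.of_card (n := j) (by
        rw [Nat.card_zpowers, Subgroup.orderOf_mk]
        rw [Subgroup.orderOf_mk] at hj
        exact hj)
    obtain ⟨Q, hQ⟩ := hz.exists_le_sylow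
    have hQc : Nat.card Q = n := by
      rw [Q.card_eq_multiplicity, h.card_normalizer]
      have hodd := h.odd
      have hX2 : (Nat.card X).factorization 2 = 0 :=
        Nat.factorization_eq_zero_of_not_dvd fun hd => Nat.not_even_iff_odd.2 hodd (even_iff_two_dvd.2 hd)
      rcases h.two_four with rfl | rfl <;>
        rw [Nat.factorization_mul (by norm_num) Nat.card_pos.ne', Finsupp.add_apply, hX2, add_zero]
      · rw [Nat.Prime.factorization_self Nat.prime_two, pow_one]
      · rw [show (4 : ℕ) = 2 ^ 2 from rfl, Nat.Prime.factorization_pow Nat.prime_two, Finsupp.single_eq_same]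
    have hQU : (Q : Subgroup N).map N.subtype ≤ N ⊓ B := by
      refine le_inf (Subgroup.map_subtype_le _) fun y hy => ?_
      exact hUB y (twoGroup_le_grpU hx h1 (Q.2.map _)
        (Subgroup.mem_map_of_mem N.subtype (hQ (Subgroup.mem_zpowers _))) hy)
    have := Subgroup.card_le_of_le hQU
    rw [Subgroup.card_map_of_injective N.subtype_injective, hQc] at this
    exact this

end Tor

end CfsgLib.Suzuki
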