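import Mathlib
import Cfsg.Agent.Lib.Suzuki.Tori
import Cfsg.Agent.Lib.Suzuki.LieEquiv

/-!
# Extensions of the natural module by the Suzuki group: prime graphs
-/

set_option autoImplicit false
set_option linter.unusedSectionVars false

namespace CfsgLib.Suzuki

open Matrix

variable {F : Type*} [Field F] [Fintype F] [CharP F 2] {m : ℕ} [hP : Param F m]

include hP

theorem mat_mul (g h : Gp F m) : ((g * h).1 : Matrix (Fin 4) (Fin 4) F) =
    (g.1 : Matrix (Fin 4) (Fin 4) F) * (h.1 : Matrix (Fin 4) (Fin 4) F) := rfl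

theorem mat_inv_mul (g : Gp F m) :
    ((g⁻¹).1 : Matrix (Fin 4) (Fin 4) F) * (g.1 : Matrix (Fin 4) (Fin 4) F) = 1 := by
  rw [← mat_mul, inv_mul_cancel]; rfl

theorem mat_mul_inv (g : Gp F m) :
    (g.1 : Matrix (Fin 4) (Fin 4) F) * ((g⁻¹).1 : Matrix (Fin 4) (Fin 4) F) = 1 := by
  rw [← mat_mul, mul_inv_cancel]; rfl

theorem fixed_eq_zero {x : Gp F m} {p : ℕ} (hp : p.Prime) (h2 : p ≠ 2) (hx : orderOf x = p)
    {v : Fin 4 → F} (hv : (x.1 : Matrix (Fin 4) (Fin 4) F) *ᵥ v = v) : v = 0 := by
  have := Fact.mk hp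
  rcases prime_dvd_card hp (hx ▸ orderOf_dvd_natCard x) with h | h | h
  · exact absurd h h2
  · obtain ⟨g, t, ht⟩ := exists_conj_grpH hp h hx
    have ht1 : t ≠ 1 := fun e => by
      rw [e, map_one] at ht
      exact conj_ne_one (F := F) (m := m) (ne_one_of_prime hp hx) g ht.symm
    have hu : ∀ i, ![sg F m (t : F) * t, (t : F), ((t⁻¹ : Fˣ) : F), (sg F m (t : F) * t)⁻¹] i ≠ 1 := by
      have hσ : sg F m (t : F) * t ≠ 1 := fun e =>
        ht1 (Units.ext (eq_one_of_sg_mul_self hP.card e))
      intro i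
      fin_cases i
      · exact hσ
      · exact fun e => ht1 (Units.ext e)
      · exact fun e => ht1 (inv_eq_one.1 (Units.ext e))
      · exact fun e => hσ (inv_eq_one.1 e)
    have e : htMat m t *ᵥ ((g.1 : Matrix (Fin 4) (Fin 4) F) *ᵥ v) =
        (g.1 : Matrix (Fin 4) (Fin 4) F) *ᵥ v := by
      show ((gH t : Gp F m).1 : Matrix (Fin 4) (Fin 4) F) *ᵥ _ = _
      rw [ht, mulVec_mulVec, ← mat_mul, inv_mul_cancel_right, mat_mul, ← mulVec_mulVec, hv]
    have h0 : (g.1 : Matrix (Fin 4) (Fin 4) F) *ᵥ v = 0 := by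
      funext i
      have := congrFun e i
      rw [htMat, mulVec_diagonal] at this
      by_contra hne
      exact hu i ((mul_eq_right₀ hne).1 this)
    have h' := congrArg (((g⁻¹ : Gp F m).1 : Matrix (Fin 4) (Fin 4) F) *ᵥ ·) h0
    simp only [mulVec_mulVec, mat_inv_mul, mulVec_zero, one_mulVec] at h'
    exact h'
  · exact GLFour.fixed_eq_zero (K := F) h (x := toGLHom x)
      (by rw [orderOf_injective _ toGLHom_injective, hx]) hv

theorem no_order_two_mul {p : ℕ} (hp : p.Prime) (h2 : p ≠ 2) (x : Gp F m) : orderOf x ≠ 2 * p := by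
  intro hx
  have := Fact.mk hp
  have h1 : orderOf (x ^ p) = 2 := by
    rw [orderOf_pow_of_dvd hp.ne_zero (hx ▸ dvd_mul_left p 2), hx, Nat.mul_div_cancel _ hp.pos]
  obtain ⟨g, hg⟩ := cent_two h1
  have h := Subgroup.orderOf_dvd_natCard _ (hg x
    (Subgroup.mem_centralizer_singleton_iff.2 (Commute.self_pow x p).eq))
  rw [CfsgLib.Ree.orderOf_conj', hx, natCard_grpU, hP.card, ← pow_mul] at h
  exact h2 ((Nat.prime_dvd_prime_iff_eq hp Nat.prime_two).1 (hp.dvd_of_dvd_pow ((dvd_mul_left p 2).trans h)))

variable (F m) in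
/-- The action on `k` copies of the natural module. -/
def natAct (k : ℕ) : Gp F m →* MulAut (Multiplicative (Fin k → Fin 4 → F)) where
  toFun g :=
    { toFun := fun v => Multiplicative.ofAdd fun i => (g.1 : Matrix (Fin 4) (Fin 4) F) *ᵥ v.toAdd i
      invFun := fun v => Multiplicative.ofAdd fun i =>
        ((g⁻¹ : Gp F m).1 : Matrix (Fin 4) (Fin 4) F) *ᵥ v.toAdd i
      left_inv := fun v => Multiplicative.toAdd.injective (funext fun i => by
        simp only [toAdd_ofAdd, mulVec_mulVec, mat_inv_mul, one_mulVec])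
      right_inv := fun v => Multiplicative.toAdd.injective (funext fun i => by
        simp only [toAdd_ofAdd, mulVec_mulVec, mat_mul_inv, one_mulVec])
      map_mul' := fun v w => Multiplicative.toAdd.injective (funext fun i => by
        simp [mulVec_add]) }
  map_one' := MulEquiv.ext fun v => Multiplicative.toAdd.injective (funext fun i => by simp)
  map_mul' g h := MulEquiv.ext fun v => Multiplicative.toAdd.injective (funext fun i => by
    simp [mulVec_mulVec])

variable (F m) in
/-- The extension of `k` natural modules. -/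
abbrev NatExt (k : ℕ) := Multiplicative (Fin k → Fin 4 → F) ⋊[natAct F m k] Gp F m

theorem natCard_natExt (k : ℕ) :
    Nat.card (NatExt F m k) = Fintype.card F ^ (4 * k) * Nat.card (Gp F m) := by
  rw [SemidirectProduct.card, Nat.card_congr (Multiplicative.toAdd (α := Fin k → Fin 4 → F)),
    Nat.card_fun, Nat.card_fun, Nat.card_fin, Nat.card_fin, Nat.card_eq_fintype_card (α := F),
    ← pow_mul, mul_comm 4 k]

theorem prime_dvd_natExt {r : ℕ} (hr : r.Prime) (k : ℕ) :
    r ∣ Nat.card (Gp F m) ↔ r ∣ Nat.card (NatExt F m k) := by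
  rw [natCard_natExt]
  refine ⟨fun h => Dvd.dvd.mul_left h _, fun h => ((Nat.Prime.dvd_mul hr).1 h).elim (fun h' => ?_) id⟩
  have h'' := hr.dvd_of_dvd_pow h'
  rw [natCard_group]
  exact Dvd.dvd.mul_right (Dvd.dvd.mul_right (h''.trans (dvd_pow_self _ two_ne_zero)) _) _

theorem exists_order_natExt {r s : ℕ} (hr : r.Prime) (hs : s.Prime) (hrs : r ≠ s) (k : ℕ) :
    (∃ x : Gp F m, orderOf x = r * s) ↔ ∃ y : NatExt F m k, orderOf y = r * s := by
  refine ⟨fun ⟨x, hx⟩ => ⟨SemidirectProduct.inr x,
    by rw [orderOf_injective _ SemidirectProduct.inr_injective, hx]⟩, ?_⟩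
  have hsq : ∀ v : Multiplicative (Fin k → Fin 4 → F), v * v = 1 := fun v =>
    Multiplicative.toAdd.injective (funext fun i => funext fun j => CharTwo.add_self_eq_zero _)
  have hker : ∀ y : NatExt F m k, y.right = 1 → y * y = 1 := fun y hy => by
    refine SemidirectProduct.ext ?_ ?_
    · rw [SemidirectProduct.mul_left, hy, map_one]
      exact hsq y.left
    · rw [SemidirectProduct.mul_right, hy, mul_one]; rfl
  -- no element of order `2 p`
  have hno : ∀ p, p.Prime → p ≠ 2 → ∀ y : NatExt F m k, orderOf y ≠ 2 * p := by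
    intro p hp hp2 y hy
    have := Fact.mk hp
    have := Fact.mk Nat.prime_two
    have hodd := hp.odd_of_ne_two hp2
    set a := y ^ 2 with ha_def
    set b := y ^ p with hb_def
    have ha : orderOf a = p := by
      rw [ha_def, orderOf_pow_of_dvd two_ne_zero (hy ▸ dvd_mul_right 2 p), hy,
        Nat.mul_div_cancel_left _ two_pos]
    have hb : orderOf b = 2 := by
      rw [hb_def, orderOf_pow_of_dvd hp.ne_zero (hy ▸ dvd_mul_left p 2), hy, Nat.mul_div_cancel _ hp.pos]
    have hab : a * b = b * a := (Commute.pow_pow_self y 2 p).eq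
    have ha1 : a.right ≠ 1 := by
      intro h
      have : orderOf a ∣ 2 := orderOf_dvd_of_pow_eq_one (by rw [pow_two]; exact hker a h)
      rw [ha] at this
      exact hp2 ((Nat.prime_dvd_prime_iff_eq hp Nat.prime_two).1 this)
    have hao : orderOf a.right = p := by
      refine orderOf_eq_prime ?_ ha1
      rw [← SemidirectProduct.rightHom_eq_right, ← map_pow, ← ha, pow_orderOf_eq_one, map_one]
    have hb1 : b.right = 1 := by
      by_contra h
      have hbo : orderOf b.right = 2 := by
        refine orderOf_eq_prime ?_ h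
        rw [← SemidirectProduct.rightHom_eq_right, ← map_pow, ← hb, pow_orderOf_eq_one, map_one]
      have hcomm : Commute b.right a.right := by
        show b.right * a.right = a.right * b.right
        rw [← SemidirectProduct.mul_right, ← SemidirectProduct.mul_right, hab]
      refine no_order_two_mul hp hp2 (b.right * a.right) ?_
      rw [hcomm.orderOf_mul_eq_mul_orderOf_of_coprime, hbo, hao]
      rw [hbo, hao]
      exact Nat.coprime_two_left.2 hodd
    have hfix : natAct F m k a.right b.left = b.left := by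
      have e := congrArg SemidirectProduct.left hab
      rw [SemidirectProduct.mul_left, SemidirectProduct.mul_left, hb1, map_one, MulAut.one_apply,
        mul_comm b.left a.left] at e
      exact mul_left_cancel e
    have hbl : b.left = 1 := by
      refine Multiplicative.toAdd.injective (funext fun i => ?_)
      exact fixed_eq_zero hp hp2 hao (congrFun (congrArg Multiplicative.toAdd hfix) i)
    rw [show b = 1 from SemidirectProduct.ext hbl hb1, orderOf_one] at hb
    omega
  rintro ⟨y, hy⟩
  by_cases h2 : r = 2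
  · subst h2; exact absurd hy (hno s hs (Ne.symm hrs) y)
  by_cases h2' : s = 2
  · subst h2'; exact absurd (mul_comm r 2 ▸ hy) (hno r hr h2 y)
  refine ⟨y.right, Nat.dvd_antisymm ?_ ?_⟩
  · rw [← hy]; exact orderOf_map_dvd SemidirectProduct.rightHom y
  · have h1 : (y ^ orderOf y.right).right = 1 := by
      rw [← SemidirectProduct.rightHom_eq_right, map_pow, SemidirectProduct.rightHom_eq_right,
        pow_orderOf_eq_one]
    have h3 := hker _ h1
    rw [← pow_two, ← pow_mul] at h3
    have h4 := orderOf_dvd_of_pow_eq_one h3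
    rw [hy] at h4
    refine Nat.Coprime.dvd_of_dvd_mul_right ?_ h4
    exact Nat.coprime_two_right.2 ((hr.odd_of_ne_two h2).mul (hs.odd_of_ne_two h2'))

end CfsgLib.Suzuki
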