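import Mathlib
import Cfsg.Prelude.Def_KGroupFacts
import Cfsg.Agent.Lib.AutPSL.Structure
import Cfsg.Agent.Lib.Suzuki.Coset
import Cfsg.Agent.Lib.Suzuki.Tori

/-!
# Automorphisms of the Suzuki group
-/

set_option autoImplicit false
set_option linter.unusedSectionVars false

namespace CfsgLib.Suzuki

open Matrix MulAction
open scoped Pointwise

variable {F : Type*} [Field F] [Fintype F] [CharP F 2] {m : ℕ} [hP : Param F m]

omit hP in
theorem ringEquiv_sg (φ : F ≃+* F) (x : F) : φ (sg F m x) = sg F m (φ x) := by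
  rw [sg_def, sg_def, map_pow]

omit hP in
theorem map_tr (φ : F ≃+* F) (a b : F) :
    Matrix.SpecialLinearGroup.map φ.toRingHom (tr m a b) = tr m (φ a) (φ b) := by
  refine Matrix.SpecialLinearGroup.ext _ _ fun i j => ?_
  show φ (trMat m a b i j) = trMat m (φ a) (φ b) i j
  fin_cases i <;> fin_cases j <;>
    simp [trMat, ov, map_add, map_mul, map_pow, ringEquiv_sg]

omit hP in
theorem map_ht (φ : F ≃+* F) (t : Fˣ) :
    Matrix.SpecialLinearGroup.map φ.toRingHom (ht m t) = ht m (Units.mapEquiv φ.toMulEquiv t) := by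
  refine Matrix.SpecialLinearGroup.ext _ _ fun i j => ?_
  show φ (htMat m t i j) = htMat m (Units.mapEquiv φ.toMulEquiv t) i j
  fin_cases i <;> fin_cases j <;>
    simp [htMat, map_mul, map_inv₀, ringEquiv_sg]

omit hP in
theorem map_ww (φ : F ≃+* F) : Matrix.SpecialLinearGroup.map φ.toRingHom (ww F) = ww F := by
  refine Matrix.SpecialLinearGroup.ext _ _ fun i j => ?_
  show φ (Cfsg.suzukiForm F i j) = Cfsg.suzukiForm F i j
  fin_cases i <;> fin_cases j <;> simp [Cfsg.suzukiForm]

include hP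

theorem map_mem (φ : F ≃+* F) (g : Gp F m) :
    Matrix.SpecialLinearGroup.map φ.toRingHom g.1 ∈ Cfsg.Sz F m := by
  have hle : grpU F m ⊔ grpH F m ⊔ Subgroup.zpowers (gW F m) ≤
      ((Cfsg.Sz F m).comap (Matrix.SpecialLinearGroup.map φ.toRingHom)).subgroupOf (Cfsg.Sz F m) := by
    refine sup_le (sup_le ?_ ?_) (Subgroup.zpowers_le.2 ?_)
    · rintro _ ⟨a, b, rfl⟩
      show Matrix.SpecialLinearGroup.map φ.toRingHom (tr m a b) ∈ Cfsg.Sz F m
      rw [map_tr]; exact tr_mem hP.card _ _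
    · rintro _ ⟨t, rfl⟩
      show Matrix.SpecialLinearGroup.map φ.toRingHom (ht m t) ∈ Cfsg.Sz F m
      rw [map_ht]; exact ht_mem hP.card _
    · show Matrix.SpecialLinearGroup.map φ.toRingHom (ww F) ∈ Cfsg.Sz F m
      rw [map_ww]; exact ww_mem hP.card
  rw [closure_eq_top] at hle
  exact hle (Subgroup.mem_top g)

variable (F m) in
/-- The field automorphisms. -/
def fieldAut : (F ≃+* F) →* MulAut (Gp F m) where
  toFun φ :=
    { toFun := fun g => ⟨Matrix.SpecialLinearGroup.map φ.toRingHom g.1, map_mem φ g⟩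
      invFun := fun g => ⟨Matrix.SpecialLinearGroup.map φ.symm.toRingHom g.1, map_mem φ.symm g⟩
      left_inv := fun g => Subtype.ext (Matrix.SpecialLinearGroup.ext _ _ fun i j =>
        φ.symm_apply_apply (g.1 i j))
      right_inv := fun g => Subtype.ext (Matrix.SpecialLinearGroup.ext _ _ fun i j =>
        φ.apply_symm_apply (g.1 i j))
      map_mul' := fun g h => Subtype.ext (map_mul (Matrix.SpecialLinearGroup.map φ.toRingHom) g.1 h.1) }
  map_one' := MulEquiv.ext fun g => Subtype.ext (Matrix.SpecialLinearGroup.ext _ _ fun _ _ => rfl)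
  map_mul' φ ψ := MulEquiv.ext fun g => Subtype.ext (Matrix.SpecialLinearGroup.ext _ _ fun _ _ => rfl)

theorem fieldAut_gT (φ : F ≃+* F) (a b : F) :
    fieldAut F m φ (gT a b) = gT (φ a) (φ b) := Subtype.ext (map_tr φ a b)

theorem fieldAut_gH (φ : F ≃+* F) (t : Fˣ) :
    fieldAut F m φ (gH t) = gH (Units.mapEquiv φ.toMulEquiv t) := Subtype.ext (map_ht φ t)

theorem fieldAut_gW (φ : F ≃+* F) : fieldAut F m φ (gW F m) = gW F m := Subtype.ext (map_ww φ)

theorem norm_surjective : Function.Surjective fun t : Fˣ => Units.map (sg F m : F →* F) t * t ^ 2 := by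
  refine Finite.surjective_of_injective fun t t' h => ?_
  refine div_eq_one.1 (eq_one_of_sgsq (m := m) ?_)
  have hv : sg F m (t : F) * (t : F) ^ 2 = sg F m (t' : F) * (t' : F) ^ 2 := congrArg Units.val h
  have hn : sg F m (t' : F) * (t' : F) ^ 2 ≠ 0 :=
    mul_ne_zero ((map_ne_zero (sg F m)).2 t'.ne_zero) (pow_ne_zero _ t'.ne_zero)
  rw [Units.val_div_eq_div_val, map_div₀, div_pow, div_mul_div_comm, hv, div_self hn]

/-- An automorphism fixing the torus and the central translations, and stabilizing `U`, is trivial. -/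
theorem eq_one_of_fixed (α : MulAut (Gp F m)) (hU : ∀ u ∈ grpU F m, α u ∈ grpU F m)
    (hH : ∀ t, α (gH t) ∈ grpH F m) (hZ : ∀ b, α (gT 0 b) = gT 0 b) : α = 1 := by
  have h2 : (2 : F) = 0 := two_eq_zero
  have hfixH : ∀ t, α (gH t) = gH t := by
    intro t
    obtain ⟨s, hs⟩ := hH t
    have e := congrArg α (gH_conj_gT (m := m) t 0 1)
    rw [map_mul, map_mul, map_inv, ← hs, mul_zero, hZ, hZ, gH_conj_gT] at e
    obtain ⟨-, e2⟩ := gT_inj e
    rw [mul_one, mul_one] at e2
    rw [← hs]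
    congr 1
    refine div_eq_one.1 (eq_one_of_sgsq (m := m) ?_)
    have hn : sg F m (t : F) * (t : F) ^ 2 ≠ 0 :=
      mul_ne_zero ((map_ne_zero (sg F m)).2 t.ne_zero) (pow_ne_zero _ t.ne_zero)
    rw [Units.val_div_eq_div_val, map_div₀, div_pow, div_mul_div_comm, e2, div_self hn]
  obtain ⟨c, d, hcd⟩ := hU _ (gT_mem (m := m) (1 : F) 0)
  have hc : c = 1 := by
    have e := congrArg α (gT_sq (m := m) (1 : F) 0)
    rw [map_mul, hZ, hcd, gT_sq, map_one, one_mul] at e
    exact eq_one_of_sg_mul_self hP.card (gT_inj e).2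
  subst hc
  have hA : ∀ a : F, α (gT a 0) = gT a (d * (a * sg F m a)) := by
    intro a
    rcases eq_or_ne a 0 with rfl | ha
    · rw [hZ]; simp
    obtain ⟨t, ht⟩ := sg_surjective (F := F) (m := m) hP.card a
    have ht0 : t ≠ 0 := fun e => ha (by rw [← ht, e, map_zero])
    have e := congrArg α (gH_conj_gT (m := m) (Units.mk0 t ht0) 1 0)
    rw [map_mul, map_mul, map_inv, hfixH, hcd, gH_conj_gT] at e
    simp only [mul_one, mul_zero, Units.val_mk0, ht] at e
    rw [← e]
    congr 1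
    rw [← ht, sg_sg hP.card]; ring
  have hd : d = 0 := by
    obtain ⟨t, ht⟩ := exists_unit_ne_one (F := F) (m := m)
    have e := congrArg α (gT_mul (m := m) (1 : F) 0 (t : F) 0)
    have esplit : gT (m := m) (1 + (t : F)) (0 + 0 + sg F m 1 * t) =
        gT (1 + (t : F)) 0 * gT 0 (sg F m 1 * t) := by rw [gT_mul]; simp
    rw [esplit, map_mul, map_mul, hA, hA, hA, hZ, gT_mul, gT_mul] at e
    obtain ⟨-, e2⟩ := gT_inj e
    simp only [map_add, map_one, one_mul, mul_zero, add_zero] at e2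
    have h0 : d * ((t : F) + sg F m t) = 0 := by linear_combination -e2
    refine (mul_eq_zero.1 h0).resolve_right fun h => ?_
    rw [add_eq_zero_iff_eq_neg, CharTwo.neg_eq] at h
    rcases sg_fix hP.card h.symm with h' | h'
    · exact t.ne_zero h'
    · exact ht (Units.ext h')
  subst hd
  have hfixU : ∀ a b, α (gT a b) = gT a b := by
    intro a b
    have e : gT (m := m) a b = gT a 0 * gT 0 b := by rw [gT_mul]; simp
    rw [e, map_mul, hA, hZ, zero_mul]
  have hfixB : ∀ g : Gp F m, g • pinf F m = pinf F m → α g = g := by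
    intro g hg
    obtain ⟨a, b, t, rfl⟩ := exists_eq_gT_mul_gH hg
    rw [map_mul, hfixU, hfixH]
  have hW : α (gW F m) • pinf F m = paff 0 0 := by
    have hN : α (gW F m) ∈ Subgroup.normalizer (grpH F m : Set (Gp F m)) := by
      refine Subgroup.mem_normalizer_fintype ?_
      rintro _ ⟨t, rfl⟩
      rw [← hfixH t, ← map_inv, ← map_mul, ← map_mul, gW_conj_gH, map_inv, hfixH, SetLike.mem_coe]
      exact inv_mem (gH_mem t)
    rcases (mem_normalizer_grpH_iff _).1 hN with h | h
    · obtain ⟨s, hs⟩ := h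
      have hs' : gH s = gW F m := α.injective (by rw [hfixH, hs])
      have h0 := gH_smul_pinf (m := m) s
      rw [hs', gW_smul_pinf] at h0
      exact absurd h0 (paff_ne_pinf _ _)
    · obtain ⟨s, hs⟩ := h
      rw [show α (gW F m) = gW F m * gH s by rw [hs, ← mul_assoc, gW_mul_self, one_mul],
        mul_smul, gH_smul_pinf, gW_smul_pinf]
  have key : ∀ g : Gp F m, α g • pinf F m = g • pinf F m := by
    intro g
    by_cases hg : g • pinf F m = pinf F m
    · rw [hfixB g hg]
    · obtain ⟨a, b, hab⟩ := exists_gT_smul _ hg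
      have hb : ((gT a b * gW F m)⁻¹ * g) • pinf F m = pinf F m := by
        rw [mul_smul, inv_smul_eq_iff, mul_smul, gW_smul_pinf, hab]
      rw [show g = gT a b * gW F m * ((gT a b * gW F m)⁻¹ * g) by group, map_mul, map_mul, hfixU,
        hfixB _ hb, mul_smul, mul_smul, hb, hW, mul_smul _ _ (pinf F m), hb, mul_smul, gW_smul_pinf]
  refine MulEquiv.ext fun g => ?_
  show α g = g
  have hall : ∀ p : Pts F m, α g • p = g • p := by
    intro p
    obtain ⟨k, rfl⟩ := exists_smul_eq (Gp F m) (pinf F m) p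
    calc α g • k • pinf F m = α g • α k • pinf F m := by rw [key]
      _ = α (g * k) • pinf F m := by rw [map_mul, mul_smul]
      _ = _ := by rw [key, mul_smul]
  refine (inv_mul_eq_one.1 (eq_one_of_fix_three (g := g⁻¹ * α g) (p := pinf F m)
    (q := paff 0 0) (r := paff 1 0) (Ne.symm (paff_ne_pinf _ _)) (Ne.symm (paff_ne_pinf _ _))
    (fun e => zero_ne_one (paff_inj e).1) ?_ ?_ ?_)).symm
  all_goals rw [mul_smul, hall, inv_smul_smul]

/-- An automorphism stabilizing `U` and the torus is a torus element times a field automorphism. -/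
theorem normalized (α : MulAut (Gp F m)) (hU : ∀ u ∈ grpU F m, α u ∈ grpU F m)
    (hH : ∀ t, α (gH t) ∈ grpH F m) :
    ∃ (g : Gp F m) (φ : F ≃+* F), α = MulAut.conj g * fieldAut F m φ := by
  have hsgn : ∀ b : F, ∃ b', α (gT 0 b) = gT 0 b' := by
    intro b
    obtain ⟨c, d, hcd⟩ := hU _ (gT_mem (m := m) 0 b)
    have e := congrArg α (gT_sq (m := m) (0 : F) b)
    rw [map_mul, hcd, gT_sq, map_zero, zero_mul, gT_zero, map_one, ← gT_zero] at e
    rcases mul_eq_zero.1 (gT_inj e).2 with h | h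
    · exact ⟨d, by rw [hcd, (map_eq_zero (sg F m)).1 h]⟩
    · exact ⟨d, by rw [hcd, h]⟩
  choose f hf using hsgn
  have hfadd : ∀ x y, f (x + y) = f x + f y := fun x y => by
    have e : gT (m := m) 0 (f (x + y)) = gT 0 (f x + f y) := by
      rw [← hf, show gT (m := m) 0 (x + y) = gT 0 x * gT 0 y by rw [gT_mul]; simp, map_mul, hf, hf,
        gT_mul]
      simp
    exact (gT_inj e).2
  have hfinj : Function.Injective f := fun x y h =>
    (gT_inj (α.injective (show α (gT 0 x) = α (gT 0 y) by rw [hf, hf, h]))).2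
  have hf0 : f 0 = 0 := by
    have := hfadd 0 0
    rw [add_zero] at this
    exact left_eq_add.1 this
  have hf1 : f 1 ≠ 0 := fun h => one_ne_zero (hfinj (h.trans hf0.symm))
  have hmul : ∀ s b : F, f (s * b) * f 1 = f s * f b := by
    intro s b
    rcases eq_or_ne s 0 with rfl | hs
    · simp [hf0]
    obtain ⟨t, ht⟩ := norm_surjective (F := F) (m := m) (Units.mk0 s hs)
    have hst : sg F m (t : F) * (t : F) ^ 2 = s := congrArg Units.val ht
    obtain ⟨t', ht'⟩ := hH t
    have key : ∀ b, f (s * b) = sg F m (t' : F) * (t' : F) ^ 2 * f b := by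
      intro b
      have e := congrArg α (gH_conj_gT (m := m) t 0 b)
      rw [map_mul, map_mul, map_inv, ← ht', mul_zero, hf, hf, gH_conj_gT, hst] at e
      exact (gT_inj e).2.symm
    have e1 := key 1
    rw [mul_one] at e1
    rw [key b, e1]; ring
  let φ₀ : F →+* F :=
    { toFun := fun b => f b / f 1
      map_one' := div_self hf1
      map_mul' := fun s b => by
        show f (s * b) / f 1 = f s / f 1 * (f b / f 1)
        rw [div_mul_div_comm, div_eq_div_iff hf1 (mul_ne_zero hf1 hf1)]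
        linear_combination (f 1) * hmul s b
      map_zero' := by rw [hf0, zero_div]
      map_add' := fun x y => by rw [hfadd, add_div] }
  let φ : F ≃+* F := RingEquiv.ofBijective φ₀ φ₀.injective.bijective_of_finite
  have hφ : ∀ b, f b = f 1 * φ b := fun b => (mul_div_cancel₀ (f b) hf1).symm
  obtain ⟨u, hu⟩ := norm_surjective (F := F) (m := m) (Units.mk0 (f 1) hf1)
  have hu' : sg F m (u : F) * (u : F) ^ 2 = f 1 := congrArg Units.val hu
  refine ⟨gH u, φ, eq_of_inv_mul_eq_one ?_|>.symm⟩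
  set β := MulAut.conj (gH (m := m) u) * fieldAut F m φ
  have hβU : ∀ a b, β (gT a b) = gT (sg F m u * φ a) (sg F m u * (u : F) ^ 2 * φ b) := fun a b => by
    show gH u * fieldAut F m φ (gT a b) * (gH u)⁻¹ = _
    rw [fieldAut_gT, gH_conj_gT]
  have hβH : ∀ t, β (gH t) = gH (Units.mapEquiv φ.toMulEquiv t) := fun t => by
    show gH u * fieldAut F m φ (gH t) * (gH u)⁻¹ = _
    rw [fieldAut_gH, ← map_mul, mul_comm u, map_mul, mul_inv_cancel_right]
  have hβU' : ∀ x ∈ grpU F m, β⁻¹ x ∈ grpU F m := by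
    rintro _ ⟨a, b, rfl⟩
    refine ⟨φ.symm (a / sg F m u), φ.symm (b / f 1), ?_⟩
    apply β.injective
    rw [MulAut.apply_inv_self, hβU, φ.apply_symm_apply, φ.apply_symm_apply, hu',
      mul_div_cancel₀ _ hf1, mul_div_cancel₀ _ ((map_ne_zero (sg F m)).2 u.ne_zero)]
  refine eq_one_of_fixed (β⁻¹ * α) (fun x hx => hβU' _ (hU x hx)) (fun t => ?_) fun b => ?_
  · obtain ⟨s, hs⟩ := hH t
    refine ⟨(Units.mapEquiv φ.toMulEquiv).symm s, ?_⟩
    apply β.injective
    rw [hβH, MulEquiv.apply_symm_apply, hs]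
    exact (MulAut.apply_inv_self _ β (α (gH t))).symm
  · apply β.injective
    refine (MulAut.apply_inv_self _ β (α (gT 0 b))).trans ?_
    rw [hβU, hf, map_zero, mul_zero, hu', hφ]

/-- Every automorphism is inner times field. -/
theorem exists_decomp (α : MulAut (Gp F m)) :
    ∃ (g : Gp F m) (φ : F ≃+* F), α = MulAut.conj g * fieldAut F m φ := by
  have hcard : Nat.card ((grpU F m).map α.toMonoidHom) = 2 ^ (Nat.card (Gp F m)).factorization 2 := by
    rw [Subgroup.card_map_of_injective α.injective]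
    exact (sylowU F m).card_eq_multiplicity
  obtain ⟨k, hk⟩ := MulAction.exists_smul_eq (Gp F m) (Sylow.ofCard _ hcard) (sylowU F m)
  have hkU : ∀ u ∈ grpU F m, k * α u * k⁻¹ ∈ grpU F m := by
    intro u hu
    have h := Subgroup.smul_mem_pointwise_smul (α u) (MulAut.conj k)
      ((Sylow.ofCard _ hcard : Sylow 2 (Gp F m)) : Subgroup (Gp F m)) (Subgroup.mem_map_of_mem _ hu)
    have e := congrArg (fun P : Sylow 2 (Gp F m) => (P : Subgroup (Gp F m))) hk
    simp only [Sylow.coe_subgroup_smul, coe_sylowU] at e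
    rw [e] at h
    exact h
  have h8 := eight_le_card (F := F) (m := m)
  obtain ⟨p, hp, hpd⟩ := Nat.exists_prime_and_dvd (show Fintype.card F - 1 ≠ 1 by omega)
  have := Fact.mk hp
  obtain ⟨⟨z, t0, ht0⟩, hzo⟩ := exists_prime_orderOf_dvd_card' (G := ↥(grpH F m)) p
    (by rw [natCard_grpH]; exact hpd)
  rw [← Subgroup.orderOf_coe] at hzo
  change orderOf z = p at hzo
  set x := k * α z * k⁻¹
  have hxo : orderOf x = p := by rw [CfsgLib.Ree.orderOf_conj', MulEquiv.orderOf_eq, hzo]
  have hx1 := ne_one_of_prime hp hxo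
  have hxi : x • pinf F m = pinf F m := by
    rw [← mem_stabilizer_iff, ← normalizer_grpU]
    refine Subgroup.mem_normalizer_fintype fun y hy => ?_
    have hsurj : ∃ u ∈ grpU F m, k * α u * k⁻¹ = y := by
      let F' : grpU F m → grpU F m := fun u => ⟨k * α u * k⁻¹, hkU u u.2⟩
      have hinj : Function.Injective F' := fun u v e => Subtype.ext (α.injective
        ((mul_right_injective k) ((mul_left_injective k⁻¹) (congrArg Subtype.val e))))
      obtain ⟨u, hu⟩ := Finite.injective_iff_surjective.1 hinj ⟨y, hy⟩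
      exact ⟨u, u.2, congrArg Subtype.val hu⟩
    obtain ⟨u, hu, rfl⟩ := hsurj
    rw [SetLike.mem_coe, show x * (k * α u * k⁻¹) * x⁻¹ = k * α (z * u * z⁻¹) * k⁻¹ by
      simp only [x, map_mul, map_inv]; group]
    exact hkU _ (grpU_conj_mem hu (ht0 ▸ gH_smul_pinf t0))
  obtain ⟨h, hh⟩ := exists_conj_grpH hp hpd hxo
  -- arrange that `h` fixes infinity
  obtain ⟨h, hh, hhi⟩ : ∃ h : Gp F m, h * x * h⁻¹ ∈ grpH F m ∧ h • pinf F m = pinf F m := by
    obtain ⟨t, ht⟩ := hh
    have ht1 : t ≠ 1 := fun e => by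
      rw [e, map_one] at ht
      exact conj_ne_one (F := F) (m := m) hx1 h ht.symm
    rcases gH_fix ht1 (p := h • pinf F m) (by rw [ht, mul_smul, mul_smul, inv_smul_smul, hxi]) with e | e
    · exact ⟨h, ⟨t, ht⟩, e⟩
    · refine ⟨gW F m * h, ⟨t⁻¹, ?_⟩, by rw [mul_smul, e, gW_smul_zero]⟩
      rw [map_inv, ← gW_conj_gH, ht]
      group
  set γ := MulAut.conj (h * k) * α with hγ
  have hγU : ∀ u ∈ grpU F m, γ u ∈ grpU F m := fun u hu => by
    show h * k * α u * (h * k)⁻¹ ∈ _
    rw [show h * k * α u * (h * k)⁻¹ = h * (k * α u * k⁻¹) * h⁻¹ by group]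
    exact grpU_conj_mem (hkU u hu) hhi
  have hγz : γ z ∈ grpH F m := by
    show h * k * α z * (h * k)⁻¹ ∈ _
    rw [show h * k * α z * (h * k)⁻¹ = h * x * h⁻¹ by simp only [x]; group]
    exact hh
  have hz1 := ne_one_of_prime hp hzo
  have hγH : ∀ t, γ (gH t) ∈ grpH F m := fun t => by
    rw [← centralizer_gH hγz (fun e => hz1 (γ.injective (e.trans (map_one γ).symm))),
      Subgroup.mem_centralizer_singleton_iff, ← map_mul, ← map_mul]
    congr 1
    rw [← ht0, ← map_mul, ← map_mul, mul_comm]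
  obtain ⟨g, φ, e⟩ := normalized γ hγU hγH
  refine ⟨(h * k)⁻¹ * g, φ, ?_⟩
  rw [map_mul, map_inv, mul_assoc, ← e, hγ, inv_mul_cancel_left]

theorem fieldAut_conj {φ : F ≃+* F} {g : Gp F m} (h : MulAut.conj g = fieldAut F m φ) : φ = 1 := by
  have h1 : gT (m := m) (1 : F) 0 ≠ 1 := fun e => one_ne_zero (gT_inj (e.trans gT_zero.symm)).1
  have e : ∀ x, g * x * g⁻¹ = fieldAut F m φ x := fun x => by rw [← h]; rfl
  have hgU : g ∈ grpU F m := centralizer_gT_le (gT_mem 1 0) h1 (by
    rw [Subgroup.mem_centralizer_singleton_iff]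
    have := e (gT 1 0)
    rw [fieldAut_gT, map_one, map_zero, mul_inv_eq_iff_eq_mul] at this
    exact this)
  obtain ⟨x, y, rfl⟩ := hgU
  have hW := e (gW F m)
  rw [fieldAut_gW, mul_inv_eq_iff_eq_mul] at hW
  have h2 := congrArg (fun k : Gp F m => k • pinf F m) hW
  simp only [mul_smul, gW_smul_pinf, gT_smul_pinf, gT_smul_paff, map_zero, mul_zero, add_zero] at h2
  obtain ⟨hx, hy⟩ := paff_inj h2
  have hg : gT (m := m) x y = 1 := by rw [hx, hy, gT_zero]
  rw [hg, map_one] at h
  refine RingEquiv.ext fun a => ?_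
  have := congrArg (fun α : MulAut (Gp F m) => α (gT a 0)) h
  simp only [fieldAut_gT, MulAut.one_apply] at this
  exact (gT_inj this).1.symm

theorem natCard_out {L : Type*} [Group L] (e : Gp F m ≃* L) :
    Nat.card (Cfsg.Out L) = 2 * m + 1 := by
  haveI : Fact (Nat.Prime 2) := ⟨Nat.prime_two⟩
  obtain ⟨-, hc⟩ := CfsgLib.AutPSL.card_ringAut_isCyclic (p := 2) hP.card (by omega)
  rw [← hc]
  let Φ : (F ≃+* F) → Cfsg.Out L := fun φ => QuotientGroup.mk (MulAut.congr e (fieldAut F m φ))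
  have hconj : ∀ g : Gp F m, MulAut.congr e (MulAut.conj g) = MulAut.conj (e g) := fun g => by
    refine MulEquiv.ext fun x => ?_
    show e (g * e.symm x * g⁻¹) = e g * x * (e g)⁻¹
    simp
  refine (Nat.card_congr (Equiv.ofBijective Φ ⟨fun φ ψ h => ?_, fun o => ?_⟩)).symm
  · obtain ⟨l, hl⟩ := QuotientGroup.eq.1 h
    obtain ⟨g, rfl⟩ := e.surjective l
    rw [← hconj, ← map_inv, ← map_mul, ← map_inv, ← map_mul] at hl
    exact inv_mul_eq_one.1 (fieldAut_conj ((MulAut.congr e).injective hl))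
  · obtain ⟨β, rfl⟩ := QuotientGroup.mk_surjective o
    obtain ⟨g, φ, hgφ⟩ := exists_decomp ((MulAut.congr e).symm β)
    refine ⟨φ, ?_⟩
    have hβ : β = MulAut.conj (e g) * MulAut.congr e (fieldAut F m φ) := by
      rw [← hconj, ← map_mul, ← hgφ, MulEquiv.apply_symm_apply]
    show QuotientGroup.mk _ = QuotientGroup.mk β
    rw [hβ, QuotientGroup.eq, ← mul_assoc]
    have hn : (Cfsg.Inn L).Normal := inferInstance
    have := hn.conj_mem (MulAut.conj (e g)) ⟨e g, rfl⟩ (MulAut.congr e (fieldAut F m φ))⁻¹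
    rwa [inv_inv] at this

end CfsgLib.Suzuki
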