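import Mathlib
import Cfsg.Agent.Lib.Suzuki.Solv

/-!
# The classes of tori of the Suzuki group; maximal solvable subgroups
-/

set_option autoImplicit false
set_option linter.unusedSectionVars false

namespace CfsgLib.Suzuki

open MulAction

variable {F : Type*} [Field F] [Fintype F] [CharP F 2] {m : ℕ} [hP : Param F m]

include hP

/-- The conjugates of a subgroup. -/
def conjs (X : Subgroup (Gp F m)) : Set (Subgroup (Gp F m)) :=
  {Y | ∃ g, Y = X.map (MulAut.conj g).toMonoidHom}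

theorem self_mem_conjs (X : Subgroup (Gp F m)) : X ∈ conjs X :=
  ⟨1, by ext; rw [mem_map_conj]; simp⟩

theorem card_of_mem_conjs {X Y : Subgroup (Gp F m)} (h : Y ∈ conjs X) : Nat.card Y = Nat.card X := by
  obtain ⟨g, rfl⟩ := h
  exact Subgroup.card_map_of_injective (MulAut.conj g).injective

theorem Tor.map_conj {X : Subgroup (Gp F m)} {n : ℕ} (h : Tor X n) (g : Gp F m) :
    Tor (X.map (MulAut.conj g).toMonoidHom) n where
  comm a ha b hb := by
    rw [mem_map_conj] at ha hb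
    have := h.comm _ ha _ hb
    calc a * b = g * (g⁻¹ * a * g * (g⁻¹ * b * g)) * g⁻¹ := by group
      _ = g * (g⁻¹ * b * g * (g⁻¹ * a * g)) * g⁻¹ := by rw [this]
      _ = b * a := by group
  odd := by rw [Subgroup.card_map_of_injective (MulAut.conj g).injective]; exact h.odd
  cent u hu h1 := by
    rw [mem_map_conj] at hu
    ext c
    rw [mem_map_conj, ← h.cent _ hu (by simpa using conj_ne_one (F := F) (m := m) h1 g⁻¹)]
    conv_lhs => rw [show u = g * (g⁻¹ * u * g) * g⁻¹ by group]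
    exact CfsgLib.Ree.centralizer_conj_iff g _ c
  two_four := h.two_four
  card_normalizer := by
    rw [← Subgroup.map_equiv_normalizer_eq, Subgroup.card_map_of_injective (MulAut.conj g).injective,
      Subgroup.card_map_of_injective (MulAut.conj g).injective, h.card_normalizer]

theorem tor_grpH : Tor (grpH F m) 2 where
  comm := by
    rintro _ ⟨s, rfl⟩ _ ⟨t, rfl⟩
    rw [← map_mul, ← map_mul, mul_comm]
  odd := by rw [natCard_grpH]; exact odd_card_sub_one (F := F) (m := m)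
  cent u hu h1 := centralizer_gH hu h1
  two_four := Or.inl rfl
  card_normalizer := by rw [natCard_normalizer_grpH, natCard_grpH]

variable (F m) in
/-- Representatives of the two classes of tori of order dividing `q² + 1`. -/
theorem exists_tor_reps : ∃ A B : Subgroup (Gp F m), Tor A 4 ∧ Tor B 4 ∧ A ≠ ⊥ ∧ B ≠ ⊥ ∧
    Nat.card A + Nat.card B = 2 * Fintype.card F + 2 ∧
    Nat.card A * Nat.card B = Fintype.card F ^ 2 + 1 ∧ Nat.card A ≠ Nat.card B ∧
    (∀ x, IsT x → Subgroup.centralizer {x} ∈ conjs A ∪ conjs B) ∧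
    (∀ j ∈ ({2 ^ (2 * m + 1) + 2 ^ (m + 1) + 1, 2 ^ (2 * m + 1) - 2 ^ (m + 1) + 1} : Set ℕ),
      j = Nat.card A ∨ j = Nat.card B) := by
  obtain ⟨x, k, hx, hk, -, hall, hN, -⟩ := exists_tori F m
  have hodd : ∀ y, IsT y → Odd (Nat.card ↥(Subgroup.centralizer ({y} : Set (Gp F m)))) := fun y hy =>
    (odd_card_sq_add_one (F := F) (m := m)).of_dvd_nat hy.card_cent_dvd
  have hne : ∀ y, IsT y → Subgroup.centralizer ({y} : Set (Gp F m)) ≠ ⊥ := fun y hy e =>
    hy.ne_one (Subgroup.mem_bot.1 (e ▸ self_mem_cent y))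
  have htor : ∀ y ∈ ({x, k} : Set (Gp F m)), IsT y → Tor (Subgroup.centralizer {y}) 4 := fun y hy hT =>
    ⟨fun a ha b hb => hT.comm ha hb, hodd y hT, fun u hu h1 => hT.cent_eq hu h1, Or.inr rfl, hN y hy⟩
  have tA := htor x (by simp) hx
  have tB := htor k (by simp) hk
  have hconj : ∀ y, IsT y →
      Subgroup.centralizer {y} ∈ conjs (Subgroup.centralizer {x}) ∪ conjs (Subgroup.centralizer {k}) := by
    intro y hy
    obtain ⟨p, hp, hd, ho⟩ := id hy
    have key : ∀ w, IsT w → y ∈ TS w →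
        Subgroup.centralizer {y} ∈ conjs (Subgroup.centralizer {w}) := by
      rintro w hw ⟨g, hg, hg1⟩
      refine ⟨g⁻¹, ?_⟩
      ext c
      rw [mem_map_conj, inv_inv, ← hw.cent_eq hg hg1, CfsgLib.Ree.centralizer_conj_iff,
        show g⁻¹ * (g * c * g⁻¹) * g = c by group]
    rcases hall y ⟨hy.ne_one, ho ▸ hd⟩ with h | h
    · exact Or.inl (key x hx h)
    · exact Or.inr (key k hk h)
  have hj : ∀ j ∈ ({2 ^ (2 * m + 1) + 2 ^ (m + 1) + 1, 2 ^ (2 * m + 1) - 2 ^ (m + 1) + 1} : Set ℕ),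
      j = Nat.card ↥(Subgroup.centralizer ({x} : Set (Gp F m))) ∨
      j = Nat.card ↥(Subgroup.centralizer ({k} : Set (Gp F m))) := by
    intro j hj
    obtain ⟨T, hTc, hTj, hTcent, -⟩ := tori F m j hj
    obtain ⟨p, hp, hpd⟩ := Nat.exists_prime_and_dvd (show Nat.card T ≠ 1 by
      rw [hTj]
      have h1 : 0 < 2 ^ (m + 1) := Nat.two_pow_pos _
      have h2 : 2 ^ (m + 1) < 2 ^ (2 * m + 1) :=
        Nat.pow_lt_pow_right (by norm_num) (by have := hP.one_le; omega)
      rcases (show j = 2 ^ (2 * m + 1) + 2 ^ (m + 1) + 1 ∨ j = 2 ^ (2 * m + 1) - 2 ^ (m + 1) + 1 from hj)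
        with h | h <;> omega)
    have := Fact.mk hp
    obtain ⟨⟨u, hu⟩, huo⟩ := exists_prime_orderOf_dvd_card' p hpd
    rw [Subgroup.orderOf_mk] at huo
    have hdvd : j ∣ Fintype.card F ^ 2 + 1 := by
      have hq : (2 ^ (2 * m + 1) + 2 ^ (m + 1) + 1) * (2 ^ (2 * m + 1) - 2 ^ (m + 1) + 1) =
          Fintype.card F ^ 2 + 1 := by
        rw [hP.card]
        have hr : 2 ^ (m + 1) ≤ 2 ^ (2 * m + 1) := Nat.pow_le_pow_right (by norm_num) (by omega)
        have hsq : (2 ^ (m + 1)) ^ 2 = 2 * 2 ^ (2 * m + 1) := by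
          rw [← pow_mul, ← pow_succ']; congr 1; ring
        generalize 2 ^ (m + 1) = r at *
        generalize 2 ^ (2 * m + 1) = q at *
        zify [hr] at *
        linear_combination -hsq
      rcases hj with h | h <;> rw [h, ← hq]
      · exact dvd_mul_right _ _
      · exact dvd_mul_left _ _
    have huT : IsT u := ⟨p, hp, (hTj ▸ hpd).trans hdvd, huo⟩
    have e : Subgroup.centralizer {u} = T := hTcent u hu huT.ne_one
    rcases hconj u huT with h | h
    · left; rw [← card_of_mem_conjs h, e, hTj]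
    · right; rw [← card_of_mem_conjs h, e, hTj]
  refine ⟨_, _, tA, tB, hne x hx, hne k hk, ?_, ?_, ?_, hconj, hj⟩
  all_goals
    have h1 := hj (2 ^ (2 * m + 1) + 2 ^ (m + 1) + 1) (Or.inl rfl)
    have h2 := hj (2 ^ (2 * m + 1) - 2 ^ (m + 1) + 1) (Or.inr rfl)
    try rw [hP.card] at *
    have hr : 2 ^ (m + 1) ≤ 2 ^ (2 * m + 1) := Nat.pow_le_pow_right (by norm_num) (by omega)
    have hr0 : 0 < 2 ^ (m + 1) := Nat.two_pow_pos _
    have hsq : (2 ^ (m + 1)) ^ 2 = 2 * 2 ^ (2 * m + 1) := by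
      rw [← pow_mul, ← pow_succ']; congr 1; ring
    generalize 2 ^ (m + 1) = r at *
    generalize 2 ^ (2 * m + 1) = q at *
    generalize Nat.card ↥(Subgroup.centralizer ({x} : Set (Gp F m))) = a at *
    generalize Nat.card ↥(Subgroup.centralizer ({k} : Set (Gp F m))) = b at *
  · omega
  · have hor : (a = q + r + 1 ∧ b = q - r + 1) ∨ (a = q - r + 1 ∧ b = q + r + 1) := by omega
    rcases hor with ⟨rfl, rfl⟩ | ⟨rfl, rfl⟩ <;> (zify [hr] at *; linear_combination -hsq)
  · omega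

variable (F m) in
/-- Membership in the family of all tori. -/
def IsTor (A B X : Subgroup (Gp F m)) : Prop := X ∈ conjs (grpH F m) ∪ conjs A ∪ conjs B

theorem IsTor.tor {A B X : Subgroup (Gp F m)} (hA : Tor A 4) (hB : Tor B 4) (h : IsTor F m A B X) :
    ∃ n, Tor X n := by
  rcases h with (⟨g, rfl⟩ | ⟨g, rfl⟩) | ⟨g, rfl⟩
  · exact ⟨2, tor_grpH.map_conj g⟩
  · exact ⟨4, hA.map_conj g⟩
  · exact ⟨4, hB.map_conj g⟩

theorem normalizer_conj_grpU (g : Gp F m) :
    Subgroup.normalizer (((grpU F m).map (MulAut.conj g).toMonoidHom : Subgroup (Gp F m)) :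
      Set (Gp F m)) = stabilizer (Gp F m) (g • pinf F m) := by
  rw [← Subgroup.map_equiv_normalizer_eq, normalizer_grpU, stabilizer_smul_eq_stabilizer_map_conj]

/-- A solvable nontrivial subgroup lies in the normalizer of a maximal nilpotent subgroup. -/
theorem solvable_le_normalizer {K : Subgroup (Gp F m)} (hK : Group.IsSolvable ↥K) (hne : K ≠ ⊥) :
    ∃ X, IsMaxNil F m X ∧ K ≤ Subgroup.normalizer (X : Set (Gp F m)) := by
  classical
  have hex := (Group.isSolvable_def ↥K).1 hK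
  set d := Nat.find hex with hd
  have hspec := Nat.find_spec hex
  have hpos : d ≠ 0 := by
    intro e
    rw [← hd, e] at hspec
    apply hne
    refine (Subgroup.eq_bot_iff_forall _).2 fun k hk => ?_
    have : (⟨k, hk⟩ : K) ∈ (⊥ : Subgroup K) := hspec ▸ Subgroup.mem_top _
    exact congrArg Subtype.val (Subgroup.mem_bot.1 this)
  obtain ⟨j, hj⟩ := Nat.exists_eq_succ_of_ne_zero hpos
  have hMne : derivedSeries K j ≠ ⊥ := Nat.find_min hex (by rw [← hd, hj]; exact Nat.lt_succ_self j)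
  have hMab : ⁅derivedSeries K j, derivedSeries K j⁆ = ⊥ := by
    rw [← derivedSeries_succ, ← Nat.succ_eq_add_one, ← hj]; exact hspec
  obtain ⟨z, hz, hz1⟩ := (derivedSeries K j).bot_or_exists_ne_one.resolve_left hMne
  have hz1' : (z : Gp F m) ≠ 1 := fun e => hz1 (Subtype.ext e)
  obtain ⟨X, hX, hzX⟩ := exists_maxNil hz1'
  refine ⟨X, hX, fun g hg => Subgroup.mem_normalizer_fintype fun c hc => ?_⟩
  have hcomm : ∀ a ∈ derivedSeries K j, ∀ b ∈ derivedSeries K j, a * b = b * a := fun a ha b hb =>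
    commutatorElement_eq_one_iff_mul_comm.1
      (Subgroup.mem_bot.1 (hMab ▸ Subgroup.commutator_mem_commutator ha hb))
  have hz' : (⟨g, hg⟩ : K) * z * (⟨g, hg⟩ : K)⁻¹ ∈ derivedSeries K j :=
    (derivedSeries_normal ↥K j).conj_mem z hz _
  have hz'X : g * (z : Gp F m) * g⁻¹ ∈ X :=
    hX.cent hzX hz1' (Subgroup.mem_centralizer_singleton_iff.2
      (congrArg Subtype.val (hcomm _ hz' _ hz)))
  have hX' : IsMaxNil F m (X.map (MulAut.conj g).toMonoidHom) := by
    rcases hX with ⟨k, rfl⟩ | ⟨k, rfl⟩ | ⟨w, hw, rfl⟩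
    · exact Or.inl ⟨g * k, by ext; simp only [mem_map_conj]; group⟩
    · exact Or.inr (Or.inl ⟨g * k, by ext; simp only [mem_map_conj]; group⟩)
    · refine Or.inr (Or.inr ⟨g * w * g⁻¹, ?_, ?_⟩)
      · obtain ⟨p, hp, hd, ho⟩ := hw
        exact ⟨p, hp, hd, by rw [CfsgLib.Ree.orderOf_conj', ho]⟩
      · ext y
        rw [mem_map_conj, CfsgLib.Ree.centralizer_conj_iff]
  have hin : g * (z : Gp F m) * g⁻¹ ∈ X.map (MulAut.conj g).toMonoidHom :=
    Subgroup.mem_map_of_mem _ hzX
  have heq : X.map (MulAut.conj g).toMonoidHom = X := by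
    have h1 := conj_ne_one (F := F) (m := m) hz1' g
    have aux : ∀ P Q : Subgroup (Gp F m), IsMaxNil F m P → IsMaxNil F m Q →
        g * (z : Gp F m) * g⁻¹ ∈ P → g * (z : Gp F m) * g⁻¹ ∈ Q → P ≤ Q := by
      intro P Q hP' hQ' ha hb a haP
      have := hP'.nilpotent
      have hnt : Nontrivial ↥P := ⟨⟨_, ha⟩, 1, fun e => h1 (congrArg Subtype.val e)⟩
      obtain ⟨c', hc', hc1⟩ := (Subgroup.center ↥P).bot_or_exists_ne_one.resolve_left
        (Group.IsNilpotent.center_ne_bot (G := ↥P))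
      have hcQ : (c' : Gp F m) ∈ Q := hQ'.cent hb h1 (Subgroup.mem_centralizer_singleton_iff.2
        (congrArg Subtype.val (Subgroup.mem_center_iff.1 hc' ⟨_, ha⟩)).symm)
      exact hQ'.cent hcQ (fun e => hc1 (Subtype.ext e)) (Subgroup.mem_centralizer_singleton_iff.2
        (congrArg Subtype.val (Subgroup.mem_center_iff.1 hc' ⟨a, haP⟩)))
    exact le_antisymm (aux _ _ hX' hX hin hz'X) (aux _ _ hX hX' hz'X hin)
  rw [SetLike.mem_coe, ← heq]
  exact Subgroup.mem_map_of_mem _ hc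

theorem isSolvable_stabilizer (p : Pts F m) : Group.IsSolvable ↥(stabilizer (Gp F m) p) := by
  obtain ⟨g, rfl⟩ := exists_smul_eq (Gp F m) (pinf F m) p
  rw [stabilizer_smul_eq_stabilizer_map_conj]
  have := isSolvable_stab (F := F) (m := m)
  exact Group.isSolvable_of_surjective
    (f := ((stabilizer (Gp F m) (pinf F m)).equivMapOfInjective (MulAut.conj g).toMonoidHom
      (MulAut.conj g).injective).toMonoidHom) (MulEquiv.surjective _)

/-- The solubilizer. -/
def solv {L : Type*} [Group L] (x : L) : Set L :=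
  {y | Group.IsSolvable ↥(Subgroup.closure ({x, y} : Set L))}

theorem mem_solv_iff {A B : Subgroup (Gp F m)} (hA : Tor A 4) (hB : Tor B 4)
    (hcover : ∀ x, IsT x → Subgroup.centralizer {x} ∈ conjs A ∪ conjs B) {x : Gp F m} (hx : x ≠ 1)
    (y : Gp F m) : y ∈ solv x ↔
      (∃ p : Pts F m, x • p = p ∧ y • p = p) ∨
      ∃ X, IsTor F m A B X ∧ x ∈ Subgroup.normalizer (X : Set (Gp F m)) ∧
        y ∈ Subgroup.normalizer (X : Set (Gp F m)) := by
  constructor
  · intro h
    have hx' : x ∈ Subgroup.closure ({x, y} : Set (Gp F m)) :=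
      Subgroup.subset_closure (Set.mem_insert _ _)
    obtain ⟨X, hX, hle⟩ := solvable_le_normalizer h fun e => hx (Subgroup.mem_bot.1 (e ▸ hx'))
    have hxN := hle hx'
    have hyN := hle (Subgroup.subset_closure (Set.mem_insert_of_mem _ rfl))
    rcases hX with ⟨g, rfl⟩ | hX | ⟨w, hw, rfl⟩
    · rw [normalizer_conj_grpU] at hxN hyN
      exact Or.inl ⟨_, hxN, hyN⟩
    · exact Or.inr ⟨X, Or.inl (Or.inl hX), hxN, hyN⟩
    · refine Or.inr ⟨_, ?_, hxN, hyN⟩
      rcases hcover w hw with h' | h'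
      · exact Or.inl (Or.inr h')
      · exact Or.inr h'
  · intro h
    have key : ∀ K : Subgroup (Gp F m), Group.IsSolvable ↥K → x ∈ K → y ∈ K → y ∈ solv x := by
      intro K hK hxK hyK
      have hle : Subgroup.closure ({x, y} : Set (Gp F m)) ≤ K :=
        (Subgroup.closure_le _).2 (by rintro z (rfl | rfl) <;> assumption)
      exact Group.isSolvable_of_isSolvable_injective (Subgroup.inclusion_injective hle)
    rcases h with ⟨p, hxp, hyp⟩ | ⟨X, hX, hxN, hyN⟩
    · exact key _ (isSolvable_stabilizer p) hxp hyp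
    · obtain ⟨n, hn⟩ := hX.tor hA hB
      exact key _ hn.isSolvable_normalizer hxN hyN

end CfsgLib.Suzuki
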