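import Mathlib
import Cfsg.Prelude.Def_Solvable
import Cfsg.Prelude.Def_Transfer
import Cfsg.Agent.Lib.Suzuki.Aut

/-!
# Automorphisms of a Sylow 2-subgroup of the Suzuki group
-/

set_option autoImplicit false
set_option linter.unusedSectionVars false

namespace CfsgLib.Suzuki.SylowAut

variable {F : Type*} [Field F] [Fintype F] [CharP F 2] {m : ℕ} [hP : Param F m]

/-! ### Linearized maps -/

variable (F m) in
/-- The field automorphism `x ↦ x^(2^i)`. -/
def fr (i : Fin (2 * m + 1)) : F →+* F := iterateFrobenius F 2 i.val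

theorem fr_def (i : Fin (2 * m + 1)) (x : F) : fr F m i x = x ^ 2 ^ i.val := iterateFrobenius_def ..

variable (m) in
/-- The index of `σ`. -/
def si : Fin (2 * m + 1) := Fin.ofNat _ (m + 1)

include hP

theorem pow_mod_eq (k : ℕ) (x : F) : x ^ 2 ^ (k % (2 * m + 1)) = x ^ 2 ^ k := by
  conv_rhs => rw [← Nat.mod_add_div k (2 * m + 1), pow_add, pow_mul, pow_mul 2 (2 * m + 1), ← hP.card]
  rw [FiniteField.pow_card_pow]

theorem sg_fr (i : Fin (2 * m + 1)) (x : F) : sg F m (fr F m i x) = fr F m (i + si m) x := by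
  rw [sg_def, fr_def, fr_def, ← pow_mul, ← pow_add, Fin.val_add, si, Fin.val_ofNat, Nat.add_mod_mod,
    pow_mod_eq]

theorem fr_sg (i : Fin (2 * m + 1)) (x : F) : fr F m i (sg F m x) = fr F m (i + si m) x := by
  rw [← sg_fr, fr_def, fr_def, map_pow]

theorem fr_injective : Function.Injective (fr F m) := by
  intro i j h
  have h8 := eight_le_card (F := F) (m := m)
  classical
  obtain ⟨g, hg⟩ := IsCyclic.exists_generator (α := Fˣ)
  have ho : orderOf g = Fintype.card F - 1 := by
    rw [orderOf_eq_card_of_forall_mem_zpowers hg, Nat.card_units, Nat.card_eq_fintype_card]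
  have hlt : ∀ k : Fin (2 * m + 1), 2 ^ k.val < orderOf g := fun k => by
    have h1 : 2 ^ k.val ≤ 2 ^ (2 * m) := Nat.pow_le_pow_right (by norm_num) (by have := k.isLt; omega)
    rw [ho, hP.card, pow_succ] at *
    omega
  have h' : g ^ 2 ^ i.val = g ^ 2 ^ j.val := Units.ext (by
    rw [Units.val_pow_eq_pow_val, Units.val_pow_eq_pow_val, ← fr_def, ← fr_def, h])
  exact Fin.ext (Nat.pow_right_injective le_rfl (pow_injOn_Iio_orderOf (hlt i) (hlt j) h'))

theorem fr_independent {c : Fin (2 * m + 1) → F} (h : ∀ x, ∑ i, c i * fr F m i x = 0) (i) : c i = 0 := by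
  classical
  have hinj : Function.Injective fun i => ((fr F m i : F →+* F) : F →* F) := fun a b e =>
    fr_injective (RingHom.ext fun x => DFunLike.congr_fun e x)
  have hind := (linearIndependent_monoidHom F F).comp _ hinj
  refine Fintype.linearIndependent_iff.1 hind c ?_ i
  funext x
  simpa [Finset.sum_apply] using h x

/-- A linearized map. -/
def lin (c : Fin (2 * m + 1) → F) : F →+ F where
  toFun x := ∑ i, c i * fr F m i x
  map_zero' := by simp
  map_add' x y := by simp [mul_add, Finset.sum_add_distrib]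

theorem card_addHom : Nat.card (F →+ F) = 2 ^ ((2 * m + 1) * (2 * m + 1)) := by
  haveI : Fact (Nat.Prime 2) := ⟨Nat.prime_two⟩
  letI : Algebra (ZMod 2) F := ZMod.algebra F 2
  have hr : Module.finrank (ZMod 2) F = 2 * m + 1 := by
    have h1 := Module.card_eq_pow_finrank (K := ZMod 2) (V := F)
    rw [hP.card, ZMod.card] at h1
    exact (Nat.pow_right_injective le_rfl h1).symm
  let e : (F →+ F) ≃ (F →ₗ[ZMod 2] F) :=
    ⟨fun f => f.toZModLinearMap 2, fun l => l.toAddMonoidHom, fun _ => rfl, fun _ => rfl⟩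
  rw [Nat.card_congr e,
    Module.natCard_eq_pow_finrank (K := ZMod 2), Module.finrank_linearMap, hr, Nat.card_eq_fintype_card,
    ZMod.card]

theorem lin_surjective : Function.Surjective (lin (F := F) (m := m)) := by
  haveI : Finite (F →+ F) := Finite.of_injective (fun f => (f : F → F)) DFunLike.coe_injective
  have hinj : Function.Injective (lin (F := F) (m := m)) := fun c d h => funext fun i => by
    refine sub_eq_zero.1 (fr_independent (m := m) (c := fun i => c i - d i) (fun x => ?_) i)
    have := DFunLike.congr_fun h x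
    change ∑ i, c i * fr F m i x = ∑ i, d i * fr F m i x at this
    simp [sub_mul, Finset.sum_sub_distrib, this]
  refine (hinj.bijective_of_nat_card_le ?_).2
  rw [card_addHom (F := F) (m := m), Nat.card_fun, Nat.card_fin, Nat.card_eq_fintype_card, hP.card, ← pow_mul]

theorem bilinear_zero {D : Fin (2 * m + 1) → Fin (2 * m + 1) → F}
    (h : ∀ x, ∑ i, ∑ j, D i j * (fr F m i x * fr F m j x) = 0) :
    (∀ i j, D i j + D j i = 0) ∧ ∀ i, D i i = 0 := by
  classical
  have h2 : ∀ x y, ∑ i, (∑ j, (D i j + D j i) * fr F m j y) * fr F m i x = 0 := by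
    intro x y
    have e := h (x + y)
    simp only [map_add, add_mul, mul_add, Finset.sum_add_distrib, h, zero_add, add_zero] at e
    simp only [add_mul, Finset.sum_add_distrib, Finset.sum_mul]
    rw [Finset.sum_comm (f := fun i j => D j i * fr F m j y * fr F m i x), ← e, add_comm]
    congr 1 <;> refine Finset.sum_congr rfl fun i _ => Finset.sum_congr rfl fun j _ => ?_ <;> ring
  have hsym : ∀ i j, D i j + D j i = 0 := fun i j =>
    fr_independent (fun y => fr_independent (fun x => h2 x y) i) j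
  refine ⟨hsym, fun i => ?_⟩
  have hdiag : ∀ x, ∑ k, D k k * fr F m k (x * x) = 0 := by
    intro x
    have e := h x
    rw [← Fintype.sum_prod_type'] at e
    rw [← e]
    have hoff : ∑ p : Fin (2 * m + 1) × Fin (2 * m + 1) with p.1 ≠ p.2,
        D p.1 p.2 * (fr F m p.1 x * fr F m p.2 x) = 0 := by
      refine Finset.sum_involution (fun p _ => p.swap) (fun p _ => ?_) (fun p hp _ => ?_)
        (fun p hp => ?_) fun p _ => Prod.swap_swap p
      · simp only [Prod.fst_swap, Prod.snd_swap]
        linear_combination (fr F m p.1 x * fr F m p.2 x) * hsym p.1 p.2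
      · intro e'
        exact (Finset.mem_filter.1 hp).2 (congrArg Prod.fst e').symm
      · simpa using Ne.symm (Finset.mem_filter.1 hp).2
    rw [← Finset.sum_filter_add_sum_filter_not (s := Finset.univ)
      (p := fun p : Fin (2 * m + 1) × Fin (2 * m + 1) => p.1 ≠ p.2), hoff, zero_add]
    refine Finset.sum_bij (fun k _ => (k, k)) (fun k _ => by simp) (fun a _ b _ e' => congrArg Prod.fst e')
      (fun p hp => ⟨p.1, Finset.mem_univ _, ?_⟩) fun k _ => by rw [map_mul]
    have := (Finset.mem_filter.1 hp).2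
    push Not at this
    exact Prod.ext rfl this
  have hsq : Function.Surjective fun x : F => x * x := by
    refine Finite.surjective_of_injective fun x y e => ?_
    have : (x - y) ^ 2 = 0 := by linear_combination e + (y * y - x * y) * two_eq_zero (F := F)
    exact sub_eq_zero.1 (eq_zero_of_pow_eq_zero this)
  refine fr_independent (c := fun k => D k k) (fun y => ?_) i
  obtain ⟨x, rfl⟩ := hsq y
  exact hdiag x

/-- Additive maps compatible with the norm form are semilinear. -/
theorem semilinear (A B : F →+ F) (hA : Function.Injective A)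
    (h : ∀ a, sg F m (A a) * A a = B (sg F m a * a)) :
    ∃ (l : F) (i : Fin (2 * m + 1)), l ≠ 0 ∧ ∀ a, A a = l * fr F m i a := by
  classical
  obtain ⟨c, rfl⟩ := lin_surjective (F := F) (m := m) A
  obtain ⟨b, rfl⟩ := lin_surjective (F := F) (m := m) B
  set D : Fin (2 * m + 1) → Fin (2 * m + 1) → F :=
    fun i j => c i * sg F m (c (j - si m)) - if j = i + si m then b i else 0 with hD
  have hD0 : ∀ x, ∑ i, ∑ j, D i j * (fr F m i x * fr F m j x) = 0 := by
    intro x
    have e := h x
    change sg F m (∑ i, c i * fr F m i x) * (∑ i, c i * fr F m i x) =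
      ∑ i, b i * fr F m i (sg F m x * x) at e
    simp only [hD, sub_mul, Finset.sum_sub_distrib, ite_mul, zero_mul, Finset.sum_ite_eq',
      Finset.mem_univ, if_true]
    rw [sub_eq_zero]
    calc ∑ i, ∑ j, c i * sg F m (c (j - si m)) * (fr F m i x * fr F m j x)
        = ∑ i, (c i * fr F m i x) * ∑ j, sg F m (c j) * fr F m (j + si m) x := by
          refine Finset.sum_congr rfl fun i _ => ?_
          rw [Finset.mul_sum]
          refine (Fintype.sum_equiv (Equiv.addRight (si m)) _ _ fun j => ?_).symm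
          simp only [Equiv.coe_addRight, add_sub_cancel_right]
          ring
      _ = sg F m (∑ i, c i * fr F m i x) * (∑ i, c i * fr F m i x) := by
          rw [← Finset.sum_mul, mul_comm, map_sum]
          simp only [map_mul, sg_fr]
      _ = _ := by
          rw [e]
          refine Finset.sum_congr rfl fun i _ => ?_
          rw [map_mul, fr_sg]; ring
  obtain ⟨hsym, hdiag⟩ := bilinear_zero hD0
  set s : Fin (2 * m + 1) := si m
  have hm := hP.one_le
  have hs : (si m : Fin (2 * m + 1)).val = m + 1 := by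
    rw [si, Fin.val_ofNat, Nat.mod_eq_of_lt (by omega)]
  have hs0 : s ≠ 0 := fun e => by rw [Fin.ext_iff, hs, Fin.val_zero] at e; omega
  have hP' : ∀ i, c i = 0 ∨ c (i - s) = 0 := fun i => by
    have e := hdiag i
    simp only [hD] at e
    rw [if_neg (fun e' => hs0 (left_eq_add.1 e')), sub_zero, mul_eq_zero] at e
    exact e.imp_right (map_eq_zero (sg F m)).1
  have key : ∀ p r, c p ≠ 0 → c r ≠ 0 → p ≠ r → r + s + s = p := by
    intro p r hp hr hne
    by_contra hcon
    have hpr : p ≠ r + s := fun e => by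
      rcases hP' p with h' | h'
      · exact hp h'
      · rw [e, add_sub_cancel_right] at h'; exact hr h'
    have e := hsym p (r + s)
    simp only [hD, add_sub_cancel_right] at e
    rw [if_neg (fun e' => hne (add_right_cancel e').symm),
      if_neg (fun e' => hcon e'.symm)] at e
    have h0 : c (r + s) = 0 := by
      rcases hP' (r + s) with h' | h'
      · exact h'
      · rw [add_sub_cancel_right] at h'; exact absurd h' hr
    rw [h0, zero_mul, sub_zero, sub_zero, add_zero, mul_eq_zero] at e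
    exact hr ((map_eq_zero (sg F m)).1 (e.resolve_left hp))
  obtain ⟨p, hp⟩ : ∃ p, c p ≠ 0 := by
    by_contra hall
    push Not at hall
    have : lin c 1 = lin c 0 := by
      change ∑ i, c i * fr F m i 1 = ∑ i, c i * fr F m i 0
      simp [hall]
    exact one_ne_zero (hA this)
  have hall : ∀ r, r ≠ p → c r = 0 := by
    intro r hne
    by_contra hr
    have e1 := key p r hp hr (Ne.symm hne)
    have e2 := key r p hr hp hne
    have h4 : s + s + (s + s) = 0 := by
      have : r + (s + s + (s + s)) = r := by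
        calc r + (s + s + (s + s)) = r + s + s + s + s := by abel
          _ = r := by rw [e1, e2]
      exact add_eq_left.1 this
    rw [Fin.ext_iff] at h4
    have hs' : s.val = m + 1 := hs
    simp only [Fin.val_add, hs', Fin.val_zero, Nat.add_mod_mod, Nat.mod_add_mod] at h4
    rw [show m + 1 + (m + 1) + (m + 1 + (m + 1)) = 2 + (2 * m + 1) * 2 by ring, Nat.add_mul_mod_self_left,
      Nat.mod_eq_of_lt (by omega)] at h4
    omega
  refine ⟨c p, p, hp, fun a => ?_⟩
  change ∑ i, c i * fr F m i a = _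
  exact Finset.sum_eq_single p (fun r _ hr => by rw [hall r hr, zero_mul]) (by simp)

/-! ### Coordinates -/

/-- An element of the translation group. -/
def mkU (a b : F) : grpU F m := ⟨gT a b, gT_mem a b⟩

theorem mkU_mul (a b c d : F) :
    mkU (m := m) a b * mkU c d = mkU (a + c) (b + d + sg F m a * c) := Subtype.ext (gT_mul a b c d)

theorem mkU_inj {a b c d : F} (h : mkU (m := m) a b = mkU c d) : a = c ∧ b = d :=
  gT_inj (congrArg Subtype.val h)

theorem exists_mkU (u : grpU F m) : ∃ a b, u = mkU a b := by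
  obtain ⟨a, b, h⟩ := u.2
  exact ⟨a, b, Subtype.ext h⟩

variable (F m) in
/-- Coordinates on the translation group. -/
noncomputable def uEquiv : F × F ≃ grpU F m :=
  Equiv.ofBijective (fun p => mkU p.1 p.2) ⟨fun p q h => Prod.ext (mkU_inj h).1 (mkU_inj h).2,
    fun u => by obtain ⟨a, b, rfl⟩ := exists_mkU u; exact ⟨(a, b), rfl⟩⟩

theorem uEquiv_symm (a b : F) : (uEquiv F m).symm (mkU a b) = (a, b) := by
  rw [Equiv.symm_apply_eq]; rfl

/-- The automorphism with the given coordinates. -/
noncomputable def autOf (A B : F ≃+ F) (C : F → F)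
    (h : ∀ a c, C (a + c) + B (sg F m a * c) = C a + C c + sg F m (A a) * A c) : MulAut (grpU F m) where
  toFun u := mkU (A ((uEquiv F m).symm u).1) (C ((uEquiv F m).symm u).1 + B ((uEquiv F m).symm u).2)
  invFun u := mkU (A.symm ((uEquiv F m).symm u).1)
    (B.symm (((uEquiv F m).symm u).2 - C (A.symm ((uEquiv F m).symm u).1)))
  left_inv u := by
    obtain ⟨a, b, rfl⟩ := exists_mkU u
    simp [uEquiv_symm]
  right_inv u := by
    obtain ⟨a, b, rfl⟩ := exists_mkU u
    simp [uEquiv_symm]
  map_mul' u v := by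
    obtain ⟨a, b, rfl⟩ := exists_mkU u
    obtain ⟨c, d, rfl⟩ := exists_mkU v
    simp only [uEquiv_symm, mkU_mul, map_add]
    congr 1
    linear_combination h a c

theorem autOf_apply (A B : F ≃+ F) (C : F → F) (h) (a b : F) :
    autOf (m := m) A B C h (mkU a b) = mkU (A a) (C a + B b) := by
  show mkU (A ((uEquiv F m).symm (mkU a b)).1) _ = _
  simp [uEquiv_symm]

/-- The first coordinate of the image of a translation. -/
noncomputable def cA (α : MulAut (grpU F m)) (a : F) : F := ((uEquiv F m).symm (α (mkU a 0))).1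

/-- The second coordinate of the image of a translation. -/
noncomputable def cC (α : MulAut (grpU F m)) (a : F) : F := ((uEquiv F m).symm (α (mkU a 0))).2

/-- The image of a central translation. -/
noncomputable def cB (α : MulAut (grpU F m)) (b : F) : F := ((uEquiv F m).symm (α (mkU 0 b))).2

theorem apply_zero (α : MulAut (grpU F m)) (b : F) : α (mkU 0 b) = mkU 0 (cB α b) := by
  obtain ⟨c, d, hcd⟩ := exists_mkU (α (mkU 0 b))
  have e : α (mkU 0 b) * α (mkU 0 b) = 1 := by
    rw [← map_mul, ← map_one α]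
    congr 1
    refine Subtype.ext ?_
    show gT (m := m) 0 b * gT 0 b = 1
    rw [gT_sq, map_zero, zero_mul, gT_zero]
  rw [hcd] at e
  have e' : gT (m := m) c d * gT c d = 1 := congrArg Subtype.val e
  rw [gT_sq, ← gT_zero] at e'
  have hc : c = 0 := by
    rcases mul_eq_zero.1 (gT_inj e').2 with h | h
    · exact (map_eq_zero (sg F m)).1 h
    · exact h
  rw [cB, hcd, uEquiv_symm, hc]

theorem apply_mkU (α : MulAut (grpU F m)) (a b : F) :
    α (mkU a b) = mkU (cA α a) (cC α a + cB α b) := by
  have e : mkU (m := m) a b = mkU a 0 * mkU 0 b := by rw [mkU_mul]; simp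
  obtain ⟨c, d, hcd⟩ := exists_mkU (α (mkU a 0))
  rw [e, map_mul, apply_zero, hcd, mkU_mul, cA, cC, hcd, uEquiv_symm]
  simp

theorem cA_add (α : MulAut (grpU F m)) (a c : F) : cA α (a + c) = cA α a + cA α c := by
  have e := map_mul α (mkU a 0) (mkU c 0)
  rw [mkU_mul, apply_mkU, apply_mkU, apply_mkU, mkU_mul] at e
  exact (mkU_inj e).1

theorem cB_add (α : MulAut (grpU F m)) (b d : F) : cB α (b + d) = cB α b + cB α d := by
  have e := map_mul α (mkU 0 b) (mkU 0 d)
  rw [mkU_mul, map_zero, zero_mul, add_zero, add_zero, apply_zero, apply_zero, apply_zero, mkU_mul,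
    map_zero, zero_mul, add_zero] at e
  simpa using (mkU_inj e).2

theorem cA_mul (α β : MulAut (grpU F m)) (a : F) : cA (α * β) a = cA α (cA β a) := by
  have e : (α * β) (mkU a 0) = α (β (mkU a 0)) := rfl
  rw [apply_mkU β, apply_mkU α, apply_mkU (α * β)] at e
  exact (mkU_inj e).1

theorem cA_one (a : F) : cA (1 : MulAut (grpU F m)) a = a := by
  have e := apply_mkU (1 : MulAut (grpU F m)) a 0
  exact (mkU_inj e).1.symm

variable (F m) in
/-- The action on the quotient by the centre. -/
noncomputable def psi : MulAut (grpU F m) →* Equiv.Perm F where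
  toFun α := ⟨cA α, cA α⁻¹, fun a => by rw [← cA_mul, inv_mul_cancel, cA_one],
    fun a => by rw [← cA_mul, mul_inv_cancel, cA_one]⟩
  map_one' := Equiv.ext cA_one
  map_mul' α β := Equiv.ext (cA_mul α β)

theorem psi_apply (α : MulAut (grpU F m)) (a : F) : psi F m α a = cA α a := rfl

theorem norm_surjective' (b : F) : ∃ a, sg F m a * a = b := by
  rcases eq_or_ne b 0 with rfl | hb
  · exact ⟨0, by simp⟩
  have hinj : Function.Injective fun k : Fˣ => Units.map (sg F m : F →* F) k * k := fun k l h => by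
    refine (div_eq_one.1 (Units.ext (eq_one_of_sg_mul_self hP.card ?_)))
    have h' : sg F m (k : F) * k = sg F m (l : F) * l := congrArg Units.val h
    have hl : sg F m (l : F) * l ≠ 0 :=
      mul_ne_zero ((map_ne_zero (sg F m)).2 l.ne_zero) l.ne_zero
    rw [Units.val_div_eq_div_val, map_div₀, div_mul_div_comm, h', div_self hl]
  obtain ⟨k, hk⟩ := Finite.injective_iff_surjective.1 hinj (Units.mk0 b hb)
  exact ⟨k, congrArg Units.val hk⟩

theorem cB_norm (α : MulAut (grpU F m)) (a : F) :
    sg F m (cA α a) * cA α a = cB α (sg F m a * a) := by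
  have e := map_mul α (mkU a 0) (mkU a 0)
  rw [mkU_mul, CharTwo.add_self_eq_zero a, add_zero, zero_add, apply_zero, apply_mkU, mkU_mul,
    CharTwo.add_self_eq_zero (cC α a + cB α 0), zero_add] at e
  exact (mkU_inj e).2.symm

theorem cA_semilinear (α : MulAut (grpU F m)) :
    ∃ (l : F) (i : Fin (2 * m + 1)), l ≠ 0 ∧ ∀ a, cA α a = l * fr F m i a :=
  semilinear (AddMonoidHom.mk' (cA α) (cA_add α)) (AddMonoidHom.mk' (cB α) (cB_add α))
    (psi F m α).injective (cB_norm α)

/-- The kernel consists of the central automorphisms. -/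
theorem mem_ker_iff (α : MulAut (grpU F m)) :
    α ∈ (psi F m).ker ↔ ∃ χ : F →+ F, ∀ a b, α (mkU a b) = mkU a (χ a + b) := by
  constructor
  · intro h
    have hA : ∀ a, cA α a = a := fun a => Equiv.ext_iff.1 (MonoidHom.mem_ker.1 h) a
    have hB : ∀ b, cB α b = b := fun b => by
      obtain ⟨a, rfl⟩ := norm_surjective' (F := F) (m := m) b
      rw [← cB_norm, hA]
    refine ⟨AddMonoidHom.mk' (cC α) fun a c => ?_, fun a b => by rw [apply_mkU, hA, hB]; rfl⟩
    have e := map_mul α (mkU a 0) (mkU c 0)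
    rw [mkU_mul, apply_mkU, apply_mkU, apply_mkU, mkU_mul] at e
    simp only [hA, hB, add_zero, zero_add] at e
    exact add_right_cancel (mkU_inj e).2
  · rintro ⟨χ, h⟩
    refine MonoidHom.mem_ker.2 (Equiv.ext fun a => ?_)
    show cA α a = a
    rw [cA, h, uEquiv_symm]

theorem ker_elementary (α : MulAut (grpU F m)) (hα : α ∈ (psi F m).ker) :
    α ^ 2 = 1 ∧ ∀ β ∈ (psi F m).ker, α * β = β * α := by
  obtain ⟨χ, hχ⟩ := (mem_ker_iff α).1 hα
  refine ⟨MulEquiv.ext fun u => ?_, fun β hβ => MulEquiv.ext fun u => ?_⟩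
  · obtain ⟨a, b, rfl⟩ := exists_mkU u
    rw [pow_two, MulAut.mul_apply, hχ, hχ, ← add_assoc, CharTwo.add_self_eq_zero, zero_add]
    rfl
  · obtain ⟨χ', hχ'⟩ := (mem_ker_iff β).1 hβ
    obtain ⟨a, b, rfl⟩ := exists_mkU u
    rw [MulAut.mul_apply, MulAut.mul_apply, hχ, hχ', hχ, hχ', add_left_comm]

theorem card_ker : Nat.card (psi F m).ker = 2 ^ ((2 * m + 1) * (2 * m + 1)) := by
  rw [← card_addHom (F := F) (m := m)]
  let f : (F →+ F) → (psi F m).ker := fun χ =>
    ⟨autOf (AddEquiv.refl F) (AddEquiv.refl F) χ (fun a c => by simp [map_add]),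
      (mem_ker_iff _).2 ⟨χ, fun a b => autOf_apply _ _ _ _ a b⟩⟩
  refine (Nat.card_congr (Equiv.ofBijective f ⟨fun χ χ' h => ?_, fun α => ?_⟩)).symm
  · refine AddMonoidHom.ext fun a => ?_
    have e := DFunLike.congr_fun (congrArg Subtype.val h) (mkU a 0)
    have ev : ∀ ψ : F →+ F, (f ψ).1 (mkU a 0) = mkU a (ψ a + 0) := fun ψ =>
      autOf_apply (AddEquiv.refl F) (AddEquiv.refl F) ψ (fun a c => by simp [map_add]) a 0
    simpa using (mkU_inj ((ev χ).symm.trans (e.trans (ev χ')))).2
  · obtain ⟨χ, hχ⟩ := (mem_ker_iff α.1).1 α.2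
    refine ⟨χ, Subtype.ext (MulEquiv.ext fun u => ?_)⟩
    obtain ⟨a, b, rfl⟩ := exists_mkU u
    rw [hχ]
    exact autOf_apply (AddEquiv.refl F) (AddEquiv.refl F) χ (fun a c => by simp [map_add]) a b

theorem card_range : Nat.card (psi F m).range = (2 * m + 1) * (2 ^ (2 * m + 1) - 1) := by
  let v : Fˣ × Fin (2 * m + 1) → (psi F m).range := fun p => by
    refine ⟨(Equiv.ofBijective (fr F m p.2) (fr F m p.2).injective.bijective_of_finite).trans
      (Equiv.mulLeft₀ (p.1 : F) p.1.ne_zero), ?_⟩
    have hn : sg F m (p.1 : F) * (p.1 : F) ≠ 0 :=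
      mul_ne_zero ((map_ne_zero (sg F m)).2 p.1.ne_zero) p.1.ne_zero
    let φ : F ≃+* F := RingEquiv.ofBijective (fr F m p.2) (fr F m p.2).injective.bijective_of_finite
    refine ⟨autOf (φ.toAddEquiv.trans (AddEquiv.mk (Equiv.mulLeft₀ (p.1 : F) p.1.ne_zero) (mul_add _)))
      (φ.toAddEquiv.trans (AddEquiv.mk (Equiv.mulLeft₀ (sg F m (p.1 : F) * (p.1 : F)) hn) (mul_add _))) (fun _ => 0)
      (fun a c => ?_), Equiv.ext fun a => ?_⟩
    · show (0 : F) + sg F m (p.1 : F) * (p.1 : F) * fr F m p.2 (sg F m a * c) =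
        0 + 0 + sg F m ((p.1 : F) * fr F m p.2 a) * ((p.1 : F) * fr F m p.2 c)
      simp only [map_mul, fr_sg, sg_fr]
      ring
    · show cA _ a = _
      rw [cA, autOf_apply, uEquiv_symm]
      rfl
  have hbij : Function.Bijective v := by
    constructor
    · rintro ⟨l, i⟩ ⟨l', i'⟩ h
      have e : ∀ a, (l : F) * fr F m i a = (l' : F) * fr F m i' a := fun a =>
        Equiv.ext_iff.1 (congrArg Subtype.val h) a
      have hl : l = l' := Units.ext (by simpa using e 1)
      subst hl
      exact Prod.ext rfl (fr_injective (RingHom.ext fun a => mul_left_cancel₀ l.ne_zero (e a)))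
    · rintro ⟨_, α, rfl⟩
      obtain ⟨l, i, hl, hA⟩ := cA_semilinear α
      exact ⟨(Units.mk0 l hl, i), Subtype.ext (Equiv.ext fun a => (hA a).symm)⟩
  rw [← Nat.card_congr (Equiv.ofBijective v hbij), Nat.card_prod, Nat.card_units, Nat.card_fin,
    Nat.card_eq_fintype_card, hP.card, mul_comm]

theorem natCard_mulAut : Nat.card (MulAut (grpU F m)) =
    2 ^ ((2 * m + 1) * (2 * m + 1)) * ((2 * m + 1) * (2 ^ (2 * m + 1) - 1)) := by
  rw [← (psi F m).ker.card_mul_index, card_ker, Subgroup.index_ker, card_range]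

/-- The structure of the automorphism group of a group isomorphic to the translation group. -/
theorem aut_structure {S : Type*} [Group S] [Finite S] (e : grpU F m ≃* S) :
    Cfsg.IsElementaryAbelian 2 (Cfsg.pCore 2 (MulAut S)) ∧
      Nat.card ↥(Cfsg.pCore 2 (MulAut S)) = 2 ^ ((2 * m + 1) ^ 2) ∧
      Nat.card (MulAut S) = 2 ^ ((2 * m + 1) ^ 2) * ((2 * m + 1) * (2 ^ (2 * m + 1) - 1)) := by
  haveI : Fact (Nat.Prime 2) := ⟨Nat.prime_two⟩
  set Φ := MulAut.congr e
  set π : MulAut S →* Equiv.Perm F := (psi F m).comp Φ.symm.toMonoidHom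
  set K := π.ker with hKdef
  have hKmem : ∀ α, α ∈ K ↔ Φ.symm α ∈ (psi F m).ker := fun α => Iff.rfl
  have hKcard : Nat.card K = 2 ^ ((2 * m + 1) ^ 2) := by
    rw [pow_two, ← card_ker (F := F) (m := m)]
    exact Nat.card_congr (Φ.symm.toEquiv.subtypeEquiv fun α => hKmem α)
  have hKp : IsPGroup 2 K := IsPGroup.of_card hKcard
  have hodd : Odd ((2 * m + 1) * (2 ^ (2 * m + 1) - 1)) := by
    refine (odd_two_mul_add_one m).mul ?_
    rw [← hP.card]; exact odd_card_sub_one (F := F) (m := m)
  have hcore : Cfsg.pCore 2 (MulAut S) = K := by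
    refine le_antisymm (sSup_le ?_) (le_sSup ⟨MonoidHom.normal_ker π, hKp⟩)
    rintro N ⟨-, hN⟩ α hα
    obtain ⟨j, hj⟩ := IsPGroup.iff_orderOf.1 hN ⟨α, hα⟩
    rw [Subgroup.orderOf_mk] at hj
    rw [hKdef, MonoidHom.mem_ker]
    have h1 : orderOf (π α) ∣ 2 ^ j := hj ▸ orderOf_map_dvd π α
    have h2 : orderOf (π α) ∣ (2 * m + 1) * (2 ^ (2 * m + 1) - 1) := by
      rw [← card_range (F := F) (m := m)]
      exact Subgroup.orderOf_dvd_natCard _ ⟨Φ.symm α, rfl⟩
    exact orderOf_eq_one_iff.1 (Nat.eq_one_of_dvd_coprimes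
      (coprime_two_pow (F := F) (m := m) hodd) h2 h1)
  rw [hcore]
  refine ⟨⟨⟨⟨fun a b => Subtype.ext ?_⟩⟩, fun a ha => ?_⟩, hKcard, ?_⟩
  · exact Φ.symm.injective (by
      rw [Subgroup.coe_mul, Subgroup.coe_mul, map_mul, map_mul]
      exact (ker_elementary _ ((hKmem _).1 a.2)).2 _ ((hKmem _).1 b.2))
  · exact Φ.symm.injective (by rw [map_pow, map_one]; exact (ker_elementary _ ((hKmem a).1 ha)).1)
  · rw [← Nat.card_congr Φ.toEquiv, natCard_mulAut, pow_two]

end CfsgLib.Suzuki.SylowAut
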