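import Cfsg.Agent.Lib.Suzuki.Maximal
import Cfsg.Agent.Lib.Suzuki.SylowAut
import Cfsg.Prelude.Def_Transfer

/-!
# Elementary abelian TI subgroups of a Suzuki group
-/

set_option autoImplicit false
set_option linter.unusedSectionVars false

namespace CfsgLib.Suzuki

open MulAction

variable {F : Type*} [Field F] [Fintype F] [CharP F 2] {m : ℕ} [hP : Param F m]

include hP

variable (F m) in
/-- The parametrization of the central translations. -/
def zHom : Multiplicative F →* Gp F m where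
  toFun b := gT 0 b.toAdd
  map_one' := gT_zero
  map_mul' b d := by simp [gT_mul]

theorem zHom_injective : Function.Injective (zHom F m) := fun _ _ h => (gT_inj h).2

/-- The factor by which `gH t` acts on the central translations. -/
def zFac (t : Fˣ) : F := sg F m (t : F) * (t : F) ^ 2

theorem gH_conj_zero (t : Fˣ) (b : F) :
    gH t * gT (m := m) 0 b * (gH t)⁻¹ = gT 0 (zFac (m := m) t * b) := by
  rw [gH_conj_gT, mul_zero]; rfl

theorem zFac_surjective {k : F} (hk : k ≠ 0) : ∃ t : Fˣ, zFac (m := m) t = k := by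
  let f : Fˣ →* Fˣ := Units.map (sg F m : F →* F) * powMonoidHom 2
  have hinj : Function.Injective f := (injective_iff_map_eq_one f).2 fun t ht =>
    eq_one_of_sgsq (congrArg Units.val ht)
  obtain ⟨t, ht⟩ := Finite.injective_iff_surjective.1 hinj (Units.mk0 k hk)
  exact ⟨t, congrArg Units.val ht⟩

theorem sq_eq_one_grpU {u : Gp F m} (hu : u ∈ grpU F m) (h : u ^ 2 = 1) :
    ∃ b, u = gT 0 b := by
  obtain ⟨a, b, rfl⟩ := hu
  rw [pow_two, gT_sq] at h
  have ha := (gT_inj (h.trans gT_zero.symm)).2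
  refine ⟨b, ?_⟩
  rcases mul_eq_zero.1 ha with h0 | h0
  · rw [(map_eq_zero (sg F m)).1 h0]
  · rw [h0]

/-- A subfield gives a TI subgroup. -/
theorem exists_elem_TI {n : ℕ} (hn : n ∣ 2 * m + 1) :
    ∃ E : Subgroup (Gp F m), Cfsg.IsElementaryAbelian 2 E ∧ Nat.card E = 2 ^ n ∧
      ∀ x : Gp F m, E ⊓ E.map (MulAut.conj x).toMonoidHom ≠ ⊥ →
        x ∈ Subgroup.normalizer (E : Set (Gp F m)) := by
  have hn0 : n ≠ 0 := fun e => by rw [e, zero_dvd_iff] at hn; omega
  let _ : Algebra (ZMod 2) F := ZMod.algebra F 2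
  have hfr : Module.finrank (ZMod 2) F = 2 * m + 1 := by
    have h := Module.card_eq_pow_finrank (K := ZMod 2) (V := F)
    rw [ZMod.card, hP.card] at h
    exact (Nat.pow_right_injective le_rfl h).symm
  obtain ⟨φ⟩ : Nonempty (GaloisField 2 n →ₐ[ZMod 2] F) :=
    FiniteField.nonempty_algHom_of_finrank_dvd (by rw [GaloisField.finrank 2 hn0, hfr]; exact hn)
  let f : Multiplicative (GaloisField 2 n) →* Gp F m :=
    (zHom F m).comp (AddMonoidHom.toMultiplicative φ.toRingHom.toAddMonoidHom)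
  have hf : ∀ k, f (Multiplicative.ofAdd k) = gT 0 (φ k) := fun k => rfl
  have hfinj : Function.Injective f :=
    zHom_injective.comp φ.toRingHom.injective
  refine ⟨f.range, ⟨inferInstance, ?_⟩, ?_, ?_⟩
  · rintro _ ⟨k, rfl⟩
    obtain ⟨k, rfl⟩ := Multiplicative.ofAdd.surjective k
    rw [hf, pow_two, gT_sq]
    simp [gT_zero]
  · rw [← Nat.card_congr (MonoidHom.ofInjective hfinj).toEquiv,
      Nat.card_congr Multiplicative.toAdd, GaloisField.card 2 n hn0]
  intro x hx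
  obtain ⟨z, hz, hz1⟩ := (Subgroup.bot_or_exists_ne_one _).resolve_left hx
  obtain ⟨⟨k, rfl⟩, _, ⟨e, rfl⟩, he⟩ := Subgroup.mem_inf.1 hz
  obtain ⟨k, rfl⟩ := Multiplicative.ofAdd.surjective k
  obtain ⟨e, rfl⟩ := Multiplicative.ofAdd.surjective e
  rw [hf, hf] at he
  rw [hf] at hz1
  have he' : x * gT 0 (φ e) * x⁻¹ = gT 0 (φ k) := he
  have hxi : x • pinf F m = pinf F m := by
    refine grpU_fix (gT_mem 0 (φ k)) hz1 ?_
    rw [← he', mul_smul, mul_smul, inv_smul_smul, gT_smul_pinf]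
  obtain ⟨u, v, t, rfl⟩ := exists_eq_gT_mul_gH hxi
  have hact : ∀ b : F, gT u v * gH t * gT (m := m) 0 b * (gT u v * gH t)⁻¹ =
      gT 0 (zFac (m := m) t * b) := by
    intro b
    rw [show gT u v * gH t * gT (m := m) 0 b * (gT u v * gH t)⁻¹ =
      gT u v * (gH t * gT 0 b * (gH t)⁻¹) * (gT u v)⁻¹ by group, gH_conj_zero, gT_conj_gT]
    simp
  rw [hact] at he'
  have he2 := (gT_inj he').2
  have he0 : φ e ≠ 0 := fun h0 => hz1 (by rw [← he2, h0, mul_zero, gT_zero])
  have hc : zFac (m := m) t = φ (k / e) := by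
    rw [map_div₀, ← he2, mul_div_cancel_right₀ _ he0]
  refine Subgroup.mem_normalizer_fintype ?_
  rintro _ ⟨b, rfl⟩
  obtain ⟨b, rfl⟩ := Multiplicative.ofAdd.surjective b
  refine ⟨Multiplicative.ofAdd (k / e * b), ?_⟩
  rw [hf, hf, hact, hc, map_mul]

theorem dvd_of_elem_TI {n : ℕ} (hn : 2 ≤ n) {E : Subgroup (Gp F m)}
    (hE : Cfsg.IsElementaryAbelian 2 E) (hcard : Nat.card E = 2 ^ n)
    (hTI : ∀ x : Gp F m, E ⊓ E.map (MulAut.conj x).toMonoidHom ≠ ⊥ →
        x ∈ Subgroup.normalizer (E : Set (Gp F m))) : n ∣ 2 * m + 1 := by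
  classical
  have := Fact.mk Nat.prime_two
  obtain ⟨P, hP'⟩ := (IsPGroup.of_card (p := 2) (n := n) hcard).exists_le_sylow
  obtain ⟨g, hg⟩ := sylow_two_eq_conj P
  have hle : E ≤ (grpU F m).map (MulAut.conj g).toMonoidHom := hg ▸ hP'
  have hz : ∀ e ∈ E, ∃ b, e = g * gT (m := m) 0 b * g⁻¹ := by
    intro e he
    obtain ⟨u, hu, rfl⟩ := hle he
    have h2 := hE.2 _ he
    rw [MulEquiv.toMonoidHom_eq_coe, MonoidHom.coe_coe, ← map_pow,
      EmbeddingLike.map_eq_one_iff] at h2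
    obtain ⟨b, rfl⟩ := sq_eq_one_grpU hu h2
    exact ⟨b, rfl⟩
  let A : Set F := {b | g * gT (m := m) 0 b * g⁻¹ ∈ E}
  have hA : Nat.card A = 2 ^ n := by
    rw [← hcard]
    refine Nat.card_congr (Equiv.ofBijective (fun b => (⟨g * gT (m := m) 0 b.1 * g⁻¹, b.2⟩ : E))
      ⟨fun b d h => Subtype.ext ?_, fun e => ?_⟩)
    · have := congrArg Subtype.val h
      simp only [mul_left_inj, mul_right_inj] at this
      exact (gT_inj this).2
    · obtain ⟨b, hb⟩ := hz e e.2
      exact ⟨⟨b, show _ ∈ E from hb ▸ e.2⟩, Subtype.ext hb.symm⟩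
  have hA0 : (0 : F) ∈ A := by simp [A, gT_zero]
  obtain ⟨e0, he0, hne⟩ : ∃ e0 ∈ A, e0 ≠ 0 := by
    by_contra h
    push Not at h
    have : A = {0} := Set.eq_singleton_iff_unique_mem.2 ⟨hA0, h⟩
    rw [this, Nat.card_eq_fintype_card, Set.card_singleton] at hA
    have := Nat.one_lt_two_pow (show n ≠ 0 by omega)
    omega
  have hmul : ∀ k : F, k ≠ 0 → k * e0 ∈ A → ∀ a ∈ A, k * a ∈ A := by
    intro k hk hke a ha
    obtain ⟨t, ht⟩ := zFac_surjective (m := m) hk
    have hact : ∀ b, g * gH t * g⁻¹ * (g * gT (m := m) 0 b * g⁻¹) * (g * gH t * g⁻¹)⁻¹ =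
        g * gT 0 (k * b) * g⁻¹ := by
      intro b
      rw [← ht, ← gH_conj_zero]
      group
    have hx := hTI (g * gH t * g⁻¹) (by
      intro hbot
      have h1 : g * gT (m := m) 0 (k * e0) * g⁻¹ ∈
          E ⊓ E.map (MulAut.conj (g * gH t * g⁻¹)).toMonoidHom :=
        ⟨hke, ⟨_, he0, hact e0⟩⟩
      rw [hbot, Subgroup.mem_bot, conj_eq_one_iff] at h1
      exact mul_ne_zero hk hne (gT_inj (h1.trans gT_zero.symm)).2)
    have := (Subgroup.mem_normalizer_iff.1 hx _).1 ha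
    rw [hact] at this
    exact this
  let K : Submonoid Fˣ :=
    { carrier := {k | (k : F) * e0 ∈ A}
      one_mem' := by simpa using he0
      mul_mem' := fun {k l} hk hl => by
        show ((k * l : Fˣ) : F) * e0 ∈ A
        rw [Units.val_mul, mul_assoc]
        exact hmul k k.ne_zero hk _ hl }
  let K' : Subgroup Fˣ :=
    { K with
      inv_mem' := fun {k} hk => by
        obtain ⟨j, hj, hj'⟩ := (Submonoid.mem_powers_iff _ k).1
          ((mem_powers_iff_mem_zpowers).2 (inv_mem (Subgroup.mem_zpowers k))) |>.elim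
            fun j hj => (⟨j, pow_mem (show k ∈ K from hk) j, hj⟩ : ∃ j, k ^ j ∈ K ∧ k ^ j = k⁻¹)
        exact hj' ▸ hj }
  have hK : Nat.card K' + 1 = 2 ^ n := by
    have e : K' ≃ ↥(A \ {0}) :=
      { toFun := fun k => ⟨(k.1 : F) * e0, k.2, mul_ne_zero k.1.ne_zero hne⟩
        invFun := fun a => ⟨Units.mk0 (a.1 / e0) (div_ne_zero a.2.2 hne), by
          show a.1 / e0 * e0 ∈ A
          rw [div_mul_cancel₀ _ hne]; exact a.2.1⟩
        left_inv := fun k => Subtype.ext (Units.ext (mul_div_cancel_right₀ _ hne))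
        right_inv := fun a => Subtype.ext (div_mul_cancel₀ _ hne) }
    rw [Nat.card_congr e, Nat.card_coe_set_eq, Set.ncard_diff_singleton_add_one hA0,
      ← Nat.card_coe_set_eq, hA]
  have hdvd : 2 ^ n - 1 ∣ 2 ^ (2 * m + 1) - 1 := by
    have := K'.card_subgroup_dvd_card
    rw [Nat.card_units, Nat.card_eq_fintype_card (α := F), hP.card,
      show Nat.card K' = 2 ^ n - 1 by omega] at this
    exact this
  have hg2 := Nat.gcd_eq_left hdvd
  rw [Nat.pow_sub_one_gcd_pow_sub_one] at hg2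
  have hgn : Nat.gcd n (2 * m + 1) = n := by
    refine Nat.pow_right_injective le_rfl ?_
    have := Nat.two_pow_pos (Nat.gcd n (2 * m + 1))
    have := Nat.two_pow_pos n
    show 2 ^ Nat.gcd n (2 * m + 1) = 2 ^ n
    omega
  exact hgn ▸ Nat.gcd_dvd_right _ _

end CfsgLib.Suzuki
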