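import Cfsg.Agent.Lib.Suzuki.TorClasses

/-!
# The maximal subgroup containing a Sylow 2-subgroup of a Suzuki group
-/

set_option autoImplicit false
set_option linter.unusedSectionVars false

namespace CfsgLib.Suzuki

open MulAction

variable {F : Type*} [Field F] [Fintype F] [CharP F 2] {m : ℕ} [hP : Param F m]

include hP

/-- Every Sylow 2-subgroup is a conjugate of the translation group. -/
theorem sylow_two_eq_conj (P : Sylow 2 (Gp F m)) :
    ∃ g : Gp F m, (P : Subgroup (Gp F m)) = (grpU F m).map (MulAut.conj g).toMonoidHom := by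
  obtain ⟨g, hg⟩ := MulAction.exists_smul_eq (Gp F m) (sylowU F m) P
  refine ⟨g, ?_⟩
  rw [← hg]
  rfl

theorem sylow_unique_maximal (P : Sylow 2 (Gp F m)) :
    IsCoatom (Subgroup.normalizer ((P : Subgroup (Gp F m)) : Set (Gp F m))) ∧
    ∀ M : Subgroup (Gp F m), IsCoatom M → (P : Subgroup (Gp F m)) ≤ M →
      M = Subgroup.normalizer ((P : Subgroup (Gp F m)) : Set (Gp F m)) := by
  obtain ⟨g, hg⟩ := sylow_two_eq_conj P
  rw [hg, normalizer_conj_grpU]
  haveI : Nontrivial (Pts F m) := ⟨⟨pinf F m, paff 0 0, (paff_ne_pinf _ _).symm⟩⟩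
  haveI := isPreprimitive_of_is_two_pretransitive (two_transitive (F := F) (m := m))
  have hco : IsCoatom (stabilizer (Gp F m) (g • pinf F m)) :=
    IsPreprimitive.isCoatom_stabilizer_of_isPreprimitive _ _
  refine ⟨hco, fun M hM hle => ?_⟩
  by_cases hfix : M ≤ stabilizer (Gp F m) (g • pinf F m)
  · rcases eq_or_lt_of_le hfix with h | h
    · exact h
    · exact absurd (hM.2 _ h) hco.1
  exfalso
  obtain ⟨h, hhM, hh⟩ := SetLike.not_le_iff_exists.1 hfix
  have hh' : g⁻¹ • (h • g • pinf F m) ≠ pinf F m := fun e =>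
    hh (mem_stabilizer_iff.2 (inv_smul_eq_iff.1 e))
  have htrans : ∀ x : Gp F m, ∃ k ∈ M, k • g • pinf F m = x • g • pinf F m := by
    intro x
    by_cases hx : x • g • pinf F m = g • pinf F m
    · exact ⟨1, one_mem _, by rw [one_smul, hx]⟩
    obtain ⟨s, hs, -⟩ := grpU_regular hh' (q := g⁻¹ • x • g • pinf F m)
      (fun e => hx (inv_smul_eq_iff.1 e))
    refine ⟨g * (s : Gp F m) * g⁻¹ * h, mul_mem (hle ⟨s, s.2, rfl⟩) hhM, ?_⟩
    rw [mul_smul, mul_smul, mul_smul, hs, smul_inv_smul]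
  haveI := isSimpleGroup_gp (F := F) (m := m)
  set N := Subgroup.normalClosure
    (((grpU F m).map (MulAut.conj g).toMonoidHom : Subgroup (Gp F m)) : Set (Gp F m)) with hN
  have hNM : N ≤ M := by
    rw [hN, Subgroup.normalClosure]
    refine (Subgroup.closure_le _).2 fun y hy => ?_
    obtain ⟨u, hu, hc⟩ := Group.mem_conjugatesOfSet_iff.1 hy
    obtain ⟨x, rfl⟩ := isConj_iff.1 hc
    obtain ⟨k, hk, hkx⟩ := htrans x
    have hn : k⁻¹ * x ∈ Subgroup.normalizer
        (((grpU F m).map (MulAut.conj g).toMonoidHom : Subgroup (Gp F m)) : Set (Gp F m)) := by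
      rw [normalizer_conj_grpU, mem_stabilizer_iff, mul_smul, ← hkx, inv_smul_smul]
    have := hle ((Subgroup.mem_normalizer_iff.1 hn u).1 hu)
    have h2 := mul_mem (mul_mem hk this) (inv_mem hk)
    rwa [show k * (k⁻¹ * x * u * (k⁻¹ * x)⁻¹) * k⁻¹ = x * u * x⁻¹ by group] at h2
  rcases (inferInstance : N.Normal).eq_bot_or_eq_top with h0 | h0
  · have h1 : g * gT (m := m) (1 : F) 0 * g⁻¹ ∈ N :=
      Subgroup.subset_normalClosure ⟨gT 1 0, gT_mem _ _, rfl⟩
    rw [h0, Subgroup.mem_bot] at h1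
    exact gT_ne_one (m := m) (Or.inl one_ne_zero) (conj_eq_one_iff.1 h1)
  · exact hM.1 (top_le_iff.1 (h0 ▸ hNM))

end CfsgLib.Suzuki
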