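import Cfsg.Agent.Lib.Suzuki.Structure

/-!
# The subfield subgroups of a Suzuki group
-/

set_option autoImplicit false
set_option linter.unusedSectionVars false

namespace CfsgLib.Suzuki

open MulAction Matrix

variable {F : Type*} [Field F] [Fintype F] [CharP F 2] {m : ℕ} [hP : Param F m]

include hP

variable (F m) in
/-- The elements all of whose entries are fixed by `x ↦ x ^ 2 ^ n`. -/
def fieldSub (n : ℕ) : Subgroup (Gp F m) :=
  MonoidHom.eqLocus ((SpecialLinearGroup.map (iterateFrobenius F 2 n)).comp (Cfsg.Sz F m).subtype)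
    (Cfsg.Sz F m).subtype

theorem mem_fieldSub {n : ℕ} {g : Gp F m} :
    g ∈ fieldSub F m n ↔ ∀ i j, (g.1.1 i j) ^ 2 ^ n = g.1.1 i j := by
  constructor
  · intro h i j
    have e := congrArg (fun s : SpecialLinearGroup (Fin 4) F => s.1 i j)
      (show SpecialLinearGroup.map (iterateFrobenius F 2 n) g.1 = g.1 from h)
    rw [← iterateFrobenius_def]
    exact e
  · intro h
    show SpecialLinearGroup.map (iterateFrobenius F 2 n) g.1 = g.1
    ext i j
    show iterateFrobenius F 2 n (g.1.1 i j) = _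
    rw [iterateFrobenius_def, h i j]

theorem gT_mem_fieldSub {n : ℕ} {a b : F} (ha : a ^ 2 ^ n = a) (hb : b ^ 2 ^ n = b) :
    gT (m := m) a b ∈ fieldSub F m n := by
  show SpecialLinearGroup.map (iterateFrobenius F 2 n) (tr m a b) = tr m a b
  have ea : iterateFrobenius F 2 n a = a := by rw [iterateFrobenius_def, ha]
  have eb : iterateFrobenius F 2 n b = b := by rw [iterateFrobenius_def, hb]
  have es : iterateFrobenius F 2 n (sg F m a) = sg F m a := by
    rw [iterateFrobenius_def, ← map_pow, ha]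
  have eb' : iterateFrobenius F 2 n (sg F m b) = sg F m b := by
    rw [iterateFrobenius_def, ← map_pow, hb]
  ext i j
  show iterateFrobenius F 2 n (trMat m a b i j) = trMat m a b i j
  fin_cases i <;> fin_cases j <;> simp [trMat, ov, ea, eb, es, eb']

theorem gH_mem_fieldSub {n : ℕ} {t : Fˣ} (ht' : (t : F) ^ 2 ^ n = t) :
    gH (m := m) t ∈ fieldSub F m n := by
  show SpecialLinearGroup.map (iterateFrobenius F 2 n) (ht m t) = ht m t
  have ea : iterateFrobenius F 2 n (t : F) = t := by rw [iterateFrobenius_def, ht']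
  have es : iterateFrobenius F 2 n (sg F m (t : F)) = sg F m (t : F) := by
    rw [iterateFrobenius_def, ← map_pow, ht']
  ext i j
  show iterateFrobenius F 2 n (htMat m t i j) = htMat m t i j
  fin_cases i <;> fin_cases j <;> simp [htMat, ea, es]

theorem gW_mem_fieldSub (n : ℕ) : gW F m ∈ fieldSub F m n := by
  show SpecialLinearGroup.map (iterateFrobenius F 2 n) (ww F) = ww F
  ext i j
  show iterateFrobenius F 2 n ((ww F).1 i j) = (ww F).1 i j
  rw [coe_ww]
  fin_cases i <;> fin_cases j <;> simp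

theorem paff_coords {n : ℕ} {g : Gp F m} (hg : g ∈ fieldSub F m n) {x y : F}
    (h : g • pinf F m = paff x y) : x ^ 2 ^ n = x ∧ y ^ 2 ^ n = y := by
  obtain ⟨c, hc, e⟩ := smul_eq_mk_imp g.1 _ _ (congrArg Subtype.val h :
    g.1 • Cfsg.suzukiPointInfinity F = pt m x y)
  have hcol : ∀ i, g.1.1 i 0 = c * vec m x y i := fun i => by
    simpa [mulVec, dotProduct, Fin.sum_univ_four] using congrFun e i
  have h3 : g.1.1 3 0 = c := by simpa [vec] using hcol 3
  have hf := mem_fieldSub.1 hg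
  constructor
  · have h2 : g.1.1 2 0 = c * x := by simpa [vec] using hcol 2
    have := hf 2 0
    rw [h2, mul_pow, ← h3, hf 3 0, h3] at this
    exact mul_left_cancel₀ hc this
  · have h1 : g.1.1 1 0 = c * y := by simpa [vec] using hcol 1
    have := hf 1 0
    rw [h1, mul_pow, ← h3, hf 3 0, h3] at this
    exact mul_left_cancel₀ hc this

theorem borel_coords {n : ℕ} {a b : F} {t : Fˣ}
    (hg : gT (m := m) a b * gH t ∈ fieldSub F m n) :
    a ^ 2 ^ n = a ∧ b ^ 2 ^ n = b ∧ (t : F) ^ 2 ^ n = t := by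
  have hf := mem_fieldSub.1 hg
  have e : ∀ i j, (gT (m := m) a b * gH t).1.1 i j = (trMat m a b * htMat m t) i j := fun i j => rfl
  simp only [e, htMat, mul_diagonal] at hf
  have ht' : (t : F) ^ 2 ^ n = t := by simpa [trMat] using hf 1 1
  have ht0 : (t : F) ≠ 0 := t.ne_zero
  have hs : sg F m (t : F) ≠ 0 := (map_ne_zero (sg F m)).2 ht0
  refine ⟨?_, ?_, ht'⟩
  · have := hf 0 1
    simp [trMat, mul_pow, ht'] at this
    exact this
  · have := hf 1 3
    simp [trMat, mul_pow, ht', hs, ← map_pow] at this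
    exact this

/-! ### The embedding of the smaller Suzuki group -/

section Emb

variable {K : Type*} [Field K] [Fintype K] [CharP K 2] {k : ℕ} [hK : Param K k]

include hK

/-- The embedding into the special linear group over the larger field. -/
def embSL (φ : K →+* F) : Gp K k →* SpecialLinearGroup (Fin 4) F :=
  (SpecialLinearGroup.map φ).comp (Cfsg.Sz K k).subtype

variable (φ : K →+* F) (hφ : ∀ x, φ (sg K k x) = sg F m (φ x))

include hφ

theorem embSL_gT (a b : K) : embSL φ (gT (m := k) a b) = (gT (m := m) (φ a) (φ b)).1 := by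
  ext i j
  show φ (trMat k a b i j) = trMat m (φ a) (φ b) i j
  fin_cases i <;> fin_cases j <;> simp [trMat, ov, hφ]

theorem embSL_gH (t : Kˣ) : embSL φ (gH (m := k) t) = (gH (m := m) (Units.map (φ : K →* F) t)).1 := by
  ext i j
  show φ (htMat k t i j) = htMat m (Units.map (φ : K →* F) t) i j
  fin_cases i <;> fin_cases j <;> simp [htMat, hφ]

theorem embSL_gW : embSL φ (gW K k) = (gW F m).1 := by
  ext i j
  show φ ((ww K).1 i j) = (ww F).1 i j
  rw [coe_ww, coe_ww]
  fin_cases i <;> fin_cases j <;> simp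

theorem embSL_mem (g : Gp K k) : embSL φ g ∈ Cfsg.Sz F m := by
  have h : (⊤ : Subgroup (Gp K k)) ≤ (Cfsg.Sz F m).comap (embSL φ) := by
    rw [← closure_eq_top]
    refine sup_le (sup_le ?_ ?_) (Subgroup.zpowers_le.2 ?_)
    · rintro _ ⟨a, b, rfl⟩
      rw [Subgroup.mem_comap, embSL_gT φ hφ]
      exact Subtype.mem _
    · rintro _ ⟨t, rfl⟩
      rw [Subgroup.mem_comap, embSL_gH φ hφ]
      exact Subtype.mem _
    · rw [Subgroup.mem_comap, embSL_gW φ hφ]
      exact Subtype.mem _
  exact h (Subgroup.mem_top g)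

/-- The embedding of the smaller Suzuki group. -/
def emb : Gp K k →* Gp F m := (embSL φ).codRestrict _ (embSL_mem φ hφ)

theorem emb_gT (a b : K) : emb φ hφ (gT (m := k) a b) = gT (φ a) (φ b) := Subtype.ext (embSL_gT φ hφ a b)

theorem emb_gH (t : Kˣ) : emb φ hφ (gH (m := k) t) = gH (Units.map (φ : K →* F) t) :=
  Subtype.ext (embSL_gH φ hφ t)

theorem emb_gW : emb φ hφ (gW K k) = gW F m := Subtype.ext (embSL_gW φ hφ)

theorem emb_injective : Function.Injective (emb φ hφ) := fun g h e => by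
  refine Subtype.ext (Subtype.ext (funext fun i => funext fun j => φ.injective ?_))
  exact congrArg (fun s : Gp F m => s.1.1 i j) e

theorem range_emb {n : ℕ} (hn : ∀ x : F, x ^ 2 ^ n = x ↔ x ∈ Set.range φ) :
    (emb φ hφ).range = fieldSub F m n := by
  refine le_antisymm ?_ fun g hg => ?_
  · rintro _ ⟨g, rfl⟩
    exact mem_fieldSub.2 fun i j => (hn _).2 ⟨g.1.1 i j, rfl⟩
  have hT : ∀ {a b : F}, a ^ 2 ^ n = a → b ^ 2 ^ n = b → gT (m := m) a b ∈ (emb φ hφ).range := by
    intro a b ha hb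
    obtain ⟨a', rfl⟩ := (hn a).1 ha
    obtain ⟨b', rfl⟩ := (hn b).1 hb
    exact ⟨gT a' b', emb_gT φ hφ a' b'⟩
  have hH : ∀ {t : Fˣ}, (t : F) ^ 2 ^ n = t → gH (m := m) t ∈ (emb φ hφ).range := by
    intro t ht'
    obtain ⟨t', e⟩ := (hn t).1 ht'
    have h0 : t' ≠ 0 := fun h => t.ne_zero (by rw [← e, h, map_zero])
    refine ⟨gH (Units.mk0 t' h0), ?_⟩
    rw [emb_gH]
    exact congrArg gH (Units.ext e)
  have hstab : ∀ g : Gp F m, g ∈ fieldSub F m n → g • pinf F m = pinf F m →
      g ∈ (emb φ hφ).range := by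
    intro g hg hgi
    obtain ⟨a, b, t, rfl⟩ := exists_eq_gT_mul_gH hgi
    obtain ⟨ha, hb, ht'⟩ := borel_coords hg
    exact mul_mem (hT ha hb) (hH ht')
  rcases pts_cases (g • pinf F m) with h | ⟨x, y, h⟩
  · exact hstab g hg h
  obtain ⟨hx, hy⟩ := paff_coords hg h
  have hW : gW F m ∈ (emb φ hφ).range := ⟨gW K k, emb_gW φ hφ⟩
  have h' := hstab (gW F m * (gT x y)⁻¹ * g)
    (mul_mem (mul_mem (gW_mem_fieldSub n) (inv_mem (gT_mem_fieldSub hx hy))) hg) (by
      rw [mul_smul, mul_smul, h, show paff (m := m) x y = gT (m := m) x y • paff (m := m) (0 : F) 0 by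
        simp [gT_smul_paff], inv_smul_smul, gW_smul_zero])
  have := mul_mem (mul_mem (hT hx hy) hW) h'
  rwa [show gT (m := m) x y * gW F m * (gW F m * (gT x y)⁻¹ * g) =
    gT x y * (gW F m * gW F m) * (gT x y)⁻¹ * g by group, gW_mul_self, mul_one, mul_inv_cancel,
    one_mul] at this

end Emb

theorem sg_compat {K : Type*} [Field K] [Fintype K] [CharP K 2] {k : ℕ}
    (hK : Fintype.card K = 2 ^ (2 * k + 1)) (hdiv : 2 * k + 1 ∣ 2 * m + 1) (φ : K →+* F) (x : K) :
    φ (sg K k x) = sg F m (φ x) := by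
  obtain ⟨d, hd⟩ := hdiv
  obtain ⟨j, rfl⟩ : Odd d := (Nat.odd_mul.1 (hd ▸ ⟨m, rfl⟩ : Odd ((2 * k + 1) * d))).2
  have hm : m + 1 = (2 * k + 1) * j + (k + 1) := by linarith
  rw [sg_def, sg_def, ← map_pow, hm, show (2 : ℕ) ^ ((2 * k + 1) * j + (k + 1)) =
    Fintype.card K ^ j * 2 ^ (k + 1) by rw [hK, pow_add, pow_mul], pow_mul,
    FiniteField.pow_card_pow]

theorem exists_ringHom (K : Type*) [Field K] [Fintype K] [CharP K 2] {k : ℕ}
    (hK : Fintype.card K = 2 ^ (2 * k + 1)) (hdiv : 2 * k + 1 ∣ 2 * m + 1) :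
    ∃ φ : K →+* F, ∀ x : F, x ^ 2 ^ (2 * k + 1) = x ↔ x ∈ Set.range φ := by
  classical
  let _ : Algebra (ZMod 2) F := ZMod.algebra F 2
  let _ : Algebra (ZMod 2) K := ZMod.algebra K 2
  have hK' : Module.finrank (ZMod 2) K = 2 * k + 1 := by
    have h := Module.card_eq_pow_finrank (K := ZMod 2) (V := K)
    rw [ZMod.card, hK] at h
    exact (Nat.pow_right_injective le_rfl h).symm
  have hF' : Module.finrank (ZMod 2) F = 2 * m + 1 := by
    have h := Module.card_eq_pow_finrank (K := ZMod 2) (V := F)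
    rw [ZMod.card, hP.card] at h
    exact (Nat.pow_right_injective le_rfl h).symm
  obtain ⟨φ⟩ : Nonempty (K →ₐ[ZMod 2] F) :=
    FiniteField.nonempty_algHom_of_finrank_dvd (by rw [hK', hF']; exact hdiv)
  refine ⟨φ.toRingHom, fun x => ⟨fun hx => ?_, ?_⟩⟩
  · have h1 : 1 < 2 ^ (2 * k + 1) := Nat.one_lt_two_pow (by omega)
    have hne := FiniteField.X_pow_card_sub_X_ne_zero F (p := 2 ^ (2 * k + 1)) h1
    have hsub : Finset.univ.image φ.toRingHom ⊆
        (Polynomial.X ^ 2 ^ (2 * k + 1) - Polynomial.X : Polynomial F).roots.toFinset := by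
      intro y hy
      obtain ⟨a, -, rfl⟩ := Finset.mem_image.1 hy
      rw [Multiset.mem_toFinset, Polynomial.mem_roots hne]
      simp [← map_pow, ← hK, FiniteField.pow_card]
    have hcard : (Polynomial.X ^ 2 ^ (2 * k + 1) - Polynomial.X : Polynomial F).roots.toFinset.card ≤
        (Finset.univ.image φ.toRingHom).card := by
      rw [Finset.card_image_of_injective _ φ.toRingHom.injective, Finset.card_univ, hK]
      refine (Multiset.toFinset_card_le _).trans ((Polynomial.card_roots' _).trans ?_)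
      rw [FiniteField.X_pow_card_sub_X_natDegree_eq F h1]
    have := Finset.eq_of_subset_of_card_le hsub hcard
    have hxm : x ∈ (Polynomial.X ^ 2 ^ (2 * k + 1) - Polynomial.X : Polynomial F).roots.toFinset := by
      rw [Multiset.mem_toFinset, Polynomial.mem_roots hne]
      simp [hx]
    rw [← this] at hxm
    obtain ⟨a, -, ha⟩ := Finset.mem_image.1 hxm
    exact ⟨a, ha⟩
  · rintro ⟨a, rfl⟩
    rw [← map_pow, ← hK, FiniteField.pow_card]

/-- The subfield subgroup is a Suzuki group. -/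
theorem nonempty_fieldSub_equiv (K : Type*) [Field K] [Fintype K] [CharP K 2] {k : ℕ}
    [hK : Param K k] (hdiv : 2 * k + 1 ∣ 2 * m + 1) :
    Nonempty (↥(fieldSub F m (2 * k + 1)) ≃* Gp K k) := by
  obtain ⟨φ, hn⟩ := exists_ringHom (F := F) (m := m) K hK.card hdiv
  have hφ := sg_compat (F := F) (m := m) hK.card hdiv φ
  exact ⟨(((MonoidHom.ofInjective (emb_injective φ hφ))).trans
    (MulEquiv.subgroupCongr (range_emb φ hφ hn))).symm⟩

end CfsgLib.Suzuki
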