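import Cfsg.Agent.Lib.Suzuki.Partition
import Cfsg.Agent.Lib.Suzuki.ElemTI

/-!
# Counting the elements of a subgroup of a Suzuki group by tori and Sylow 2-subgroups
-/

set_option autoImplicit false
set_option linter.unusedSectionVars false

namespace CfsgLib.Suzuki

open MulAction

/-! ### General facts -/

/-- The order of a free invariant set is divisible by the order of the group. -/
theorem card_dvd_of_free {G α : Type*} [Group G] [Finite G] [MulAction G α] [Finite α] (Y : Set α)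
    (hinv : ∀ g : G, ∀ y ∈ Y, g • y ∈ Y) (hfree : ∀ g : G, ∀ y ∈ Y, g • y = y → g = 1) :
    Nat.card G ∣ Y.ncard := by
  classical
  let p : SubMulAction G α := ⟨Y, fun g {y} hy => hinv g y hy⟩
  have hs : ∀ y : p, stabilizer G y = ⊥ := fun y => (Subgroup.eq_bot_iff_forall _).2 fun g hg =>
    hfree g y.1 y.2 (congrArg Subtype.val (mem_stabilizer_iff.1 hg))
  rw [← Nat.card_coe_set_eq]
  show Nat.card G ∣ Nat.card p
  refine ⟨Nat.card (MulAction.orbitRel.Quotient G p), ?_⟩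
  rw [mul_comm, ← Nat.card_prod]
  exact Nat.card_congr (MulAction.selfEquivOrbitsQuotientProd hs)

/-- Intersecting with a subgroup a normal pair of index `n`. -/
theorem exists_card_inf_eq {G : Type*} [Group G] [Finite G] (M : Subgroup G) {N P : Subgroup G}
    (hNP : N ≤ P) (hn : ∀ a ∈ P, ∀ c ∈ N, a * c * a⁻¹ ∈ N) {n : ℕ}
    (hcard : Nat.card P = n * Nat.card N) :
    ∃ e, e ∣ n ∧ Nat.card ↥(M ⊓ P) = e * Nat.card ↥(M ⊓ N) := by
  haveI : (N.subgroupOf P).Normal := ⟨fun c hc a => hn a a.2 c hc⟩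
  have hidx : (N.subgroupOf P).index = n := by
    have := (N.subgroupOf P).card_mul_index
    rw [Nat.card_congr (Subgroup.subgroupOfEquivOfLe hNP).toEquiv, hcard, mul_comm] at this
    exact Nat.eq_of_mul_eq_mul_right Nat.card_pos this
  refine ⟨N.relIndex (M ⊓ P), ?_, ?_⟩
  · rw [← hidx, ← Subgroup.relIndex_subgroupOf (inf_le_right : M ⊓ P ≤ P)]
    exact Subgroup.relIndex_dvd_index_of_normal _ _
  · have h := (N.subgroupOf (M ⊓ P)).card_mul_index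
    have e : M ⊓ N = N ⊓ (M ⊓ P) := le_antisymm
      (le_inf inf_le_right (le_inf inf_le_left (inf_le_right.trans hNP)))
      (le_inf (inf_le_right.trans inf_le_left) inf_le_left)
    have e2 : Nat.card ↥(N.subgroupOf (M ⊓ P)) = Nat.card ↥(M ⊓ N) := by
      rw [e, ← Subgroup.inf_subgroupOf_right]
      exact Nat.card_congr (Subgroup.subgroupOfEquivOfLe inf_le_right).toEquiv
    rw [← h, e2, mul_comm]
    rfl

section Cls

variable {G : Type*} [Group G]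

/-- The nontrivial elements of `M` with a `M`-conjugate in `E`. -/
def cls (M E : Subgroup G) : Set G := {y | y ∈ M ∧ y ≠ 1 ∧ ∃ c ∈ M, c * y * c⁻¹ ∈ E}

theorem cls_subset (M E : Subgroup G) : cls M E ⊆ (M : Set G) \ {1} := fun _ h => ⟨h.1, h.2.1⟩

theorem mem_cls_self {M E : Subgroup G} {y : G} (hM : y ∈ M) (h1 : y ≠ 1) (hE : y ∈ E) :
    y ∈ cls M E := ⟨hM, h1, 1, one_mem M, by simpa using hE⟩

/-- The elements of a set inside a subgroup, counted in the subgroup. -/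
theorem ncard_coe_preimage (M : Subgroup G) {A : Set G} (hA : A ⊆ M) :
    {y : M | (y : G) ∈ A}.ncard = A.ncard := by
  rw [← Set.ncard_image_of_injective _ Subtype.val_injective]
  congr 1
  ext y
  exact ⟨fun ⟨z, hz, e⟩ => e ▸ hz, fun h => ⟨⟨y, hA h⟩, h, rfl⟩⟩

theorem card_conj_set [Finite G] (M : Subgroup G) (E : Set G) (hE : E ⊆ M) (P : Subgroup G)
    (hnorm : ∀ h ∈ M, h ∈ P → ∀ g ∈ E, h * g * h⁻¹ ∈ E)
    (hTI : ∀ h ∈ M, ∀ g ∈ E, h * g * h⁻¹ ∈ E → h ∈ P) :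
    {y | y ∈ M ∧ ∃ c ∈ M, c * y * c⁻¹ ∈ E}.ncard * Nat.card ↥(M ⊓ P) =
      Nat.card M * E.ncard := by
  have h := CfsgLib.Ree.ReeData.card_conj_elems (G := M)
    {y : M | (y : G) ∈ {y | y ∈ M ∧ ∃ c ∈ M, c * y * c⁻¹ ∈ E}} {y : M | (y : G) ∈ E}
    (P.subgroupOf M) ?_ (fun h hh g hg => hnorm h h.2 hh g hg)
    (fun h g hg hhg => hTI h h.2 g hg hhg)
  · rwa [ncard_coe_preimage M (A := {y | y ∈ M ∧ ∃ c ∈ M, c * y * c⁻¹ ∈ E}) (fun y hy => hy.1),
      ncard_coe_preimage M hE,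
      ← Subgroup.inf_subgroupOf_right, inf_comm,
      Nat.card_congr (Subgroup.subgroupOfEquivOfLe inf_le_left).toEquiv] at h
  · ext y
    exact ⟨fun ⟨_, c, hc, h⟩ => ⟨⟨c, hc⟩, h⟩, fun ⟨c, h⟩ => ⟨y.2, c, c.2, h⟩⟩

theorem card_cls [Finite G] (M E P : Subgroup G)
    (hnorm : ∀ h ∈ M, h ∈ P → ∀ g ∈ E, h * g * h⁻¹ ∈ E)
    (hTI : ∀ h ∈ M, ∀ g ∈ E, g ≠ 1 → h * g * h⁻¹ ∈ E → h ∈ P) :
    (cls M E).ncard * Nat.card ↥(M ⊓ P) = Nat.card M * (Nat.card ↥(M ⊓ E) - 1) := by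
  have h := card_conj_set M (((M ⊓ E : Subgroup G) : Set G) \ {1}) (fun y hy => hy.1.1) P
    (fun h hh hhP g hg => ⟨⟨M.mul_mem (M.mul_mem hh hg.1.1) (M.inv_mem hh), hnorm h hh hhP g hg.1.2⟩,
      fun e => hg.2 (conj_eq_one_iff.1 e)⟩)
    (fun h hh g hg hhg => hTI h hh g hg.1.2 hg.2 hhg.1.2)
  rw [Set.ncard_sdiff_singleton_of_mem (show (1 : G) ∈ ((M ⊓ E : Subgroup G) : Set G) from one_mem _),
    ← Nat.card_coe_set_eq ((M ⊓ E : Subgroup G) : Set G)] at h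
  rw [show Nat.card ↥(M ⊓ E) = Nat.card ↑((M ⊓ E : Subgroup G) : Set G) from rfl]
  convert h using 3
  ext y
  constructor
  · rintro ⟨hy, h1, c, hc, hcE⟩
    exact ⟨hy, c, hc, ⟨M.mul_mem (M.mul_mem hc hy) (M.inv_mem hc), hcE⟩, fun e => h1 (conj_eq_one_iff.1 e)⟩
  · rintro ⟨hy, c, hc, ⟨⟨-, hcE⟩, hne⟩⟩
    exact ⟨hy, fun e => hne (by simp [e]), c, hc, hcE⟩

end Cls

variable {F : Type*} [Field F] [Fintype F] [CharP F 2] {m : ℕ} [hP : Param F m]

include hP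

theorem not_three_dvd (M : Subgroup (Gp F m)) : ¬ 3 ∣ Nat.card M := by
  intro h
  have h3 := h.trans M.card_subgroup_dvd_card
  rw [natCard_group, hP.card] at h3
  have hq : 2 ^ (2 * m + 1) % 3 = 2 := by
    rw [pow_succ, pow_mul, Nat.mul_mod, Nat.pow_mod]; norm_num
  generalize hQ : 2 ^ (2 * m + 1) = q at h3 hq
  obtain ⟨a, rfl⟩ : ∃ a, q = 3 * a + 2 := ⟨q / 3, by omega⟩
  rcases (Nat.Prime.dvd_mul Nat.prime_three).1 h3 with h4 | h4
  · rcases (Nat.Prime.dvd_mul Nat.prime_three).1 h4 with h5 | h5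
    · have := Nat.prime_three.dvd_of_dvd_pow h5; omega
    · rw [show (3 * a + 2) ^ 2 + 1 = 3 * (3 * a * a + 4 * a + 1) + 2 by ring] at h5; omega
  · omega

/-- A maximal torus with index `n` in its normalizer. -/
structure IsTorus (T : Subgroup (Gp F m)) (n : ℕ) : Prop where
  tor : Tor T n
  maxNil : IsMaxNil F m T
  split : n = 2 → Nat.card T = Fintype.card F - 1
  nonsplit : n = 4 → Nat.card T ∣ Fintype.card F ^ 2 + 1

theorem isTorus_grpH : IsTorus (grpH F m) 2 where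
  tor := tor_grpH
  maxNil := Or.inr (Or.inl ⟨1, by ext; rw [mem_map_conj]; simp⟩)
  split := fun _ => natCard_grpH
  nonsplit := by omega

theorem IsTorus.cyclic {T : Subgroup (Gp F m)} {n : ℕ} (h : IsTorus T n) :
    IsCyclic T ∧ Nat.card T ∈ torusOrders m := by
  refine (isMaxNil_cases h.maxNil).resolve_left fun ⟨P, hP'⟩ => ?_
  obtain ⟨g, hg⟩ := sylow_two_eq_conj P
  have ho := h.tor.odd
  rw [hP', hg, Subgroup.card_map_of_injective (f := (MulAut.conj g).toMonoidHom)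
    (MulAut.conj g).injective, natCard_grpU, hP.card, ← pow_mul] at ho
  exact Nat.not_even_iff_odd.2 ho ((Nat.even_pow' (by omega)).2 even_two)

/-- An element outside the Sylow 2-subgroups lies in a torus. -/
theorem exists_isTorus {y : Gp F m} (h1 : y ≠ 1)
    (hU : ¬ ∃ g : Gp F m, g * y * g⁻¹ ∈ grpU F m) : ∃ T n, IsTorus T n ∧ y ∈ T := by
  obtain ⟨X, hX, hyX⟩ := exists_maxNil h1
  rcases id hX with ⟨g, rfl⟩ | ⟨g, rfl⟩ | ⟨x, hx, rfl⟩
  · exact absurd ⟨g⁻¹, by simpa using mem_map_conj.1 hyX⟩ hU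
  · refine ⟨_, 2, ⟨(tor_grpH (F := F) (m := m)).map_conj g, hX, fun _ => ?_, by omega⟩, hyX⟩
    rw [Subgroup.card_map_of_injective (f := (MulAut.conj g).toMonoidHom) (MulAut.conj g).injective,
      natCard_grpH]
  · obtain ⟨A, B, hA, hB, -, -, -, -, -, hconj, -⟩ := exists_tor_reps (F := F) (m := m)
    refine ⟨_, 4, ⟨?_, hX, by omega, fun _ => hx.card_cent_dvd⟩, hyX⟩
    rcases hconj x hx with ⟨g, hg⟩ | ⟨g, hg⟩
    · rw [hg]; exact hA.map_conj g
    · rw [hg]; exact hB.map_conj g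

variable (M : Subgroup (Gp F m))

theorem torus_cls_TI {T : Subgroup (Gp F m)} {n : ℕ} (hT : Tor T n) {c u : Gp F m} (hu : u ∈ T)
    (h1 : u ≠ 1) (hc : c * u * c⁻¹ ∈ T) : c ∈ Subgroup.normalizer (T : Set (Gp F m)) := by
  have e : T.map (MulAut.conj c).toMonoidHom = T :=
    Tor.eq_of_mem (hT.map_conj c) hT ⟨u, hu, rfl⟩ hc (conj_ne_one (F := F) (m := m) h1 c)
  refine Subgroup.mem_normalizer_fintype fun d hd => ?_
  have : c * d * c⁻¹ ∈ T.map (MulAut.conj c).toMonoidHom := ⟨d, hd, rfl⟩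
  rwa [e] at this

/-- The class of a torus meeting `M`. -/
theorem torus_class {T : Subgroup (Gp F m)} {n : ℕ} (hT : IsTorus T n)
    (hne : ∃ y ∈ M, y ∈ T ∧ y ≠ 1) :
    ∃ e x, e ∣ n ∧ x = Nat.card ↥(M ⊓ T) ∧ 5 ≤ x ∧ x ∣ Nat.card T ∧
      Nat.card ↥(M ⊓ Subgroup.normalizer (T : Set (Gp F m))) = e * x ∧
      (cls M T).ncard * (e * x) = Nat.card M * (x - 1) := by
  obtain ⟨e, he, hcard⟩ := exists_card_inf_eq M (Subgroup.le_normalizer (H := T))
    (fun a ha c hc => (Subgroup.mem_normalizer_iff.1 ha c).1 hc) hT.tor.card_normalizer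
  refine ⟨e, _, he, rfl, ?_, Subgroup.card_dvd_of_le inf_le_right, hcard, ?_⟩
  · obtain ⟨y, hyM, hyT, hy1⟩ := hne
    have h2 : 1 < Nat.card ↥(M ⊓ T) := Finite.one_lt_card_iff_nontrivial.2
      ⟨⟨⟨y, hyM, hyT⟩, 1, fun h => hy1 (congrArg Subtype.val h)⟩⟩
    have hodd : Odd (Nat.card ↥(M ⊓ T)) :=
      hT.tor.odd.of_dvd_nat (Subgroup.card_dvd_of_le inf_le_right)
    have h3 := not_three_dvd (M ⊓ T)
    rcases hodd with ⟨j, hj⟩
    omega
  · rw [← hcard]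
    exact card_cls M T _ (fun h _ hh g hg => (Subgroup.mem_normalizer_iff.1 hh g).1 hg)
      fun h _ g hg h1 hhg => torus_cls_TI hT.tor hg h1 hhg

/-- A torus through an element outside the class of another has a disjoint class. -/
theorem cls_disjoint {T T' : Subgroup (Gp F m)} {n n' : ℕ} (hT : Tor T n) (hT' : Tor T' n')
    {y : Gp F m} (hyM : y ∈ M) (hy1 : y ≠ 1) (hy : y ∈ T') (hnot : y ∉ cls M T) :
    Disjoint (cls M T) (cls M T') := by
  rw [Set.disjoint_left]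
  rintro z ⟨hz, hz1, c, hc, hcz⟩ ⟨-, -, d, hd, hdz⟩
  refine hnot ⟨hyM, hy1, c * d⁻¹, mul_mem hc (inv_mem hd), ?_⟩
  have hmem : c * z * c⁻¹ ∈ T'.map (MulAut.conj (c * d⁻¹)).toMonoidHom :=
    ⟨d * z * d⁻¹, hdz, show c * d⁻¹ * (d * z * d⁻¹) * (c * d⁻¹)⁻¹ = _ by group⟩
  rw [Tor.eq_of_mem hT (hT'.map_conj _) hcz hmem (conj_ne_one (F := F) (m := m) hz1 c)]
  exact ⟨y, hy, rfl⟩

/-- If `M` meets `U`, its elements in conjugates of `U` are conjugate in `M` into `U`. -/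
theorem mem_cls_grpU {x : Gp F m} (hxM : x ∈ M) (hxU : x ∈ grpU F m) (hx1 : x ≠ 1) {y g : Gp F m}
    (hy : y ∈ M) (hy1 : y ≠ 1) (hg : g * y * g⁻¹ ∈ grpU F m) : y ∈ cls M (grpU F m) := by
  haveI := Fact.mk Nat.prime_two
  refine ⟨hy, hy1, ?_⟩
  have hpU : IsPGroup 2 ↥(grpU F m) :=
    IsPGroup.of_card (n := (2 * m + 1) * 2) (by rw [natCard_grpU, hP.card, ← pow_mul])
  obtain ⟨Q, hQ⟩ := (show IsPGroup 2 ↥((grpU F m).subgroupOf M) from
    hpU.comap_of_injective M.subtype M.subtype_injective).exists_le_sylow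
  have hQU : (Q : Subgroup M).map M.subtype ≤ grpU F m :=
    twoGroup_le_grpU hxU hx1 (Q.isPGroup'.map M.subtype) ⟨⟨x, hxM⟩, hQ hxU, rfl⟩
  have hyp : IsPGroup 2 ↥(Subgroup.zpowers (⟨y, hy⟩ : M)) := by
    refine IsPGroup.of_equiv ?_ (Subgroup.equivMapOfInjective _ M.subtype M.subtype_injective).symm
    refine IsPGroup.to_le (hpU.comap_of_injective (MulAut.conj g).toMonoidHom (MulAut.conj g).injective) ?_
    rw [MonoidHom.map_zpowers, Subgroup.zpowers_le]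
    exact hg
  obtain ⟨R, hR⟩ := hyp.exists_le_sylow
  obtain ⟨k, hk⟩ := MulAction.exists_smul_eq M R Q
  refine ⟨k, k.2, hQU ⟨k * ⟨y, hy⟩ * k⁻¹, ?_, rfl⟩⟩
  rw [SetLike.mem_coe, ← hk]
  exact Subgroup.smul_mem_pointwise_smul _ (MulAut.conj k) _ (hR (Subgroup.mem_zpowers _))

theorem card_cls_grpU :
    (cls M (grpU F m)).ncard * Nat.card ↥(M ⊓ stabilizer (Gp F m) (pinf F m)) =
      Nat.card M * (Nat.card ↥(M ⊓ grpU F m) - 1) :=
  card_cls M _ _ (fun h _ hh g hg => grpU_conj_mem hg (mem_stabilizer_iff.1 hh))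
    fun h _ g hg h1 hhg => mem_stabilizer_iff.2
      (grpU_fix hhg (conj_ne_one (F := F) (m := m) h1 h) (by
        obtain ⟨a, b, rfl⟩ := hg
        rw [mul_smul, mul_smul, inv_smul_smul, gT_smul_pinf]))

theorem cls_grpU_disjoint {T : Subgroup (Gp F m)} {n : ℕ} (hT : Tor T n) :
    Disjoint (cls M (grpU F m)) (cls M T) := by
  rw [Set.disjoint_left]
  rintro z ⟨-, hz1, c, -, hcz⟩ ⟨-, -, d, -, hdz⟩
  have h2 : orderOf z ∣ Fintype.card F ^ 2 := by
    rw [← CfsgLib.Ree.orderOf_conj' c z, ← natCard_grpU (F := F) (m := m)]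
    exact Subgroup.orderOf_dvd_natCard _ hcz
  have hodd : Odd (orderOf z) := CfsgLib.Ree.orderOf_conj' d z ▸ hT.odd_order hdz
  rw [hP.card, ← pow_mul] at h2
  exact hz1 (orderOf_eq_one_iff.1
    (Nat.eq_one_of_dvd_coprimes (coprime_two_pow (F := F) (m := m) hodd) dvd_rfl h2))

end CfsgLib.Suzuki
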