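import Cfsg.Agent.Lib.Suzuki.ClassSquare

/-!
A semisimple element of a Suzuki group is a product of two of its conjugates lying outside its
torus.
-/

set_option autoImplicit false
set_option linter.style.haveILetI false
set_option linter.unusedSectionVars false

namespace CfsgLib.Suzuki

open MulAction Cfsg
open scoped ComplexConjugate CfsgLib.Char

variable {F : Type*} [Field F] [Fintype F] [CharP F 2] {m : ℕ} [hP : Param F m]

/-- A margin for the torus bound. -/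
theorem torus_margin {q t h : ℝ} (hh : h = 2 ∨ 4 ≤ h) (hq : q = 2 * h ^ 2)
    (ht : t = 2 * h ∨ t = -(2 * h)) :
    (q + t - 3) * Real.sqrt (q + t - 3) / ((q - 1) * (q + 1 - t)) + 2 / ((q - 1) * h) + 1 / q ^ 2 ≤
      24 / 25 := by
  have hh2 : 2 ≤ h := by rcases hh with h' | h' <;> linarith
  have hh4 : 4 ≤ h ^ 2 := by nlinarith
  have hA : 0 ≤ q + t - 3 := by rcases ht with rfl | rfl <;> nlinarith
  have hB : 0 < q + 1 - t := by rcases ht with rfl | rfl <;> nlinarith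
  have hq1 : 7 ≤ q - 1 := by linarith
  have key : (q + t - 3) ^ 3 ≤ (16 / 25) * ((q - 1) * (q + 1 - t)) ^ 2 := by
    rcases hh with rfl | h4
    · rcases ht with rfl | rfl <;> subst hq <;> norm_num
    · have hhq : 2 * h ≤ q / 4 := by nlinarith
      have e1 : q + t - 3 ≤ 5 / 4 * q := by rcases ht with rfl | rfl <;> linarith
      have e2 : 3 / 4 * q ≤ q + 1 - t := by rcases ht with rfl | rfl <;> linarith
      calc (q + t - 3) ^ 3 ≤ (5 / 4 * q) ^ 3 := pow_le_pow_left₀ hA e1 3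
        _ ≤ (16 / 25) * ((q - 1) * (3 / 4 * q)) ^ 2 := by
            nlinarith [mul_le_mul_of_nonneg_left
              (show (125 / 64 : ℝ) * q ≤ 16 / 25 * (9 / 16) * (q - 1) ^ 2 by
                nlinarith [show (32 : ℝ) ≤ q by nlinarith]) (sq_nonneg q)]
        _ ≤ _ := by
            refine mul_le_mul_of_nonneg_left
              (pow_le_pow_left₀ (mul_nonneg (by linarith) (by linarith)) ?_ 2) (by norm_num)
            exact mul_le_mul_of_nonneg_left e2 (by linarith)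
  have h1 : (q + t - 3) * Real.sqrt (q + t - 3) / ((q - 1) * (q + 1 - t)) ≤ 4 / 5 := by
    rw [div_le_iff₀ (by positivity)]
    refine (sq_le_sq₀ (by positivity) (by positivity)).1 ?_
    rw [mul_pow, Real.sq_sqrt hA]
    nlinarith
  have h2 : 2 / ((q - 1) * h) ≤ 1 / 7 := by
    rw [div_le_iff₀ (by positivity)]; nlinarith
  have h3 : 1 / q ^ 2 ≤ 1 / 64 := one_div_le_one_div_of_le (by norm_num) (by nlinarith)
  linarith

include hP

namespace CharData

variable {A B : Subgroup (Gp F m)} {R P W FA FB : Finset (IrrCharacter (Gp F m))}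
  {tr St : IrrCharacter (Gp F m)} {t : ℤ}

theorem lower_AA (D : CharData A B R P W FA FB tr St t) {x : Gp F m} (hx : x ∈ A) (hx1 : x ≠ 1) :
    1 / 25 ≤ ‖sqSum x x‖ := by
  obtain ⟨hq, hh⟩ := D.qh
  have ht := D.t_casesR
  have h8 : (8 : ℝ) ≤ (Fintype.card F : ℝ) := by exact_mod_cast eight_le_card (F := F) (m := m)
  have hB : (0 : ℝ) < (Fintype.card F : ℝ) + 1 - (t : ℝ) := by
    rcases ht with h | h <;> rw [h, hq] <;> rcases hh with h' | h' <;> nlinarith
  have hw := D.sum_W_torus hx hx1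
  obtain ⟨-, hQ, -⟩ := D.torus_values hx hx1
  have hnx : ∑ φ ∈ FA, ‖(φ : Gp F m → ℂ) x‖ ^ 2 = (Fintype.card F : ℝ) + (t : ℝ) - 3 := by
    refine Complex.ofReal_injective ?_
    have e : ∀ φ : IrrCharacter (Gp F m),
        ((‖(φ : Gp F m → ℂ) x‖ ^ 2 : ℝ) : ℂ) = (φ : Gp F m → ℂ) x ^ 2 := fun φ => by
      rw [Complex.ofReal_pow, ← Complex.mul_conj', D.torA.conj_apply hx, sq]
    rw [Complex.ofReal_sum, Finset.sum_congr rfl fun φ _ => e φ, hQ]
    push_cast; rfl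
  set M := Real.sqrt ((Fintype.card F : ℝ) + (t : ℝ) - 3) with hM
  have hle : ∀ φ ∈ FA, ‖(φ : Gp F m → ℂ) x‖ ≤ M := fun φ hφ =>
    Real.le_sqrt_of_sq_le (hnx ▸ Finset.single_le_sum
      (f := fun φ : IrrCharacter (Gp F m) => ‖(φ : Gp F m → ℂ) x‖ ^ 2)
      (fun _ _ => sq_nonneg _) hφ)
  have h2 : ‖(∑ φ ∈ FA, (φ : Gp F m → ℂ) x ^ 2 * conj ((φ : Gp F m → ℂ) x)) /
      (((Fintype.card F : ℂ) - 1) * ((Fintype.card F : ℂ) + 1 - (t : ℂ)))‖ ≤
      ((Fintype.card F : ℝ) + (t : ℝ) - 3) * M /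
        (((Fintype.card F : ℝ) - 1) * ((Fintype.card F : ℝ) + 1 - (t : ℝ))) := by
    rw [norm_div, show (((Fintype.card F : ℂ) - 1) * ((Fintype.card F : ℂ) + 1 - (t : ℂ))) =
      ((((Fintype.card F : ℝ) - 1) * ((Fintype.card F : ℝ) + 1 - (t : ℝ)) : ℝ) : ℂ) by
        push_cast; rfl, Complex.norm_real, Real.norm_of_nonneg (mul_nonneg (by linarith) hB.le)]
    refine div_le_div_of_nonneg_right ((norm_sum_le _ _).trans ?_) (mul_nonneg (by linarith) hB.le)
    rw [← hnx, Finset.sum_mul]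
    refine Finset.sum_le_sum fun φ hφ => ?_
    rw [norm_mul, norm_pow, Complex.norm_conj]
    exact mul_le_mul_of_nonneg_left (hle φ hφ) (sq_nonneg _)
  have h3 : ‖(∑ φ ∈ W, conj ((φ : Gp F m → ℂ) x)) / (((Fintype.card F : ℂ) - 1) * (2 : ℂ) ^ m)‖ =
      2 / (((Fintype.card F : ℝ) - 1) * (2 : ℝ) ^ m) := by
    have e : ∑ φ ∈ W, conj ((φ : Gp F m → ℂ) x) = (((t : ℝ) / (2 : ℝ) ^ m : ℝ) : ℂ) := by
      push_cast
      rw [eq_div_iff (pow_ne_zero _ two_ne_zero), mul_comm, hw]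
    rw [norm_div, e, Complex.norm_real, Real.norm_eq_abs,
      show (((Fintype.card F : ℂ) - 1) * (2 : ℂ) ^ m) =
        ((((Fintype.card F : ℝ) - 1) * (2 : ℝ) ^ m : ℝ) : ℂ) by push_cast; rfl,
      Complex.norm_real, Real.norm_of_nonneg (mul_nonneg (by linarith) (by positivity))]
    congr 1
    rcases ht with h | h <;> rw [h] <;> simp [abs_div]
  have hm := torus_margin hh hq ht
  rw [D.torus_setup hx hx1, D.ser.St_free x (D.fpf hx hx1)]
  set a : ℂ := conj (-1 : ℂ) / (Fintype.card F : ℂ) ^ 2 with ha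
  set b : ℂ := (∑ φ ∈ FA, (φ : Gp F m → ℂ) x ^ 2 * conj ((φ : Gp F m → ℂ) x)) /
      (((Fintype.card F : ℂ) - 1) * ((Fintype.card F : ℂ) + 1 - (t : ℂ)))
  set c : ℂ := (∑ φ ∈ W, conj ((φ : Gp F m → ℂ) x)) / (((Fintype.card F : ℂ) - 1) * (2 : ℂ) ^ m)
  have h1 : ‖a‖ = 1 / (Fintype.card F : ℝ) ^ 2 := by rw [ha]; simp
  have h4 : ‖(1 : ℂ)‖ ≤ ‖1 + a + b + c‖ + (‖a‖ + ‖b‖ + ‖c‖) := by
    calc ‖(1 : ℂ)‖ = ‖(1 + a + b + c) - (a + b + c)‖ := by congr 1; ring
      _ ≤ ‖1 + a + b + c‖ + ‖a + b + c‖ := norm_sub_le _ _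
      _ ≤ _ := add_le_add le_rfl ((norm_add_le _ _).trans (add_le_add (norm_add_le _ _) le_rfl))
  rw [norm_one, h1, h3] at h4
  linarith

theorem lower_HH (D : CharData A B R P W FA FB tr St t) {x : Gp F m} (hx : x ∈ grpH F m)
    (hx1 : x ≠ 1) : 1 / 25 ≤ ‖sqSum x x‖ := by
  have h8 : (8 : ℝ) ≤ (Fintype.card F : ℝ) := by exact_mod_cast eight_le_card (F := F) (m := m)
  obtain ⟨vA, vB, vW⟩ := D.vanR hx hx1
  rw [D.sqSum_eq, Finset.sum_eq_zero (s := FA) (fun φ hφ => by rw [vA φ hφ]; simp),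
    Finset.sum_eq_zero (s := FB) (fun φ hφ => by rw [vB φ hφ]; simp),
    Finset.sum_eq_zero (s := W) (fun φ hφ => by rw [vW φ hφ]; simp),
    zero_div, zero_div, zero_div, add_zero, add_zero, add_zero]
  set a : ℂ := (St : Gp F m → ℂ) x ^ 2 * conj ((St : Gp F m → ℂ) x) / (Fintype.card F : ℂ) ^ 2
    with ha
  set b : ℂ := (∑ φ ∈ P, (φ : Gp F m → ℂ) x ^ 2 * conj ((φ : Gp F m → ℂ) x)) /
      ((Fintype.card F : ℂ) ^ 2 + 1) with hb
  have h1 : ‖a‖ ≤ 27 / (Fintype.card F : ℝ) ^ 2 := by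
    rw [ha, norm_div, norm_mul, norm_pow, norm_pow, Complex.norm_conj, Complex.norm_natCast]
    gcongr
    calc ‖(St : Gp F m → ℂ) x‖ ^ 2 * ‖(St : Gp F m → ℂ) x‖ ≤ 3 ^ 2 * 3 :=
          mul_le_mul (pow_le_pow_left₀ (norm_nonneg _) (D.ser.St_H x hx hx1) 2)
            (D.ser.St_H x hx hx1) (norm_nonneg _) (by norm_num)
      _ = 27 := by norm_num
  have h2 : ‖b‖ ≤ 4 * (Fintype.card F : ℝ) / ((Fintype.card F : ℝ) ^ 2 + 1) := by
    rw [hb, norm_div, show ((Fintype.card F : ℂ) ^ 2 + 1) =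
      (((Fintype.card F : ℝ) ^ 2 + 1 : ℝ) : ℂ) by push_cast; rfl, Complex.norm_real,
      Real.norm_of_nonneg (by positivity)]
    gcongr
    refine (norm_sum_le _ _).trans ((Finset.sum_le_sum (g := fun _ => (8 : ℝ)) fun φ hφ => ?_).trans ?_)
    · rw [norm_mul, norm_pow, Complex.norm_conj]
      calc ‖(φ : Gp F m → ℂ) x‖ ^ 2 * ‖(φ : Gp F m → ℂ) x‖ ≤ 2 ^ 2 * 2 :=
            mul_le_mul (pow_le_pow_left₀ (norm_nonneg _) (D.ser.P_H φ hφ x hx hx1) 2)
              (D.ser.P_H φ hφ x hx hx1) (norm_nonneg _) (by norm_num)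
        _ = 8 := by norm_num
    · rw [Finset.sum_const, nsmul_eq_mul]
      have : 2 * (P.card : ℝ) + 2 = (Fintype.card F : ℝ) := by exact_mod_cast D.ser.P_card
      linarith
  have h3 : ‖(1 : ℂ)‖ ≤ ‖1 + a + b‖ + (‖a‖ + ‖b‖) := by
    calc ‖(1 : ℂ)‖ = ‖(1 + a + b) - (a + b)‖ := by congr 1; ring
      _ ≤ ‖1 + a + b‖ + ‖a + b‖ := norm_sub_le _ _
      _ ≤ _ := add_le_add le_rfl (norm_add_le _ _)
  rw [norm_one] at h3
  have h4 : 27 / (Fintype.card F : ℝ) ^ 2 ≤ 27 / 64 := by gcongr; nlinarith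
  have h5 : 4 * (Fintype.card F : ℝ) / ((Fintype.card F : ℝ) ^ 2 + 1) ≤ 1 / 2 := by
    rw [div_le_iff₀ (by positivity)]; nlinarith
  linarith

end CharData

/-- At most four conjugates of an element of a torus lie in the torus. -/
theorem Tor.ncard_class_inter {T : Subgroup (Gp F m)} {n : ℕ} (hT : Tor T n) {x : Gp F m} (hx : x ∈ T)
    (hx1 : x ≠ 1) : {y : Gp F m | IsConj x y ∧ y ∈ T}.ncard ≤ 4 := by
  set N := Subgroup.normalizer (T : Set (Gp F m))
  let f : N ⧸ T.subgroupOf N → Gp F m := fun c =>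
    Quotient.liftOn' c (fun g : N => (g : Gp F m) * x * (g : Gp F m)⁻¹) (fun g h hgh => by
      rw [QuotientGroup.leftRel_apply, Subgroup.mem_subgroupOf] at hgh
      have hc := hT.comm _ hgh _ hx
      simp only [Subgroup.coe_mul, Subgroup.coe_inv] at hc
      calc (g : Gp F m) * x * (g : Gp F m)⁻¹
          = (g : Gp F m) * (x * ((g : Gp F m)⁻¹ * h)) * (h : Gp F m)⁻¹ := by group
        _ = _ := by rw [← hc]; group)
  have hsub : {y : Gp F m | IsConj x y ∧ y ∈ T} ⊆ Set.range f := by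
    rintro y ⟨hc, hy⟩
    obtain ⟨g, rfl⟩ := isConj_iff.1 hc
    have hg : g ∈ N := by
      refine Subgroup.mem_normalizer_fintype fun a ha => ?_
      rw [SetLike.mem_coe, ← hT.cent _ hy fun e => hx1 (conj_eq_one_iff.1 e),
        Subgroup.mem_centralizer_singleton_iff]
      have hax : a * x = x * a := hT.comm a ha x hx
      calc g * a * g⁻¹ * (g * x * g⁻¹) = g * (a * x) * g⁻¹ := by group
        _ = g * (x * a) * g⁻¹ := by rw [hax]
        _ = _ := by group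
    exact ⟨Quotient.mk'' ⟨g, hg⟩, rfl⟩
  refine (Set.ncard_le_ncard hsub (Set.toFinite _)).trans ?_
  rw [← Nat.card_coe_set_eq]
  refine (Finite.card_range_le f).trans ?_
  rw [← Subgroup.index_eq_card, hT.index_subgroupOf]
  rcases hT.two_four with h | h <;> omega

/-- A torus element with square sum away from zero is a product of two conjugates, the first one
outside the torus. -/
theorem exists_outside_aux {T : Subgroup (Gp F m)} {n : ℕ} (hT : Tor T n) {x : Gp F m} (hx : x ∈ T)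
    (hx1 : x ≠ 1) (hc : (Nat.card T : ℝ) ≤ 2 * (Fintype.card F : ℝ))
    (hlow : 1 / 25 ≤ ‖sqSum x x‖) :
    ∃ y z : Gp F m, IsConj x y ∧ IsConj x z ∧ y * z = x ∧ y ∉ T := by
  classical
  haveI : Fintype (Gp F m) := Fintype.ofFinite _
  by_contra hcon
  push Not at hcon
  set S := {p : Gp F m × Gp F m // IsConj x p.1 ∧ IsConj x p.2 ∧ p.1 * p.2 = x}
  have hS : Nat.card S ≤ 4 := by
    refine le_trans ?_ (hT.ncard_class_inter hx hx1)
    rw [← Nat.card_coe_set_eq]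
    refine Nat.card_le_card_of_injective
      (fun p : S => (⟨p.1.1, p.2.1, hcon _ _ p.2.1 p.2.2.1 p.2.2.2⟩ :
        {y : Gp F m | IsConj x y ∧ y ∈ T})) ?_
    rintro ⟨⟨a, b⟩, h1, h2, h3⟩ ⟨⟨a', b'⟩, h1', h2', h3'⟩ e
    have ea : a = a' := congrArg Subtype.val e
    subst ea
    have : b = b' := mul_left_cancel (h3.trans h3'.symm)
    subst this
    rfl
  have hcount : (Nat.card S : ℂ) = ((Subgroup.centralizer ({x} : Set (Gp F m))).index : ℂ) *
      ((Subgroup.centralizer ({x} : Set (Gp F m))).index : ℂ) / (Nat.card (Gp F m) : ℂ) * sqSum x x :=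
    CfsgLib.Char.class_mult x x x
  rw [hT.cent x hx hx1] at hcount
  have hidx : (T.index : ℝ) * (Nat.card T : ℝ) = (Nat.card (Gp F m) : ℝ) := by
    exact_mod_cast T.index_mul_card
  have hGpos : (0 : ℝ) < (Nat.card (Gp F m) : ℝ) := by exact_mod_cast Nat.card_pos
  have hTpos : (0 : ℝ) < (Nat.card T : ℝ) := by exact_mod_cast Nat.card_pos
  have hnorm := congrArg norm hcount
  rw [norm_mul, norm_div, norm_mul, Complex.norm_natCast, Complex.norm_natCast,
    Complex.norm_natCast] at hnorm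
  have hG : (Nat.card (Gp F m) : ℝ) =
      (Fintype.card F : ℝ) ^ 2 * ((Fintype.card F : ℝ) ^ 2 + 1) * ((Fintype.card F : ℝ) - 1) := by
    rw [natCard_group]
    have h1 : 1 ≤ Fintype.card F := Fintype.card_pos
    push_cast [Nat.cast_sub h1]
    ring
  have h8 : (8 : ℝ) ≤ (Fintype.card F : ℝ) := by exact_mod_cast eight_le_card (F := F) (m := m)
  have hS' : (Nat.card S : ℝ) ≤ 4 := by exact_mod_cast hS
  have e : ‖sqSum x x‖ * (Nat.card (Gp F m) : ℝ) = (Nat.card S : ℝ) * (Nat.card T : ℝ) ^ 2 := by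
    rw [hnorm, ← hidx]
    have hi : (T.index : ℝ) ≠ 0 := by exact_mod_cast Subgroup.index_ne_zero_of_finite
    field_simp
  have h16 : 1 / 25 * (Nat.card (Gp F m) : ℝ) ≤ 16 * (Fintype.card F : ℝ) ^ 2 := by
    calc 1 / 25 * (Nat.card (Gp F m) : ℝ) ≤ ‖sqSum x x‖ * (Nat.card (Gp F m) : ℝ) :=
          mul_le_mul_of_nonneg_right hlow hGpos.le
      _ = (Nat.card S : ℝ) * (Nat.card T : ℝ) ^ 2 := e
      _ ≤ 4 * (2 * (Fintype.card F : ℝ)) ^ 2 :=
          mul_le_mul hS' (pow_le_pow_left₀ hTpos.le hc 2) (by positivity) (by norm_num)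
      _ = _ := by ring
  rw [hG] at h16
  have h65 : (455 : ℝ) ≤ ((Fintype.card F : ℝ) ^ 2 + 1) * ((Fintype.card F : ℝ) - 1) := by nlinarith
  have hq0 : (0 : ℝ) < (Fintype.card F : ℝ) ^ 2 := by positivity
  nlinarith [mul_le_mul_of_nonneg_left h65 hq0.le]

/-- Every nontrivial element of odd order is conjugate into a torus, in which it is a product of two
conjugates with the first one outside the torus. -/
theorem exists_outside {x : Gp F m} (hx1 : x ≠ 1) (hodd : Odd (orderOf x)) :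
    ∃ y z : Gp F m, IsConj x y ∧ IsConj x z ∧ y * z = x ∧ y * x ≠ x * y := by
  classical
  obtain ⟨A, B, R, P, W, FA, FB, tr, St, t, D, hcc⟩ := exists_char_data (F := F) (m := m)
  obtain ⟨c, hc⟩ := classify_five hcc hx1
  set x' := c * x * c⁻¹ with hx'
  have hx'1 : x' ≠ 1 := conj_ne_one (F := F) (m := m) hx1 c
  have hq8 := eight_le_card (F := F) (m := m)
  have hcard : ∀ {A B : Subgroup (Gp F m)} {FA FB : Finset (IrrCharacter (Gp F m))} {t : ℤ},
      CharData A B R P W FA FB tr St t → (Nat.card A : ℝ) ≤ 2 * (Fintype.card F : ℝ) := by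
    intro A B FA FB t D
    have h1 : (Nat.card A : ℝ) = (Fintype.card F : ℝ) + 1 + (t : ℝ) := by exact_mod_cast D.cardA
    obtain ⟨hq, hh⟩ := D.qh
    have : (2 : ℝ) ≤ (2 : ℝ) ^ m := by rcases hh with h | h <;> linarith
    rcases D.t_casesR with h | h <;> rw [h1, h, hq] <;> nlinarith
  have key : ∃ (T : Subgroup (Gp F m)) (n : ℕ), Tor T n ∧ x' ∈ T ∧
      (Nat.card T : ℝ) ≤ 2 * (Fintype.card F : ℝ) ∧ 1 / 25 ≤ ‖sqSum x' x'‖ := by
    have hU : x' ∉ grpU F m := fun h => by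
      have h1 : orderOf x' ∣ Fintype.card F ^ 2 := by
        rw [← natCard_grpU (F := F) (m := m)]; exact Subgroup.orderOf_dvd_natCard _ h
      rw [hx', CfsgLib.Ree.orderOf_conj', hP.card, ← pow_mul] at h1
      exact hx1 (orderOf_eq_one_iff.1 (Nat.eq_one_of_dvd_coprimes
        (coprime_two_pow (F := F) (m := m) hodd) dvd_rfl h1))
    rcases hc with h | ⟨h, -⟩ | h | h | h
    · exact absurd (by obtain ⟨b, hb⟩ := h; rw [hb]; exact gT_mem 0 b) hU
    · exact absurd h hU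
    · refine ⟨_, 2, tor_grpH, h, ?_, D.lower_HH h hx'1⟩
      rw [natCard_grpH]
      push_cast [Nat.cast_sub (show 1 ≤ Fintype.card F by omega)]
      have : (8 : ℝ) ≤ (Fintype.card F : ℝ) := by exact_mod_cast hq8
      linarith
    · exact ⟨_, 4, D.torA, h, hcard D, D.lower_AA h hx'1⟩
    · exact ⟨_, 4, D.torB, h, hcard D.swap, D.swap.lower_AA h hx'1⟩
  obtain ⟨T, n, hT, hxT, hTc, hlow⟩ := key
  obtain ⟨y, z, hy, hz, hyz, hyT⟩ := exists_outside_aux hT hxT hx'1 hTc hlow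
  have hxx : IsConj x x' := isConj_iff.2 ⟨c, rfl⟩
  refine ⟨c⁻¹ * y * c, c⁻¹ * z * c, hxx.trans (hy.trans (isConj_iff.2 ⟨c⁻¹, by group⟩)),
    hxx.trans (hz.trans (isConj_iff.2 ⟨c⁻¹, by group⟩)), ?_, fun e => hyT ?_⟩
  · rw [show c⁻¹ * y * c * (c⁻¹ * z * c) = c⁻¹ * (y * z) * c by group, hyz, hx']
    group
  · rw [← hT.cent x' hxT hx'1, Subgroup.mem_centralizer_singleton_iff, hx']
    calc y * (c * x * c⁻¹) = c * (c⁻¹ * y * c * x) * c⁻¹ := by group
      _ = c * (x * (c⁻¹ * y * c)) * c⁻¹ := by rw [e]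
      _ = _ := by group

end CfsgLib.Suzuki
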