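import Cfsg.Agent.Lib.Suzuki.SubgroupId

/-!
# The subgroups of a Suzuki group, and the conjugacy of the subfield subgroups
-/

set_option autoImplicit false
set_option linter.unusedSectionVars false

namespace CfsgLib.Suzuki

open MulAction

universe u v

variable {F : Type u} [Field F] [Fintype F] [CharP F 2] {m : ℕ} [hP : Param F m]

include hP

theorem subgroup_cases (M : Subgroup (Gp F m)) (hM : M ≠ ⊤) :
    (∃ P : Sylow 2 (Gp F m),
      M ≤ Subgroup.normalizer ((P : Subgroup (Gp F m)) : Set (Gp F m))) ∨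
    (∃ U : Subgroup (Gp F m), IsCyclic U ∧ Nat.card U ∈ torusOrders m ∧
      M ≤ Subgroup.normalizer (U : Set (Gp F m))) ∨
    (∃ (K : Type) (_ : Field K) (_ : Fintype K) (k : ℕ), 1 ≤ k ∧ k < m ∧
      Fintype.card K = 2 ^ (2 * k + 1) ∧ 2 * k + 1 ∣ 2 * m + 1 ∧
      ∃ S : Subgroup (Gp F m), Nonempty (↥S ≃* ↥(Cfsg.Sz K k)) ∧ M ≤ S) := by
  rcases classify_subgroup hM with (⟨p, hp⟩ | ⟨T, n, hT, hle⟩) | ⟨g, k, hk1, hkm, hkd, hk⟩
  · obtain ⟨g, hg⟩ := MulAction.exists_smul_eq (Gp F m) (pinf F m) p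
    refine Or.inl ⟨g • sylowU F m, ?_⟩
    rw [show ((g • sylowU F m : Sylow 2 (Gp F m)) : Subgroup (Gp F m)) =
      (grpU F m).map (MulAut.conj g).toMonoidHom from rfl, normalizer_conj_grpU, hg]
    exact hp
  · exact Or.inr (Or.inl ⟨T, hT.cyclic.1, hT.cyclic.2, hle⟩)
  · refine Or.inr (Or.inr ?_)
    have := Fact.mk Nat.prime_two
    haveI : Finite (GaloisField 2 (2 * k + 1)) :=
      Nat.finite_of_card_ne_zero (by rw [GaloisField.card 2 _ (by omega)]; positivity)
    let hF : Fintype (GaloisField 2 (2 * k + 1)) := Fintype.ofFinite _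
    have hcard : Fintype.card (GaloisField 2 (2 * k + 1)) = 2 ^ (2 * k + 1) := by
      rw [← Nat.card_eq_fintype_card, GaloisField.card 2 _ (by omega)]
    haveI : Param (GaloisField 2 (2 * k + 1)) k := ⟨hk1, hcard⟩
    obtain ⟨e⟩ := nonempty_fieldSub_equiv (F := F) (m := m) (GaloisField 2 (2 * k + 1)) (k := k) hkd
    refine ⟨GaloisField 2 (2 * k + 1), inferInstance, hF, k, hk1, hkm, hcard, hkd,
      (fieldSub F m (2 * k + 1)).map (MulAut.conj g⁻¹).toMonoidHom, ⟨?_⟩, fun y hy => ?_⟩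
    · exact ((fieldSub F m (2 * k + 1)).equivMapOfInjective _
        (MulAut.conj g⁻¹).injective).symm.trans e
    · refine ⟨g * y * g⁻¹, hk ▸ ⟨y, hy, rfl⟩, ?_⟩
      show g⁻¹ * (g * y * g⁻¹) * g⁻¹⁻¹ = y
      group

theorem not_isSolvable_gp : ¬ Group.IsSolvable (Gp F m) := by
  intro h
  obtain ⟨n, hn⟩ := (Group.isSolvable_def _).1 h
  have : ∀ j, derivedSeries (Gp F m) j = ⊤ := by
    intro j
    induction j with
    | zero => rfl
    | succ j ih => rw [derivedSeries_succ, ih, ← commutator_def, commutator_eq_top]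
  rw [this] at hn
  exact gW_ne_one (Subgroup.mem_bot.1 (hn ▸ Subgroup.mem_top (gW F m)))

theorem subfield_subgroups {K : Type v} [Field K] [Fintype K] [CharP K 2] {k : ℕ}
    [hK : Param K k] (hdiv : 2 * k + 1 ∣ 2 * m + 1) :
    (∃ S : Subgroup (Gp F m), Nonempty (↥S ≃* Gp K k)) ∧
    ∀ S₁ S₂ : Subgroup (Gp F m), Nonempty (↥S₁ ≃* Gp K k) → Nonempty (↥S₂ ≃* Gp K k) →
      ∃ g : Gp F m, S₂ = S₁.map (MulAut.conj g).toMonoidHom := by
  obtain ⟨e0⟩ := nonempty_fieldSub_equiv (F := F) (m := m) K (k := k) hdiv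
  refine ⟨⟨_, ⟨e0⟩⟩, ?_⟩
  have key : ∀ S : Subgroup (Gp F m), Nonempty (↥S ≃* Gp K k) →
      ∃ g : Gp F m, S.map (MulAut.conj g).toMonoidHom = fieldSub F m (2 * k + 1) := by
    rintro S ⟨e⟩
    have hkm : k ≤ m := by have := Nat.le_of_dvd (by omega) hdiv; omega
    rcases eq_or_lt_of_le hkm with rfl | hlt
    · have hS : S = ⊤ := by
        refine Subgroup.eq_top_of_card_eq _ ?_
        rw [Nat.card_congr e.toEquiv, natCard_group, natCard_group, hK.card, hP.card]
      refine ⟨1, ?_⟩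
      rw [hS, fieldSub_eq_top rfl]
      ext y
      simp
    have hStop : S ≠ ⊤ := by
      intro hS
      have h1 := Nat.card_congr e.toEquiv
      rw [hS, Subgroup.card_top, natCard_group, natCard_group, hK.card, hP.card] at h1
      have hlt' : 2 ^ (2 * k + 1) < 2 ^ (2 * m + 1) :=
        Nat.pow_lt_pow_right (by norm_num) (by omega)
      have h2 : 2 ≤ 2 ^ (2 * k + 1) := Nat.le_self_pow (by omega) 2
      generalize 2 ^ (2 * k + 1) = a at *
      generalize 2 ^ (2 * m + 1) = b at *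
      have : a ^ 2 * (a ^ 2 + 1) * (a - 1) < b ^ 2 * (b ^ 2 + 1) * (b - 1) :=
        Nat.mul_lt_mul_of_le_of_lt (Nat.mul_le_mul (Nat.pow_le_pow_left hlt'.le 2)
          (Nat.add_le_add_right (Nat.pow_le_pow_left hlt'.le 2) 1)) (by omega)
          (Nat.mul_pos (pow_pos (by omega) 2) (Nat.succ_pos _))
      omega
    have hns : ¬ Group.IsSolvable ↥S := fun h => by
      exact not_isSolvable_gp (F := K) (m := k)
        (Group.isSolvable_of_surjective (f := e.toMonoidHom) e.surjective)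
    rcases classify_subgroup hStop with (⟨p, hp⟩ | ⟨T, n, hT, hle⟩) | ⟨g, j, hj1, -, hjd, hj⟩
    · have := isSolvable_stabilizer (F := F) (m := m) p
      exact absurd (Group.isSolvable_of_isSolvable_injective (Subgroup.inclusion_injective hp)) hns
    · have := hT.tor.isSolvable_normalizer
      exact absurd (Group.isSolvable_of_isSolvable_injective (Subgroup.inclusion_injective hle)) hns
    · refine ⟨g, ?_⟩
      suffices j = k by rw [hj, this]
      have := Fact.mk Nat.prime_two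
      haveI : Finite (GaloisField 2 (2 * j + 1)) :=
        Nat.finite_of_card_ne_zero (by rw [GaloisField.card 2 _ (by omega)]; positivity)
      let _ : Fintype (GaloisField 2 (2 * j + 1)) := Fintype.ofFinite _
      haveI : Param (GaloisField 2 (2 * j + 1)) j := ⟨hj1, by
        rw [← Nat.card_eq_fintype_card, GaloisField.card 2 _ (by omega)]⟩
      obtain ⟨ej⟩ := nonempty_fieldSub_equiv (F := F) (m := m) (GaloisField 2 (2 * j + 1)) (k := j) hjd
      have h1 : Nat.card (Gp K k) = Nat.card (Gp (GaloisField 2 (2 * j + 1)) j) := by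
        rw [← Nat.card_congr e.toEquiv, ← Nat.card_congr ej.toEquiv, ← hj]
        exact (Subgroup.card_map_of_injective (MulAut.conj g).injective).symm
      rw [natCard_group, natCard_group, hK.card, Param.card (F := GaloisField 2 (2 * j + 1)) (m := j)]
        at h1
      have hmono : ∀ a b : ℕ, a < b → (2 ^ (2 * a + 1)) ^ 2 * ((2 ^ (2 * a + 1)) ^ 2 + 1) *
          (2 ^ (2 * a + 1) - 1) < (2 ^ (2 * b + 1)) ^ 2 * ((2 ^ (2 * b + 1)) ^ 2 + 1) *
          (2 ^ (2 * b + 1) - 1) := by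
        intro a b hab
        have hlt' : 2 ^ (2 * a + 1) < 2 ^ (2 * b + 1) :=
          Nat.pow_lt_pow_right (by norm_num) (by omega)
        have h2 : 2 ≤ 2 ^ (2 * a + 1) := Nat.le_self_pow (by omega) 2
        generalize 2 ^ (2 * a + 1) = x at *
        generalize 2 ^ (2 * b + 1) = y at *
        exact Nat.mul_lt_mul_of_le_of_lt (Nat.mul_le_mul (Nat.pow_le_pow_left hlt'.le 2)
          (Nat.add_le_add_right (Nat.pow_le_pow_left hlt'.le 2) 1)) (by omega)
          (Nat.mul_pos (pow_pos (by omega) 2) (Nat.succ_pos _))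
      rcases lt_trichotomy j k with h | h | h
      · exact absurd h1.symm (hmono _ _ h).ne
      · exact h
      · exact absurd h1 (hmono _ _ h).ne
  intro S₁ S₂ h₁ h₂
  obtain ⟨g₁, hg₁⟩ := key S₁ h₁
  obtain ⟨g₂, hg₂⟩ := key S₂ h₂
  refine ⟨g₂⁻¹ * g₁, ?_⟩
  ext y
  have hy : y ∈ S₂ ↔ g₂ * y * g₂⁻¹ ∈ S₁.map (MulAut.conj g₁).toMonoidHom := by
    rw [hg₁, ← hg₂, mem_map_conj,
      show g₂⁻¹ * (g₂ * y * g₂⁻¹) * g₂ = y by group]
  rw [hy, mem_map_conj, mem_map_conj,
    show g₁⁻¹ * (g₂ * y * g₂⁻¹) * g₁ = (g₂⁻¹ * g₁)⁻¹ * y * (g₂⁻¹ * g₁) by group]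

end CfsgLib.Suzuki
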