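import Mathlib
import Cfsg.Agent.Lib.Binary.Invol
import Cfsg.Agent.Lib.Suzuki.BinTriangle
import Cfsg.Agent.Lib.Suzuki.SubgroupMain
import Cfsg.Agent.Lib.Suzuki.Solubilizer

/-!
The binary coset actions of the Suzuki groups.
-/

set_option autoImplicit false
set_option linter.unusedSectionVars false

namespace CfsgLib.Suzuki

open MulAction CfsgLib.Binary
open scoped Pointwise

variable {F : Type*} [Field F] [Fintype F] [CharP F 2] {m : ℕ} [hP : Param F m]

include hP

theorem two_pow_order_one {x : Gp F m} {k : ℕ} (hodd : Odd (orderOf x))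
    (hd : orderOf x ∣ 2 ^ k) : x = 1 :=
  orderOf_eq_one_iff.1 (Nat.eq_one_of_dvd_coprimes (coprime_two_pow (F := F) (m := m) hodd) dvd_rfl hd)

theorem orderOf_grpU_dvd {x : Gp F m} (hx : x ∈ grpU F m) :
    orderOf x ∣ 2 ^ ((2 * m + 1) * 2) := by
  rw [pow_mul, ← hP.card, ← natCard_grpU (F := F) (m := m)]
  exact Subgroup.orderOf_dvd_natCard _ hx

theorem tor_centralizer {x : Gp F m} (hx1 : x ≠ 1) (hodd : Odd (orderOf x)) :
    ∃ n, Tor (Subgroup.centralizer ({x} : Set (Gp F m))) n := by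
  classical
  obtain ⟨A, B, R, P, W, FA, FB, tr, St, t, D, hcc⟩ := exists_char_data (F := F) (m := m)
  obtain ⟨c, hc⟩ := classify_five hcc hx1
  have key : ∀ {T : Subgroup (Gp F m)} {n : ℕ}, Tor T n → c * x * c⁻¹ ∈ T →
      ∃ n, Tor (Subgroup.centralizer ({x} : Set (Gp F m))) n := by
    intro T n hT h
    refine ⟨n, ?_⟩
    have e : Subgroup.centralizer ({x} : Set (Gp F m)) = T.map (MulAut.conj c⁻¹).toMonoidHom := by
      ext y
      rw [mem_map_conj, ← hT.cent _ h (conj_ne_one (F := F) (m := m) hx1 c),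
        Subgroup.mem_centralizer_singleton_iff, Subgroup.mem_centralizer_singleton_iff, inv_inv]
      constructor
      · intro hy
        calc c * y * c⁻¹ * (c * x * c⁻¹) = c * (y * x) * c⁻¹ := by group
          _ = c * (x * y) * c⁻¹ := by rw [hy]
          _ = _ := by group
      · intro hy
        calc y * x = c⁻¹ * (c * y * c⁻¹ * (c * x * c⁻¹)) * c := by group
          _ = c⁻¹ * (c * x * c⁻¹ * (c * y * c⁻¹)) * c := by rw [hy]
          _ = _ := by group
    rw [e]
    exact hT.map_conj c⁻¹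
  have hU : c * x * c⁻¹ ∉ grpU F m := fun h => hx1 (by
    have := orderOf_grpU_dvd h
    rw [CfsgLib.Ree.orderOf_conj'] at this
    exact two_pow_order_one hodd this)
  rcases hc with h | ⟨h, -⟩ | h | h | h
  · exact absurd (by obtain ⟨b, hb⟩ := h; rw [hb]; exact gT_mem 0 b) hU
  · exact absurd h hU
  · exact key tor_grpH h
  · exact key D.torA h
  · exact key D.torB h

/-- An element of odd order whose closure commutes with it excludes binarity. -/
theorem not_binary_of_semisimple {H : Subgroup (Gp F m)} (hb : IsBinary H) {x : Gp F m}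
    (hx1 : x ≠ 1) (hodd : Odd (orderOf x))
    (hhat : hat H x ≤ Subgroup.centralizer ({x} : Set (Gp F m))) : False := by
  obtain ⟨y, z, hy, hz, hyz, hne⟩ := exists_outside hx1 hodd
  have hconj : ∀ w, IsConj x w → hat H w ≤ Subgroup.centralizer ({w} : Set (Gp F m)) := by
    intro w hw g hg
    obtain ⟨k, rfl⟩ := isConj_iff.1 hw
    have h := hhat (mem_hat_conj.1 hg)
    rw [Subgroup.mem_centralizer_singleton_iff] at h ⊢
    calc g * (k * x * k⁻¹) = k * (k⁻¹ * g * k * x) * k⁻¹ := by group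
      _ = k * (x * (k⁻¹ * g * k)) * k⁻¹ := by rw [h]
      _ = _ := by group
  have hy1 : y ≠ 1 := by
    obtain ⟨k, rfl⟩ := isConj_iff.1 hy
    exact conj_ne_one (F := F) (m := m) hx1 k
  have hyodd : Odd (orderOf y) := by
    obtain ⟨k, rfl⟩ := isConj_iff.1 hy
    rwa [CfsgLib.Ree.orderOf_conj']
  obtain ⟨g, hga, hgb, hgc⟩ := hb.exists_hat hyz.symm
  by_cases hg : g = 1
  · rw [hg, inv_one, one_mul] at hgc
    have h := Subgroup.mem_centralizer_singleton_iff.1 (hconj z hz hgc)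
    rw [← hyz] at h
    have hyz' : y * z = z * y := mul_right_cancel (b := z) (by rw [h, mul_assoc])
    apply hne
    rw [← hyz, hyz', ← mul_assoc, hyz']
  · obtain ⟨n, hT⟩ := tor_centralizer hx1 hodd
    obtain ⟨n', hT'⟩ := tor_centralizer hy1 hyodd
    have e := hT.eq_of_mem hT' (hhat hga) (hconj y hy hgb) hg
    have h : y ∈ Subgroup.centralizer ({x} : Set (Gp F m)) :=
      e ▸ Subgroup.mem_centralizer_singleton_iff.2 rfl
    exact hne (Subgroup.mem_centralizer_singleton_iff.1 h)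

/-- A stabilizer fixing a point of the ovoid has no nontrivial element of odd order. -/
theorem not_odd_of_fix {H : Subgroup (Gp F m)} (hb : IsBinary H) {p : Pts F m}
    (hH : H ≤ stabilizer (Gp F m) p) {x : Gp F m} (hxH : x ∈ H) (hx1 : x ≠ 1)
    (hodd : Odd (orderOf x)) : False := by
  obtain ⟨k, hk⟩ := exists_smul_eq (Gp F m) p (pinf F m)
  have hB : ∀ h ∈ H, (k * h * k⁻¹) • pinf F m = pinf F m := fun h hh => by
    rw [← hk, mul_smul, mul_smul, inv_smul_smul, hH hh]
  obtain ⟨a, b, t, hab⟩ := exists_eq_gT_mul_gH (hB x hxH)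
  have ht : t ≠ 1 := by
    rintro rfl
    rw [map_one, mul_one] at hab
    have h := orderOf_grpU_dvd (x := k * x * k⁻¹) (hab ▸ gT_mem a b)
    rw [CfsgLib.Ree.orderOf_conj'] at h
    exact hx1 (two_pow_order_one hodd h)
  obtain ⟨v, hv⟩ : ∃ v : grpU F m,
      (v : Gp F m) * gH t * (v : Gp F m)⁻¹ * (gH t)⁻¹ = gT a b := by
    let f : grpU F m → grpU F m := fun v => ⟨(v : Gp F m) * gH t * (v : Gp F m)⁻¹ * (gH t)⁻¹, by
      rw [mul_assoc (v : Gp F m) (gH t), mul_assoc (v : Gp F m)]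
      exact mul_mem v.2 (grpU_conj_mem (inv_mem v.2) (gH_smul_pinf t))⟩
    have finj : Function.Injective f := by
      intro v w e
      have e' : (v : Gp F m) * gH t * (v : Gp F m)⁻¹ * (gH t)⁻¹ =
          (w : Gp F m) * gH t * (w : Gp F m)⁻¹ * (gH t)⁻¹ := congrArg Subtype.val e
      by_contra hne
      set z := (w : Gp F m)⁻¹ * v with hz
      have hz1 : z ≠ 1 := fun e => hne (Subtype.ext (inv_mul_eq_one.1 e).symm)
      have hc : gH t ∈ Subgroup.centralizer ({z} : Set (Gp F m)) := by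
        rw [Subgroup.mem_centralizer_singleton_iff]
        calc gH t * z = (w : Gp F m)⁻¹ * ((w : Gp F m) * gH t * (w : Gp F m)⁻¹ * (gH t)⁻¹) *
              gH t * (v : Gp F m) := by rw [hz]; group
          _ = _ := by rw [← e', hz]; group
      obtain ⟨a', b', hab'⟩ := centralizer_gT_le (mul_mem (inv_mem w.2) v.2) hz1 hc
      refine ht (gTH_inj (m := m) (a := (0 : F)) (b := 0) (a' := a') (b' := b') (t := t) (t' := 1) ?_).2.2
      rw [gT_zero, one_mul, hab', map_one, mul_one]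
    obtain ⟨v, hv⟩ := Finite.injective_iff_surjective.1 finj ⟨gT a b, gT_mem a b⟩
    exact ⟨v, congrArg Subtype.val hv⟩
  set k' := (v : Gp F m)⁻¹ * k with hk'
  have hxD : k' * x * k'⁻¹ = gH t := by
    rw [hk', show (v : Gp F m)⁻¹ * k * x * ((v : Gp F m)⁻¹ * k)⁻¹ =
      (v : Gp F m)⁻¹ * (k * x * k⁻¹) * v by group, hab, ← hv]
    group
  have hvfix : (v : Gp F m) • pinf F m = pinf F m := by
    obtain ⟨c, d, hcd⟩ := v.2
    rw [hcd, gT_smul_pinf]
  have hk'B : ∀ h ∈ H, (k' * h * k'⁻¹) • pinf F m = pinf F m := fun h hh => by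
    rw [hk', show (v : Gp F m)⁻¹ * k * h * ((v : Gp F m)⁻¹ * k)⁻¹ =
      (v : Gp F m)⁻¹ * (k * h * k⁻¹) * v by group, mul_smul, mul_smul, hvfix, hB h hh,
      inv_smul_eq_iff, hvfix]
  have hfix1 : k'⁻¹ * gH t * k' ∈ H := by rw [← hxD]; simpa [mul_assoc] using hxH
  have hfix2 : (gW F m * k')⁻¹ * gH t * (gW F m * k') ∈ H := by
    have e : (gW F m)⁻¹ * gH t * gW F m = (gH t)⁻¹ := by
      have := gW_conj_gH (F := F) (m := m) t
      rwa [gW_inv] at this ⊢
    rw [show (gW F m * k')⁻¹ * gH t * (gW F m * k') = k'⁻¹ * ((gW F m)⁻¹ * gH t * gW F m) * k' by group,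
      e, ← hxD]
    simpa [mul_assoc] using hxH
  have htne : gH (m := m) t ≠ 1 := fun e => ht (gH_injective (e.trans (map_one _).symm))
  refine not_binary_of_semisimple hb htne ?_ fun g hg => ?_
  · rw [← hxD, CfsgLib.Ree.orderOf_conj']; exact hodd
  rw [centralizer_gH (gH_mem t) htne]
  have h1 := hk'B _ (conj_mem_of_mem_hat hfix1 hg)
  have h2 := hk'B _ (conj_mem_of_mem_hat hfix2 hg)
  rw [show k' * (k'⁻¹ * g * k') * k'⁻¹ = g by group] at h1
  rw [show k' * ((gW F m * k')⁻¹ * g * (gW F m * k')) * k'⁻¹ = (gW F m)⁻¹ * g * gW F m by group,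
    mul_smul, mul_smul, gW_smul_pinf, inv_smul_eq_iff, gW_smul_pinf] at h2
  exact mem_stab_two h1 h2

/-- A binary stabilizer of odd order is trivial. -/
theorem eq_bot_of_odd {H : Subgroup (Gp F m)} (hb : IsBinary H) (h2 : ¬ 2 ∣ Nat.card H) : H = ⊥ := by
  by_contra hne
  obtain ⟨x, hxH, hx1⟩ := H.bot_or_exists_ne_one.resolve_left hne
  have hodd : ∀ y ∈ H, Odd (orderOf y) := fun y hy =>
    (Nat.not_even_iff_odd.1 fun h => h2 (even_iff_two_dvd.1 h)).of_dvd_nat
      (Subgroup.orderOf_dvd_natCard _ hy)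
  rcases small_of_odd (M := H) h2 with ⟨p, hp⟩ | ⟨T, n, hT, hle⟩
  · exact not_odd_of_fix hb hp hxH hx1 (hodd x hxH)
  · have hHT : H ≤ T := fun y hy => by
      obtain ⟨l, hl⟩ : y ∈ Subgroup.zpowers (y ^ n) := by
        have hco : (orderOf y).Coprime n := by
          rcases hT.tor.two_four with rfl | rfl
          · simpa using coprime_two_pow (F := F) (m := m) (k := 1) (hodd y hy)
          · simpa using coprime_two_pow (F := F) (m := m) (k := 2) (hodd y hy)
        rw [show Subgroup.zpowers (y ^ n) = Subgroup.zpowers y from Subgroup.eq_of_le_of_card_ge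
          (Subgroup.zpowers_le.2 (pow_mem (Subgroup.mem_zpowers y) n))
          (by rw [Nat.card_zpowers, Nat.card_zpowers, hco.orderOf_pow])]
        exact Subgroup.mem_zpowers y
      rw [← hl]
      exact Subgroup.zpow_mem _ (hT.tor.pow_mem (hle hy)) l
    refine not_binary_of_semisimple hb hx1 (hodd x hxH) ?_
    rw [hT.tor.cent x (hHT hxH) hx1]
    exact (hat_le hxH).trans hHT

/-- A binary stabilizer with an involution contains the center of the Sylow subgroup of the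
involution. -/
theorem grpZ_le_of_invol {H : Subgroup (Gp F m)} (hH : H ≠ ⊤) (hb : IsBinary H) {x : Gp F m}
    (hxH : x ∈ H) (hx : orderOf x = 2) :
    ∃ k : Gp F m, ∀ z ∈ grpZ F m, k⁻¹ * z * k ∈ H := by
  obtain ⟨k, hk⟩ := isConj_iff.1 (involution_conj hx).symm
  refine ⟨k, ?_⟩
  set u := gT (m := m) (0 : F) 1 with hu
  have hu1 : u ≠ 1 := gT_ne_one (Or.inr one_ne_zero)
  have hkx : k⁻¹ * u * k ∈ H := by rw [← hk]; simpa [mul_assoc] using hxH
  intro z hz
  suffices hzu : z ∈ hat H u from conj_mem_of_mem_hat hkx hzu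
  have hconj : ∀ w ∈ grpZ F m, w ≠ 1 → IsConj u w := by
    rintro _ ⟨b, rfl⟩ hw
    exact gT_zero_conj b fun e => hw (by rw [e, gT_zero])
  have hUN : grpU F m ≤ Subgroup.normalizer (hat H u : Set (Gp F m)) := by
    refine le_trans ?_ (centralizer_le_normalizer_hat H u)
    rintro _ ⟨a, b, rfl⟩
    rw [Subgroup.mem_centralizer_singleton_iff, hu, gT_mul, gT_mul]
    simp [add_comm b]
  by_cases hUle : grpU F m ≤ hat H u
  · obtain ⟨b, rfl⟩ := hz
    exact hUle (gT_mem 0 b)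
  have hNtop : Subgroup.normalizer (hat H u : Set (Gp F m)) ≠ ⊤ := by
    intro h
    have hn : (hat H u).Normal := Subgroup.normalizer_eq_top_iff.1 h
    haveI := isSimpleGroup_gp (F := F) (m := m)
    rcases hn.eq_bot_or_eq_top with e | e
    · exact hu1 (by simpa [e] using self_mem_hat H u)
    · exact hUle (e ▸ le_top)
  obtain ⟨M, hM, hNM⟩ := (eq_top_or_exists_le_coatom _).resolve_left hNtop
  have hMB := (sylow_unique_maximal (sylowU F m)).2 M hM (by simpa using hUN.trans hNM)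
  rw [coe_sylowU, normalizer_grpU] at hMB
  have hhatB : hat H u ≤ stabilizer (Gp F m) (pinf F m) := fun g hg =>
    hMB ▸ hNM (Subgroup.le_normalizer hg)
  have hhatU : hat H u ≤ grpU F m := by
    intro h hh
    by_contra hhU
    apply hUle
    let f : grpU F m → grpU F m := fun v => ⟨h * v.1 * h⁻¹ * v.1⁻¹,
      mul_mem (grpU_conj_mem v.2 (hhatB hh)) (inv_mem v.2)⟩
    have finj : Function.Injective f := by
      intro v w e
      have e' : h * v.1 * h⁻¹ * v.1⁻¹ = h * w.1 * h⁻¹ * w.1⁻¹ := congrArg Subtype.val e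
      by_contra hne
      set z := w.1⁻¹ * v.1 with hz
      have hzU : z ∈ grpU F m := mul_mem (inv_mem w.2) v.2
      have hz1 : z ≠ 1 := fun e => hne (Subtype.ext (inv_mul_eq_one.1 e).symm)
      apply hhU
      refine centralizer_gT_le hzU hz1 ?_
      rw [Subgroup.mem_centralizer_singleton_iff, ← mul_inv_eq_iff_eq_mul]
      calc h * z * h⁻¹ = (h * w.1 * h⁻¹)⁻¹ * (h * v.1 * h⁻¹ * v.1⁻¹) * v.1 := by rw [hz]; group
        _ = w.1⁻¹ * v.1 := by rw [e']; group
        _ = z := rfl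
    intro w hw
    obtain ⟨v, hv⟩ := (Finite.injective_iff_surjective.1 finj) ⟨w, hw⟩
    have hv' : h * v.1 * h⁻¹ * v.1⁻¹ = w := congrArg Subtype.val hv
    rw [← hv', show h * v.1 * h⁻¹ * v.1⁻¹ = h * (v.1 * h⁻¹ * v.1⁻¹) by group]
    exact mul_mem hh ((Subgroup.mem_normalizer_iff.1 (hUN v.2) h⁻¹).1 (inv_mem hh))
  by_contra hzn
  have hz1 : z ≠ 1 := fun e => hzn (e ▸ one_mem _)
  have huZ : u ∈ grpZ F m := ⟨1, rfl⟩
  have hsq : ∀ w ∈ grpZ F m, w * w = 1 := by
    rintro _ ⟨b, rfl⟩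
    rw [gT_mul, add_zero, mul_zero, add_zero, CharTwo.add_self_eq_zero, gT_zero]
  have hsame : ∀ a b : Gp F m, a ∈ grpZ F m → a ≠ 1 → b ∈ grpZ F m → b ≠ 1 → b ∈ hat H a →
      hat H b = hat H a := fun a b ha ha1 hb' hb1 h => by
    obtain ⟨c, hc⟩ := isConj_iff.1 ((hconj a ha ha1).symm.trans (hconj b hb' hb1))
    exact hat_eq_of_mem hc h
  have huz1 : u * z ≠ 1 := fun e => hzn (by
    rw [eq_inv_of_mul_eq_one_right e]; exact inv_mem (self_mem_hat H u))
  have hcomm : u * z = z * u := by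
    obtain ⟨b, rfl⟩ := hz
    rw [hu, gT_mul, gT_mul]; simp [add_comm]
  obtain ⟨g, hgu, hgz, hgc⟩ := hb.exists_hat (a := u) (b := z) (c := u * z) (by
    rw [hcomm, ← mul_assoc, hsq z hz, one_mul])
  by_cases hg1 : g = 1
  · rw [hg1, inv_one, one_mul] at hgc
    have e := hsame _ _ (mul_mem huZ hz) huz1 huZ hu1 hgc
    apply hzn
    have hm : u * z ∈ hat H u := e ▸ self_mem_hat H (u * z)
    simpa [← mul_assoc, hsq u huZ] using mul_mem (self_mem_hat H u) hm
  · obtain ⟨g', hg'Z, hg'1, hg'u, hg'z⟩ :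
        ∃ g' ∈ grpZ F m, g' ≠ 1 ∧ g' ∈ hat H u ∧ g' ∈ hat H z := by
      by_cases h2 : g ^ 2 = 1
      · exact ⟨g, sq_eq_one_grpU (hhatU hgu) h2, hg1, hgu, hgz⟩
      · refine ⟨g ^ 2, ?_, h2, pow_mem hgu 2, pow_mem hgz 2⟩
        obtain ⟨a, b, hab⟩ := hhatU hgu
        exact ⟨sg F m a * a, by rw [pow_two, hab, gT_sq]⟩
    have e1 := hsame _ _ huZ hu1 hg'Z hg'1 hg'u
    have e2 := hsame _ _ hz hz1 hg'Z hg'1 hg'z
    exact hzn (e1 ▸ e2 ▸ self_mem_hat H z)

/-- A proper subgroup containing the central translations fixes `∞`. -/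
theorem le_stab_of_grpZ {M : Subgroup (Gp F m)} (hM : M ≠ ⊤) (hZ : grpZ F m ≤ M) :
    M ≤ stabilizer (Gp F m) (pinf F m) := by
  have hu : gT (m := m) (0 : F) 1 ∈ grpZ F m := ⟨1, rfl⟩
  have hu1 : gT (m := m) (0 : F) 1 ≠ 1 := gT_ne_one (Or.inr one_ne_zero)
  have hsq : ∀ w ∈ grpZ F m, w * w = 1 := by
    rintro _ ⟨b, rfl⟩
    rw [gT_mul, add_zero, mul_zero, add_zero, CharTwo.add_self_eq_zero, gT_zero]
  have h8 := eight_le_card (F := F) (m := m)
  rcases classify_subgroup hM with (⟨p, hp⟩ | ⟨T, n, hT, hle⟩) | ⟨g, k, hk1, hkm, hkd, hk⟩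
  · rwa [grpU_fix (gT_mem 0 1) hu1 (mem_stabilizer_iff.1 (hp (hZ hu)))] at hp
  · exfalso
    obtain ⟨t, ht⟩ := exists_unit_ne_one (F := F) (m := m)
    set z := gT (m := m) (0 : F) (t : F)
    have hz : z ∈ grpZ F m := ⟨_, rfl⟩
    have hz1 : z ≠ 1 := gT_ne_one (Or.inr t.ne_zero)
    have hne : z ≠ gT (m := m) (0 : F) 1 := fun e => ht (Units.ext (gT_inj e).2)
    have hTne : T ≠ ⊥ := by
      intro e
      have hc := hT.tor.card_normalizer
      rw [e, Subgroup.card_bot, Subgroup.normalizer_eq_top, Subgroup.card_top, natCard_group] at hc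
      have h1 : 64 ≤ Fintype.card F ^ 2 := Nat.pow_le_pow_left h8 2
      have h2 : 64 * 65 * 7 ≤ Fintype.card F ^ 2 * (Fintype.card F ^ 2 + 1) * (Fintype.card F - 1) :=
        Nat.mul_le_mul (Nat.mul_le_mul h1 (by omega)) (by omega)
      rcases hT.tor.two_four with h | h <;> omega
    have hm := hT.tor.mul_invol_mem (hle (hZ hz)) (hsq z hz) hz1 (hle (hZ hu)) (hsq _ hu) hu1 hTne
    have := hT.tor.eq_one_of_sq hm (hsq _ (mul_mem hz hu))
    exact hne (by rw [eq_inv_of_mul_eq_one_left this, inv_eq_of_mul_eq_one_right (hsq _ hu)])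
  · exfalso
    have := Fact.mk Nat.prime_two
    haveI : Finite (GaloisField 2 (2 * k + 1)) :=
      Nat.finite_of_card_ne_zero (by rw [GaloisField.card 2 _ (by omega)]; positivity)
    let hF : Fintype (GaloisField 2 (2 * k + 1)) := Fintype.ofFinite _
    have hcard : Fintype.card (GaloisField 2 (2 * k + 1)) = 2 ^ (2 * k + 1) := by
      rw [← Nat.card_eq_fintype_card, GaloisField.card 2 _ (by omega)]
    haveI : Param (GaloisField 2 (2 * k + 1)) k := ⟨hk1, hcard⟩
    obtain ⟨e⟩ := nonempty_fieldSub_equiv (F := F) (m := m) (GaloisField 2 (2 * k + 1)) (k := k) hkd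
    let φ : grpZ F m →* Gp (GaloisField 2 (2 * k + 1)) k := e.toMonoidHom.comp
      (((MulAut.conj g).toMonoidHom.comp (grpZ F m).subtype).codRestrict (fieldSub F m (2 * k + 1))
        fun z => hk ▸ ⟨z, hZ z.2, rfl⟩)
    have hinj : Function.Injective φ := fun a b h =>
      Subtype.ext ((MulAut.conj g).injective (congrArg Subtype.val (e.injective h)))
    have hcr : Nat.card φ.range = Fintype.card F := by
      rw [← Nat.card_congr (MonoidHom.ofInjective hinj).toEquiv, natCard_grpZ]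
    have hp : IsPGroup 2 φ.range := IsPGroup.of_card (n := 2 * m + 1) (by rw [hcr, hP.card])
    obtain ⟨S, hS⟩ := hp.exists_le_sylow
    obtain ⟨c, hc⟩ := sylow_two_eq_conj S
    have hle : φ.range ≤ (grpZ (GaloisField 2 (2 * k + 1)) k).map (MulAut.conj c).toMonoidHom := by
      intro w hw
      have hwU := hS hw
      rw [hc, mem_map_conj] at hwU
      rw [mem_map_conj]
      refine sq_eq_one_grpU hwU ?_
      obtain ⟨z, rfl⟩ := hw
      have hzz : z * z = 1 := Subtype.ext (hsq _ z.2)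
      rw [pow_two, show c⁻¹ * φ z * c * (c⁻¹ * φ z * c) = c⁻¹ * φ (z * z) * c by rw [map_mul]; group,
        hzz, map_one]
      group
    have := Subgroup.card_le_of_le hle
    rw [hcr, Subgroup.card_map_of_injective (f := (MulAut.conj c).toMonoidHom) (MulAut.conj c).injective,
      natCard_grpZ, hcard, hP.card] at this
    have := Nat.pow_lt_pow_right (show 1 < 2 by omega) (show 2 * k + 1 < 2 * m + 1 by omega)
    omega

theorem exists_fix_four {f : Gp F m} (hf : orderOf f = 4) :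
    ∃ p : Pts F m, f • p = p ∧ ∀ q : Pts F m, f • q = q → q = p := by
  obtain ⟨g, hg⟩ := exists_conj_mem_grpU (k := 2) (x := f) (by simpa using hf)
  have h1 : g * f * g⁻¹ ≠ 1 := fun e => by
    rw [conj_eq_one_iff] at e; rw [e, orderOf_one] at hf; omega
  obtain ⟨a, b, hab⟩ := id hg
  refine ⟨g⁻¹ • pinf F m, ?_, fun q hq => ?_⟩
  · have := gT_smul_pinf (F := F) (m := m) a b
    rw [← hab, mul_smul, mul_smul] at this
    exact eq_inv_smul_iff.2 this
  · refine eq_inv_smul_iff.2 (grpU_fix hg h1 ?_)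
    rw [mul_smul, mul_smul, inv_smul_smul, hq]

/-- A stabilizer inside the translations contains no element of order four. -/
theorem le_grpZ_of_le_grpU {H : Subgroup (Gp F m)} (hb : IsBinary H) {k : Gp F m}
    (hU : ∀ h ∈ H, k * h * k⁻¹ ∈ grpU F m) {y : Gp F m} (hy : y ∈ H) (hy2 : y * y ≠ 1) : False := by
  classical
  have ho : orderOf y = 4 := by
    obtain ⟨a, b, hab⟩ := hU y hy
    refine orderOf_eq_prime_pow (p := 2) (n := 1) (fun h => hy2 ?_) ?_
    · rw [← pow_two]; simpa using h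
    · have h4 : (k * y * k⁻¹) ^ 4 = 1 := by
        rw [hab, show gT (m := m) a b ^ 4 = (gT a b ^ 2) ^ 2 from pow_mul (gT a b) 2 2,
          pow_two (gT a b), gT_sq, pow_two, gT_sq]
        simp [gT_zero]
      rw [conj_pow, conj_eq_one_iff] at h4
      simpa using h4
  -- every element of order at most four fixes cosets, and its closure fixes its point
  have hfour : ∀ f : Gp F m, orderOf f = 4 → ∃ c : Gp F m, c⁻¹ * f * c ∈ H := by
    intro f hf
    rcases four_cases ho with h | h <;> rcases four_cases hf with h' | h'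
    · obtain ⟨c, hc⟩ := isConj_iff.1 (h'.symm.trans h)
      exact ⟨c⁻¹, by rw [inv_inv, hc]; exact hy⟩
    · obtain ⟨c, hc⟩ := isConj_iff.1 h
      obtain ⟨d, hd⟩ := isConj_iff.1 h'
      refine ⟨d * c⁻¹, ?_⟩
      rw [show (d * c⁻¹)⁻¹ * f * (d * c⁻¹) = c * (d⁻¹ * f * d) * c⁻¹ by group, ← hd,
        show c * (d⁻¹ * (d * (gT (m := m) (1 : F) 0)⁻¹ * d⁻¹) * d) * c⁻¹ = (c * gT 1 0 * c⁻¹)⁻¹ by group,
        hc]
      exact inv_mem hy
    · obtain ⟨c, hc⟩ := isConj_iff.1 h
      obtain ⟨d, hd⟩ := isConj_iff.1 h'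
      refine ⟨d * c⁻¹, ?_⟩
      rw [show (d * c⁻¹)⁻¹ * f * (d * c⁻¹) = c * (d⁻¹ * f * d) * c⁻¹ by group, ← hd,
        show c * (d⁻¹ * (d * gT (m := m) (1 : F) 0 * d⁻¹) * d) * c⁻¹ =
          (c * (gT 1 0)⁻¹ * c⁻¹)⁻¹ by group, hc]
      exact inv_mem hy
    · obtain ⟨c, hc⟩ := isConj_iff.1 (h'.symm.trans h)
      exact ⟨c⁻¹, by rw [inv_inv, hc]; exact hy⟩
  have hfixhat : ∀ (w : Gp F m) (c : Gp F m), c⁻¹ * w * c ∈ H → w ≠ 1 → ∀ p : Pts F m, w • p = p →
      ∀ g ∈ hat H w, g • p = p ∧ (g ≠ 1 → ∀ q : Pts F m, g • q = q → q = p) := by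
    intro w c hc hw1 p hp g hg
    have e1 := hU _ hc
    have e2 := hU _ (conj_mem_of_mem_hat hc hg)
    set d := k * c⁻¹ with hd
    rw [show k * (c⁻¹ * w * c) * k⁻¹ = d * w * d⁻¹ by rw [hd]; group] at e1
    rw [show k * (c⁻¹ * g * c) * k⁻¹ = d * g * d⁻¹ by rw [hd]; group] at e2
    have hdp : d • p = pinf F m := grpU_fix e1 (conj_ne_one (F := F) (m := m) hw1 d) (by
      rw [mul_smul, mul_smul, inv_smul_smul, hp])
    refine ⟨?_, fun hg1 q hq => MulAction.injective d ?_⟩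
    · obtain ⟨a, b, hab⟩ := e2
      have := gT_smul_pinf (F := F) (m := m) a b
      rw [← hab, ← hdp, mul_smul, mul_smul, inv_smul_smul] at this
      exact MulAction.injective d this
    · show d • q = d • p
      rw [hdp]
      exact grpU_fix e2 (conj_ne_one (F := F) (m := m) hg1 d) (by
        rw [mul_smul, mul_smul, inv_smul_smul, hq])
  obtain ⟨A, B, R, P, W, FA, FB, tr, St, t, D, -⟩ := exists_char_data (F := F) (m := m)
  have hT := D.torA
  set N := Subgroup.normalizer (A : Set (Gp F m)) with hN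
  obtain ⟨f, hfN, hf4⟩ : ∃ f ∈ N, orderOf f = 4 := by
    have : Fact (Nat.Prime 2) := ⟨Nat.prime_two⟩
    have h4 : 2 ^ 2 ∣ Nat.card N := by rw [hN, hT.card_normalizer]; exact Dvd.intro _ rfl
    obtain ⟨S, hS⟩ := Sylow.exists_subgroup_card_pow_prime 2 h4
    have hA1 : A ≠ ⊥ := by
      intro e
      have := D.five_le
      rw [e, Subgroup.card_bot] at this
      omega
    by_contra hno
    push Not at hno
    have hsq : ∀ s ∈ S, (s : Gp F m) * s = 1 := by
      intro s hs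
      have hd := Subgroup.orderOf_dvd_natCard S hs
      rw [hS] at hd
      obtain ⟨i, hi, ho'⟩ := (Nat.dvd_prime_pow Nat.prime_two).1 hd
      rw [← pow_two]
      refine orderOf_dvd_iff_pow_eq_one.1 ?_
      rw [Subgroup.orderOf_coe, ho']
      rcases (show i = 0 ∨ i = 1 ∨ i = 2 by omega) with rfl | rfl | rfl
      · norm_num
      · norm_num
      · exact absurd (by rw [Subgroup.orderOf_coe, ho']; norm_num) (hno s.1 s.2)
    have hcard2 : Nat.card S ≤ 2 := by
      by_cases hall : ∀ s ∈ S, s = 1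
      · rw [(Subgroup.eq_bot_iff_forall _).2 hall, Subgroup.card_bot]; omega
      push Not at hall
      obtain ⟨t, ht, ht1⟩ := hall
      have ht1' : (t : Gp F m) ≠ 1 := fun e => ht1 (Subtype.ext e)
      have hsub : (S : Set N) ⊆ {1, t} := by
        intro x hx
        by_cases hx1 : x = 1
        · exact Or.inl hx1
        right
        have hm := hT.mul_invol_mem t.2 (hsq t ht) ht1' x.2 (hsq x hx) (fun e => hx1 (Subtype.ext e)) hA1
        have h1 := hT.eq_one_of_sq hm (hsq _ (mul_mem ht hx))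
        exact Subtype.ext (by
          rw [eq_inv_of_mul_eq_one_right h1, inv_eq_of_mul_eq_one_right (hsq t ht)])
      refine le_trans ?_ ((Set.ncard_insert_le _ _).trans (by simp) : ({1, t} : Set N).ncard ≤ 2)
      exact (Nat.card_coe_set_eq _).trans_le (Set.ncard_le_ncard hsub (Set.toFinite _))
    omega
  have hf2 : orderOf (f ^ 2) = 2 := by rw [orderOf_pow' _ (by norm_num), hf4]; rfl
  obtain ⟨a0, ha0, ha01⟩ := A.bot_or_exists_ne_one.resolve_left (fun e => by
      have := D.five_le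
      rw [e, Subgroup.card_bot] at this
      omega)
  have hsurj : ∀ w ∈ N, w ∉ A → ∃ v ∈ A, v * w * v⁻¹ = a0 * w := by
    intro w hwN hwA
    let g : A → A := fun v => ⟨(v : Gp F m) * (w * (v : Gp F m)⁻¹ * w⁻¹),
      mul_mem v.2 ((Subgroup.mem_normalizer_iff.1 hwN _).1 (inv_mem v.2))⟩
    have ginj : Function.Injective g := by
      intro v v' e
      have e' : (v : Gp F m) * (w * (v : Gp F m)⁻¹ * w⁻¹) =
          (v' : Gp F m) * (w * (v' : Gp F m)⁻¹ * w⁻¹) := congrArg Subtype.val e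
      by_contra hne
      set z := (v' : Gp F m)⁻¹ * v with hz
      have hzA : z ∈ A := mul_mem (inv_mem v'.2) v.2
      have hz1 : z ≠ 1 := fun e => hne (Subtype.ext (inv_mul_eq_one.1 e).symm)
      apply hwA
      rw [← hT.cent z hzA hz1, Subgroup.mem_centralizer_singleton_iff, ← mul_inv_eq_iff_eq_mul]
      calc w * z * w⁻¹ = (w * (v' : Gp F m)⁻¹ * w⁻¹) * ((v : Gp F m) * (w * (v : Gp F m)⁻¹ * w⁻¹))⁻¹
            * (v : Gp F m) := by rw [hz]; group
        _ = z := by rw [e', hz]; group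
    obtain ⟨v, hv⟩ := Finite.injective_iff_surjective.1 ginj ⟨a0, ha0⟩
    have hv' : (v : Gp F m) * (w * (v : Gp F m)⁻¹ * w⁻¹) = a0 := congrArg Subtype.val hv
    exact ⟨v, v.2, by rw [← hv']; group⟩
  have hnotA : ∀ w : Gp F m, orderOf w = 2 ∨ orderOf w = 4 → w ∉ A := fun w hw hwA => by
    have h := hT.odd_order hwA
    rcases hw with h' | h' <;> rw [h'] at h <;> simp [Nat.odd_iff] at h
  obtain ⟨v, -, hv⟩ := hsurj f hfN (hnotA f (Or.inr hf4))
  obtain ⟨v', -, hv'⟩ := hsurj (f ^ 2) (pow_mem hfN 2) (hnotA _ (Or.inl hf2))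
  obtain ⟨p, hp, huniq⟩ := exists_fix_four hf4
  obtain ⟨pb, hpb, -⟩ := exists_fix_four (f := a0 * f) (by
    rw [← hv, CfsgLib.Ree.orderOf_conj', hf4])
  obtain ⟨cf, hcf⟩ := hfour f hf4
  obtain ⟨cb, hcb⟩ := hfour (a0 * f) (by rw [← hv, CfsgLib.Ree.orderOf_conj', hf4])
  have hca : ∃ c : Gp F m, c⁻¹ * (a0 * f ^ 2) * c ∈ H := by
    refine ⟨v' * cf, ?_⟩
    rw [show (v' * cf)⁻¹ * (a0 * f ^ 2) * (v' * cf) = (cf⁻¹ * f * cf) ^ 2 by
      rw [← hv', pow_two, pow_two]; group]
    exact pow_mem hcf 2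
  obtain ⟨ca, hca⟩ := hca
  have hffix : (f ^ 2) • p = p := by rw [pow_two, mul_smul, hp, hp]
  set pa := v' • p with hpa_def
  have hpa : (a0 * f ^ 2) • pa = pa := by
    rw [← hv', hpa_def, mul_smul, mul_smul, inv_smul_smul, hffix]
  have hfree : ∀ q : Pts F m, a0 • q ≠ q := D.fpf ha0 ha01
  have ha_ne : a0 * f ^ 2 ≠ 1 := by
    rw [← hv']; exact conj_ne_one (F := F) (m := m) (ne_one_of_prime Nat.prime_two hf2) v'
  have hb_ne : a0 * f ≠ 1 := by
    rw [← hv]
    exact conj_ne_one (F := F) (m := m) (fun e => by rw [e, orderOf_one] at hf4; omega) v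
  have hf_ne : f ≠ 1 := fun e => by rw [e, orderOf_one] at hf4; omega
  obtain ⟨g, hga, hgb, hgc⟩ := hb.exists_hat (a := a0 * f ^ 2) (b := a0 * f) (c := f)
    (by rw [pow_two, mul_assoc])
  by_cases hg : g = 1
  · rw [hg, inv_one, one_mul] at hgc
    have h := (hfixhat f cf hcf hf_ne p hp _ hgc).1
    rw [mul_smul, hffix] at h
    exact hfree p h
  · obtain ⟨hgpa, huga⟩ := hfixhat _ ca hca ha_ne pa hpa g hga
    obtain ⟨hgpb, -⟩ := hfixhat _ cb hcb hb_ne pb hpb g hgb
    have e : pb = pa := huga hg pb hgpb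
    rw [e] at hpb
    have hfpa : f • pa = pa := by
      have : (a0 * f)⁻¹ * (a0 * f ^ 2) = f := by rw [pow_two]; group
      rw [← this, mul_smul, hpa, inv_smul_eq_iff, hpb]
    rw [huniq pa hfpa, mul_smul, hp] at hpb
    exact hfree p hpb

/-- The binary stabilizers of a Suzuki group. -/
theorem binary_cases {H : Subgroup (Gp F m)} (hH : H ≠ ⊤) (hb : IsBinary H) :
    H = ⊥ ∨ ∃ k : Gp F m, H = (grpZ F m).map (MulAut.conj k).toMonoidHom := by
  by_cases h2 : 2 ∣ Nat.card H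
  swap; · exact Or.inl (eq_bot_of_odd hb h2)
  right
  have : Fact (Nat.Prime 2) := ⟨Nat.prime_two⟩
  obtain ⟨⟨x, hxH⟩, hx⟩ := exists_prime_orderOf_dvd_card' 2 h2
  rw [Subgroup.orderOf_mk] at hx
  obtain ⟨k, hk⟩ := grpZ_le_of_invol hH hb hxH hx
  set M := H.map (MulAut.conj k).toMonoidHom with hM
  have hZM : grpZ F m ≤ M := fun z hz => ⟨k⁻¹ * z * k, hk z hz, by simp [mul_assoc]⟩
  have hMtop : M ≠ ⊤ := fun e => hH (Subgroup.map_injective (f := (MulAut.conj k).toMonoidHom)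
    (MulAut.conj k).injective (e.trans (Subgroup.map_top_of_surjective _ (MulAut.conj k).surjective).symm))
  have hB := le_stab_of_grpZ hMtop hZM
  have hB' : H ≤ stabilizer (Gp F m) (k⁻¹ • pinf F m) := fun h hh => by
    have := mem_stabilizer_iff.1 (hB ⟨h, hh, rfl⟩)
    rw [mem_stabilizer_iff, eq_inv_smul_iff, ← mul_smul, ← mul_smul]
    exact this
  have hU : ∀ h ∈ H, k * h * k⁻¹ ∈ grpU F m := by
    intro h hh
    have hfix : (k * h * k⁻¹) • pinf F m = pinf F m := mem_stabilizer_iff.1 (hB ⟨h, hh, rfl⟩)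
    by_cases h2' : ∀ p : ℕ, p.Prime → p ∣ orderOf h → p = 2
    · have := Nat.eq_prime_pow_of_unique_prime_dvd (orderOf_pos h).ne' (fun {d} => h2' d)
      exact mem_grpU_of_fix (x := k * h * k⁻¹) (by rw [CfsgLib.Ree.orderOf_conj']; exact this) hfix
    · push Not at h2'
      obtain ⟨p, hp, hpd, hp2⟩ := h2'
      exfalso
      have ho : orderOf (h ^ (orderOf h / p)) = p :=
        orderOf_pow_orderOf_div (orderOf_pos h).ne' hpd
      exact not_odd_of_fix hb hB' (pow_mem hh _) (ne_one_of_prime hp ho)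
        (by rw [ho]; exact hp.odd_of_ne_two hp2)
  refine ⟨k⁻¹, ?_⟩
  ext y
  rw [mem_map_conj, inv_inv]
  refine ⟨fun hy => ?_, fun hy => by simpa [mul_assoc] using hk _ hy⟩
  refine sq_eq_one_grpU (hU y hy) ?_
  rw [pow_two, show k * y * k⁻¹ * (k * y * k⁻¹) = k * (y * y) * k⁻¹ by group]
  by_cases hy2 : y * y = 1
  · rw [hy2, mul_one, mul_inv_cancel]
  · exact (le_grpZ_of_le_grpU hb hU hy hy2).elim

/-- The action on the cosets of the central translations is binary. -/
theorem binary_grpZ : IsBinary (grpZ F m) := by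
  have hsq : ∀ w ∈ grpZ F m, w * w = 1 := by
    rintro _ ⟨b, rfl⟩
    rw [gT_mul, add_zero, mul_zero, add_zero, CharTwo.add_self_eq_zero, gT_zero]
  refine binary_of_involutions hsq fun x hx hx1 y k hy hc => ?_
  have hxU : x ∈ grpU F m := by obtain ⟨b, rfl⟩ := hx; exact gT_mem 0 b
  have hyU : y ∈ grpU F m :=
    centralizer_gT_le hxU hx1 (Subgroup.mem_centralizer_singleton_iff.2 hc)
  refine sq_eq_one_grpU hyU ?_
  have h := hsq _ hy
  rw [pow_two]
  calc y * y = k * (k⁻¹ * y * k * (k⁻¹ * y * k)) * k⁻¹ := by group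
    _ = 1 := by rw [h]; group

theorem center_map_conj (K : Subgroup (Gp F m)) (k : Gp F m) :
    (Subgroup.center ↥(K.map (MulAut.conj k).toMonoidHom)).map
        (K.map (MulAut.conj k).toMonoidHom).subtype =
      ((Subgroup.center ↥K).map K.subtype).map (MulAut.conj k).toMonoidHom := by
  ext y
  rw [mem_map_conj]
  constructor
  · rintro ⟨⟨z, hz⟩, hc, rfl⟩
    have hzK : k⁻¹ * z * k ∈ K := mem_map_conj.1 hz
    refine ⟨⟨_, hzK⟩, Subgroup.mem_center_iff.2 fun a => Subtype.ext ?_, rfl⟩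
    have h := congrArg Subtype.val (Subgroup.mem_center_iff.1 hc
      ⟨k * a * k⁻¹, mem_map_conj.2 (by simpa [mul_assoc] using a.2)⟩)
    simp only [Subgroup.coe_mul] at h ⊢
    calc (a : Gp F m) * (k⁻¹ * z * k) = k⁻¹ * (k * (a : Gp F m) * k⁻¹ * z) * k := by group
      _ = k⁻¹ * (z * (k * (a : Gp F m) * k⁻¹)) * k := by rw [h]
      _ = _ := by group
  · rintro ⟨⟨z, hzK⟩, hc, he⟩
    have he' : z = k⁻¹ * y * k := he
    subst he'
    refine ⟨⟨y, mem_map_conj.2 hzK⟩, Subgroup.mem_center_iff.2 ?_, rfl⟩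
    rintro ⟨b, hb⟩
    refine Subtype.ext ?_
    have h := congrArg Subtype.val (Subgroup.mem_center_iff.1 hc ⟨_, mem_map_conj.1 hb⟩)
    simp only [Subgroup.coe_mul] at h ⊢
    calc b * y = k * (k⁻¹ * b * k * (k⁻¹ * y * k)) * k⁻¹ := by group
      _ = k * (k⁻¹ * y * k * (k⁻¹ * b * k)) * k⁻¹ := by rw [h]
      _ = _ := by group

theorem conj_grpZ_iff {H : Subgroup (Gp F m)} :
    (∃ k : Gp F m, H = (grpZ F m).map (MulAut.conj k).toMonoidHom) ↔
      ∃ P : Sylow 2 (Gp F m),
        H = (Subgroup.center (P : Subgroup (Gp F m))).map (P : Subgroup (Gp F m)).subtype := by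
  constructor
  · rintro ⟨k, rfl⟩
    refine ⟨k • sylowU F m, ?_⟩
    show _ = (Subgroup.center ↥((grpU F m).map (MulAut.conj k).toMonoidHom)).map
      ((grpU F m).map (MulAut.conj k).toMonoidHom).subtype
    rw [center_map_conj, grpZ_eq_center]
  · rintro ⟨P, rfl⟩
    obtain ⟨k, hk⟩ := sylow_two_eq_conj P
    refine ⟨k, ?_⟩
    rw [congrArg (fun K : Subgroup (Gp F m) => (Subgroup.center ↥K).map K.subtype) hk,
      center_map_conj, grpZ_eq_center]

/-- The binary coset actions of a Suzuki group. -/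
theorem binary_iff {H : Subgroup (Gp F m)} (hH : H ≠ ⊤) :
    IsBinary H ↔ (H = ⊥ ∨ ∃ P : Sylow 2 (Gp F m),
        H = (Subgroup.center (P : Subgroup (Gp F m))).map (P : Subgroup (Gp F m)).subtype) := by
  rw [← conj_grpZ_iff]
  refine ⟨binary_cases hH, ?_⟩
  rintro (rfl | ⟨k, rfl⟩)
  · exact binary_bot'
  · exact binary_grpZ.map (MulAut.conj k)

end CfsgLib.Suzuki

namespace CfsgLib.Suzuki

open CfsgLib.Binary

/-- The binary coset actions of the matrix model of a Suzuki group. -/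
theorem binary_iff_lie {F : Type*} [Field F] [Fintype F] [CharP F 2] {m : ℕ} [hP : Param F m]
    {H : Subgroup (Cfsg.Lie.Sz F (2 ^ (m + 1)))} (hH : H ≠ ⊤) :
    IsBinary H ↔ (H = ⊥ ∨ ∃ P : Sylow 2 (Cfsg.Lie.Sz F (2 ^ (m + 1))),
      H = (Subgroup.center (P : Subgroup (Cfsg.Lie.Sz F (2 ^ (m + 1))))).map
        (P : Subgroup (Cfsg.Lie.Sz F (2 ^ (m + 1)))).subtype) := by
  set e := lieEquiv F m with he
  obtain ⟨K, rfl⟩ : ∃ K : Subgroup (Gp F m), H = K.map e.toMonoidHom :=
    ⟨H.comap e.toMonoidHom, (Subgroup.map_comap_eq_self_of_surjective e.surjective H).symm⟩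
  have hK : K ≠ ⊤ := fun h => hH (by rw [h, Subgroup.map_top_of_surjective _ e.surjective])
  have hinj := Subgroup.map_injective (f := e.toMonoidHom) e.injective
  have hmap : IsBinary (K.map e.toMonoidHom) ↔ IsBinary K := by
    refine ⟨fun h => ?_, fun h => h.map e⟩
    have h' := h.map e.symm
    rwa [Subgroup.map_map, show e.symm.toMonoidHom.comp e.toMonoidHom = MonoidHom.id _ from
      MonoidHom.ext fun x => e.symm_apply_apply x, Subgroup.map_id] at h'
  have hcenter : ∀ S : Subgroup (Gp F m),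
      (Subgroup.center ↥(S.map e.toMonoidHom)).map (S.map e.toMonoidHom).subtype =
        ((Subgroup.center ↥S).map S.subtype).map e.toMonoidHom := by
    intro S
    ext y
    rw [Subgroup.mem_map_equiv]
    constructor
    · rintro ⟨⟨z, hz⟩, hc, rfl⟩
      refine ⟨⟨e.symm z, Subgroup.mem_map_equiv.1 hz⟩, Subgroup.mem_center_iff.2 fun a => Subtype.ext ?_, rfl⟩
      have h := congrArg Subtype.val (Subgroup.mem_center_iff.1 hc ⟨e a, ⟨a, a.2, rfl⟩⟩)
      simp only [Subgroup.coe_mul] at h ⊢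
      apply e.injective
      rw [map_mul, map_mul, e.apply_symm_apply]
      exact h
    · rintro ⟨⟨z, hzS⟩, hc, hze⟩
      have hze' : z = e.symm y := hze
      subst hze'
      refine ⟨⟨y, Subgroup.mem_map_equiv.2 hzS⟩, Subgroup.mem_center_iff.2 ?_, rfl⟩
      rintro ⟨b, hb⟩
      refine Subtype.ext ?_
      have h := congrArg Subtype.val
        (Subgroup.mem_center_iff.1 hc ⟨e.symm b, Subgroup.mem_map_equiv.1 hb⟩)
      simp only [Subgroup.coe_mul] at h ⊢
      apply e.symm.injective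
      rw [map_mul, map_mul]
      exact h
  rw [hmap, binary_iff hK]
  refine or_congr ⟨fun h => by rw [h, Subgroup.map_bot], fun h => hinj (h.trans (Subgroup.map_bot _).symm)⟩
    ⟨?_, ?_⟩
  · rintro ⟨P, rfl⟩
    refine ⟨P.mapSurjective (f := e.toMonoidHom) e.surjective, ?_⟩
    rw [congrArg (fun S : Subgroup (Cfsg.Lie.Sz F (2 ^ (m + 1))) => (Subgroup.center ↥S).map S.subtype)
      (Sylow.coe_mapSurjective e.surjective P), hcenter]
  · rintro ⟨Q, hQ⟩
    have : Fact (Nat.Prime 2) := ⟨Nat.prime_two⟩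
    obtain ⟨P, rfl⟩ := Sylow.mapSurjective_surjective (f := e.toMonoidHom) e.surjective 2 Q
    refine ⟨P, hinj (hQ.trans ?_)⟩
    rw [congrArg (fun S : Subgroup (Cfsg.Lie.Sz F (2 ^ (m + 1))) => (Subgroup.center ↥S).map S.subtype)
      (Sylow.coe_mapSurjective e.surjective P), hcenter]

end CfsgLib.Suzuki
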