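import Cfsg.Agent.Lib.Suzuki.DegreeGraph
import Cfsg.Agent.Lib.Suzuki.ElemTI
import Cfsg.Agent.Lib.Char.Counting

/-!
# The partition of the characters of the Suzuki group, and its conjugacy classes up to type
-/

set_option autoImplicit false
set_option linter.style.haveILetI false
set_option linter.unusedSectionVars false

namespace CfsgLib.Suzuki

open MulAction Cfsg
open scoped ComplexConjugate CfsgLib.Char

variable {F : Type*} [Field F] [Fintype F] [CharP F 2] {m : ℕ} [hP : Param F m]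

include hP

/-- The series and the two families, together with the parameter `t` with `|A| = q + 1 + t`,
`|B| = q + 1 - t`. The roles of `A` and `B` are symmetric. -/
structure CharData (A B : Subgroup (Gp F m)) (R P W FA FB : Finset (IrrCharacter (Gp F m)))
    (tr St : IrrCharacter (Gp F m)) (t : ℤ) : Prop where
  ser : SeriesData R P tr St
  subA : FA ⊆ R
  subB : FB ⊆ R
  subW : W ⊆ R
  splitR : ∀ f : IrrCharacter (Gp F m) → ℂ,
    ∑ φ ∈ R, f φ = ∑ φ ∈ FA, f φ + ∑ φ ∈ FB, f φ + ∑ φ ∈ W, f φ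
  torA : Tor A 4
  torB : Tor B 4
  cardA : (Nat.card A : ℤ) = (Fintype.card F : ℤ) + 1 + t
  cardB : (Nat.card B : ℤ) = (Fintype.card F : ℤ) + 1 - t
  t_sq : t ^ 2 = 2 * (Fintype.card F : ℤ)
  nA : 4 * FA.card + 1 = Nat.card A
  nB : 4 * FB.card + 1 = Nat.card B
  degA : ∀ φ ∈ FA, charDegree (φ : Gp F m → ℂ) = (Fintype.card F - 1) * Nat.card B
  degB : ∀ φ ∈ FB, charDegree (φ : Gp F m → ℂ) = (Fintype.card F - 1) * Nat.card A
  degW : ∀ φ ∈ W, charDegree (φ : Gp F m → ℂ) = (Fintype.card F - 1) * 2 ^ m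
  cardW : W.card = 2
  agreeA : ∀ φ ∈ FA, ∀ ψ ∈ FA, ∀ g : Gp F m, (∀ h : Gp F m, h * g * h⁻¹ ∈ A → g = 1) →
    (φ : Gp F m → ℂ) g = (ψ : Gp F m → ℂ) g
  agreeB : ∀ φ ∈ FB, ∀ ψ ∈ FB, ∀ g : Gp F m, (∀ h : Gp F m, h * g * h⁻¹ ∈ B → g = 1) →
    (φ : Gp F m → ℂ) g = (ψ : Gp F m → ℂ) g
  vanA : ∀ φ ∈ FB, ∀ x ∈ A, x ≠ 1 → (φ : Gp F m → ℂ) x = 0
  vanB : ∀ φ ∈ FA, ∀ x ∈ B, x ≠ 1 → (φ : Gp F m → ℂ) x = 0
  constA : ∀ φ ∈ W, ∃ c : ℤ, |c| ≤ 1 ∧ ∀ x ∈ A, x ≠ 1 → (φ : Gp F m → ℂ) x = (c : ℂ)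
  constB : ∀ φ ∈ W, ∃ c : ℤ, |c| ≤ 1 ∧ ∀ x ∈ B, x ≠ 1 → (φ : Gp F m → ℂ) x = (c : ℂ)

namespace CharData

variable {A B : Subgroup (Gp F m)} {R P W FA FB : Finset (IrrCharacter (Gp F m))}
  {tr St : IrrCharacter (Gp F m)} {t : ℤ}

theorem swap (D : CharData A B R P W FA FB tr St t) : CharData B A R P W FB FA tr St (-t) where
  ser := D.ser
  subA := D.subB
  subB := D.subA
  subW := D.subW
  splitR f := by rw [D.splitR f]; ring
  torA := D.torB
  torB := D.torA
  cardA := by rw [D.cardB]; ring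
  cardB := by rw [D.cardA]; ring
  t_sq := by rw [neg_sq, D.t_sq]
  nA := D.nB
  nB := D.nA
  degA := D.degB
  degB := D.degA
  degW := D.degW
  cardW := D.cardW
  agreeA := D.agreeB
  agreeB := D.agreeA
  vanA := D.vanB
  vanB := D.vanA
  constA := D.constB
  constB := D.constA

end CharData

/-- The data exist, and the two tori catch all elements of prime order dividing `q² + 1`. -/
theorem exists_char_data :
    ∃ (A B : Subgroup (Gp F m)) (R P W FA FB : Finset (IrrCharacter (Gp F m)))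
      (tr St : IrrCharacter (Gp F m)) (t : ℤ),
      CharData A B R P W FA FB tr St t ∧
        ∀ x, IsT x → Subgroup.centralizer {x} ∈ conjs A ∪ conjs B := by
  classical
  haveI : Fintype (Gp F m) := Fintype.ofFinite _
  obtain ⟨R, P, tr, St, S⟩ := exists_series_data (F := F) (m := m)
  have hconst : SeriesConst R := by
    intro φ hφ g g' hg hg'
    rcases S.cover φ hφ with rfl | rfl | h
    · rw [S.tr_apply, S.tr_apply]
    · rw [S.St_free g hg, S.St_free g' hg']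
    · rw [S.P_free φ h g hg, S.P_free φ h g' hg']
  have hcol : SeriesColumn R := by
    intro g hg
    have h := CfsgLib.Char.column_orthogonality g g
    rw [if_pos (IsConj.refl g), S.split, Finset.sum_eq_zero (fun φ hφ => by
      rw [S.P_free φ hφ g hg, zero_mul]), S.St_free g hg, S.tr_apply] at h
    simp only [map_one, mul_one, map_neg, neg_mul, neg_neg, add_zero, Complex.mul_conj,
      ← Complex.ofReal_sum] at h
    refine Complex.ofReal_injective ?_
    push_cast at h ⊢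
    linear_combination h
  obtain ⟨A, B, FA, FB, ⟨hA, hB, -, -, hsum, hprod, -, hcc⟩, ⟨hFA, hFB, hdis, hnA, hnB⟩,
    ⟨hdA, hdB, hdW, hW2⟩, ⟨hagA, hagB, hvA, hvB⟩, hcA, hcB⟩ :=
    exists_families hconst hcol S.R_dvd S.R_sum
  have hs : (Nat.card A : ℤ) + Nat.card B = 2 * (Fintype.card F : ℤ) + 2 := by exact_mod_cast hsum
  have hp : (Nat.card A : ℤ) * Nat.card B = (Fintype.card F : ℤ) ^ 2 + 1 := by exact_mod_cast hprod
  refine ⟨A, B, R, P, R \ (FA ∪ FB), FA, FB, tr, St,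
    (Nat.card A : ℤ) - (Fintype.card F : ℤ) - 1,
    ⟨S, hFA, hFB, Finset.sdiff_subset, ?_, hA, hB, by ring, by linarith, ?_, hnA, hnB, hdA, hdB,
      hdW, hW2, hagA, hagB, hvA, hvB, hcA, hcB⟩, hcc⟩
  · intro f
    rw [← Finset.sum_sdiff (Finset.union_subset hFA hFB), Finset.sum_union hdis]
    ring
  · linear_combination (Nat.card A : ℤ) * hs - hp

/-- An element of a torus with normaliser quotient of even order is conjugate to its inverse. -/
theorem Tor.isConj_inv {X : Subgroup (Gp F m)} (hX : Tor X 4) {x : Gp F m} (hx : x ∈ X) :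
    IsConj x x⁻¹ := by
  set N := Subgroup.normalizer (X : Set (Gp F m)) with hN
  have h2 : 2 ∣ Nat.card N := by rw [hN, hX.card_normalizer]; exact dvd_mul_of_dvd_left (by norm_num) _
  haveI := Fact.mk Nat.prime_two
  obtain ⟨⟨s, hs⟩, hs2⟩ := exists_prime_orderOf_dvd_card' 2 h2
  rw [Subgroup.orderOf_mk] at hs2
  have hsX : s ∉ X := fun h =>
    hX.odd.not_two_dvd_nat (hs2 ▸ Subgroup.orderOf_dvd_natCard X h)
  have hss : s * s = 1 := by
    rw [← pow_two]
    exact hs2 ▸ pow_orderOf_eq_one s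
  have hsinv : s⁻¹ = s := inv_eq_of_mul_eq_one_right hss
  have hy : s * x * s⁻¹ ∈ X := (Subgroup.mem_normalizer_iff.1 hs x).1 hx
  set u := x * (s * x * s⁻¹) with hu
  have huX : u ∈ X := mul_mem hx hy
  have hu1 : u = 1 := by
    by_contra hu1
    refine hsX ((hX.cent u huX hu1) ▸ Subgroup.mem_centralizer_singleton_iff.2 ?_)
    have e : s * u * s⁻¹ = u := by
      calc s * u * s⁻¹ = (s * x * s⁻¹) * (s * s * x * s⁻¹ * s⁻¹) := by rw [hu]; group
        _ = (s * x * s⁻¹) * x := by rw [hsinv, hss, one_mul, mul_assoc x, hss, mul_one]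
        _ = x * (s * x * s⁻¹) := hX.comm _ hy _ hx
    exact mul_inv_eq_iff_eq_mul.1 e
  exact isConj_iff.2 ⟨s, (inv_eq_of_mul_eq_one_right hu1).symm⟩

/-- The values of an irreducible character at a torus element are real. -/
theorem Tor.conj_apply {X : Subgroup (Gp F m)} (hX : Tor X 4) {x : Gp F m} (hx : x ∈ X)
    (φ : IrrCharacter (Gp F m)) : conj ((φ : Gp F m → ℂ) x) = (φ : Gp F m → ℂ) x := by
  haveI : Fintype (Gp F m) := Fintype.ofFinite _
  obtain ⟨c, hc⟩ := isConj_iff.1 (hX.isConj_inv hx)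
  rw [← CfsgLib.Char.irr_inv, ← hc]
  exact CfsgLib.Char.isClassFunction_irr φ x c

/-- The centraliser of a central translation is the translation group. -/
theorem centralizer_grpZ {z : Gp F m} (hz : z ∈ grpZ F m) (h1 : z ≠ 1) :
    Subgroup.centralizer ({z} : Set (Gp F m)) = grpU F m := by
  have hzU : z ∈ grpU F m := by obtain ⟨b, rfl⟩ := hz; exact gT_mem 0 b
  refine le_antisymm (centralizer_gT_le hzU h1) fun c hc => ?_
  obtain ⟨b, rfl⟩ := hz
  obtain ⟨x, y, rfl⟩ := hc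
  rw [Subgroup.mem_centralizer_singleton_iff, gT_mul, gT_mul]
  simp [add_comm y b]

/-- A translation outside the centre has centraliser of order at most `2q`. -/
theorem card_centralizer_grpU_le {u : Gp F m} (hu : u ∈ grpU F m) (hz : u ∉ grpZ F m) :
    Nat.card ↥(Subgroup.centralizer ({u} : Set (Gp F m))) ≤ 2 * Fintype.card F := by
  classical
  obtain ⟨a, b, rfl⟩ := hu
  have ha : a ≠ 0 := fun h => hz ⟨b, by rw [h]⟩
  have h1 : gT (m := m) a b ≠ 1 := fun h => hz (h ▸ one_mem _)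
  have hle := centralizer_gT_le (gT_mem (m := m) a b) h1
  have hcoord : ∀ c : ↥(Subgroup.centralizer ({gT (m := m) a b} : Set (Gp F m))),
      ∃ (i : Bool) (y : F), (c : Gp F m) = gT (bif i then a else 0) y := by
    intro c
    obtain ⟨x, y, hxy⟩ := hle c.2
    have hc := Subgroup.mem_centralizer_singleton_iff.1 c.2
    rw [hxy, gT_mul, gT_mul] at hc
    have e : sg F m x * a = sg F m a * x := by linear_combination (gT_inj hc).2
    rcases sg_fix hP.card (x := x / a) (by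
      rw [map_div₀, div_eq_div_iff ((map_ne_zero (sg F m)).2 ha) ha, e, mul_comm]) with h | h
    · exact ⟨false, y, by rw [hxy, (div_eq_zero_iff.1 h).resolve_right ha]; rfl⟩
    · exact ⟨true, y, by rw [hxy, (div_eq_one_iff_eq ha).1 h]; rfl⟩
  choose i y hiy using hcoord
  refine (Nat.card_le_card_of_injective (fun c => (i c, y c)) fun c c' h => ?_).trans
    (le_of_eq (by rw [Nat.card_prod, Nat.card_eq_fintype_card, Fintype.card_bool,
      Nat.card_eq_fintype_card]))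
  obtain ⟨h1, h2⟩ := Prod.mk.inj h
  exact Subtype.ext (by rw [hiy c, hiy c', h1, h2])

/-- Two nontrivial central translations are conjugate. -/
theorem isConj_grpZ {z w : Gp F m} (hz : z ∈ grpZ F m) (hw : w ∈ grpZ F m) (hz1 : z ≠ 1)
    (hw1 : w ≠ 1) : IsConj z w := by
  obtain ⟨b, rfl⟩ := hz
  obtain ⟨d, rfl⟩ := hw
  have hb : b ≠ 0 := fun h => hz1 (by rw [h, gT_zero])
  have hd : d ≠ 0 := fun h => hw1 (by rw [h, gT_zero])
  obtain ⟨s, hs⟩ := zFac_surjective (m := m) (div_ne_zero hd hb)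
  exact isConj_iff.2 ⟨gH s, by rw [gH_conj_zero, hs, div_mul_cancel₀ _ hb]⟩

/-- Every nonidentity element is conjugate to one of the five types. -/
theorem classify_five {A B : Subgroup (Gp F m)}
    (hcc : ∀ x, IsT x → Subgroup.centralizer {x} ∈ conjs A ∪ conjs B) {g : Gp F m} (h1 : g ≠ 1) :
    ∃ h : Gp F m, h * g * h⁻¹ ∈ grpZ F m ∨ (h * g * h⁻¹ ∈ grpU F m ∧ h * g * h⁻¹ ∉ grpZ F m) ∨
      h * g * h⁻¹ ∈ grpH F m ∨ h * g * h⁻¹ ∈ A ∨ h * g * h⁻¹ ∈ B := by
  rcases classify g with h | ⟨h, hh, -⟩ | ⟨h, hh, -⟩ | h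
  · exact absurd h h1
  · refine ⟨h, ?_⟩
    by_cases hz : h * g * h⁻¹ ∈ grpZ F m
    · exact Or.inl hz
    · exact Or.inr (Or.inl ⟨hh, hz⟩)
  · exact ⟨h, Or.inr (Or.inr (Or.inl hh))⟩
  · obtain ⟨w, hw, k, hk, -⟩ := singT_mem h
    rcases hcc w hw with ⟨c, hc⟩ | ⟨c, hc⟩ <;> rw [hc, SetLike.mem_coe, mem_map_conj] at hk
    · exact ⟨c⁻¹ * k, Or.inr (Or.inr (Or.inr (Or.inl (by
        rw [show c⁻¹ * k * g * (c⁻¹ * k)⁻¹ = c⁻¹ * (k * g * k⁻¹) * c by group]; exact hk))))⟩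
    · exact ⟨c⁻¹ * k, Or.inr (Or.inr (Or.inr (Or.inr (by
        rw [show c⁻¹ * k * g * (c⁻¹ * k)⁻¹ = c⁻¹ * (k * g * k⁻¹) * c by group]; exact hk))))⟩

end CfsgLib.Suzuki
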