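import Cfsg.Agent.Lib.Suzuki.CharData

/-!
# The character values of the Suzuki group at the tori and at the Sylow 2-subgroup
-/

set_option autoImplicit false
set_option linter.style.haveILetI false
set_option linter.unusedSectionVars false

namespace CfsgLib.Suzuki

open MulAction Cfsg
open scoped ComplexConjugate CfsgLib.Char

/-- A quadratic `q K² + 2 c K` with `|2c| < q` is positive away from zero. -/
theorem quad_pos {q c K : ℤ} (h : |2 * c| < q) : 0 ≤ 2 * c * K + q * K ^ 2 ∧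
    (2 * c * K + q * K ^ 2 = 0 → K = 0) ∧ (K ≠ 0 → q - |2 * c| ≤ 2 * c * K + q * K ^ 2) := by
  have h1 := abs_lt.mp h
  have key : K ≠ 0 → q - |2 * c| ≤ 2 * c * K + q * K ^ 2 := by
    intro hK
    have h2 : 1 ≤ |K| := Int.one_le_abs hK
    have h3 : -(|2 * c| * |K|) ≤ 2 * c * K := by rw [← abs_mul]; exact neg_abs_le _
    have h4 : K ^ 2 = |K| * |K| := by rw [abs_mul_abs_self, sq]
    rw [h4]
    nlinarith [abs_nonneg (2 * c), mul_le_mul_of_nonneg_left h2 (show 0 ≤ q by linarith [abs_nonneg (2*c)]),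
      mul_nonneg (show 0 ≤ q - |2 * c| by linarith) (show 0 ≤ |K| - 1 by linarith)]
  rcases eq_or_ne K 0 with rfl | hK
  · simp
  · have := key hK
    exact ⟨by linarith, fun e => absurd e (by linarith), fun _ => this⟩

/-- The congruences and the norm pin the values at an involution. -/
theorem involution_arith {q h t n n' Pc k j i l : ℤ} (hh : h = 2 ∨ 4 ≤ h) (hq : q = 2 * h ^ 2)
    (ht : t = 2 * h ∨ t = -(2 * h)) (hPc : 2 * Pc + 2 = q) (hn : 4 * n = q + t)
    (hn' : 4 * n' = q - t) (hk : q ∣ (t - 1) - k) (hj : q ∣ (-t - 1) - j) (hi : q ∣ -h - i)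
    (hl : q ∣ -h - l) (hnorm : 1 + Pc + n * k ^ 2 + n' * j ^ 2 + i ^ 2 + l ^ 2 = q ^ 2) :
    k = t - 1 ∧ j = -t - 1 ∧ i = -h ∧ l = -h := by
  obtain ⟨K, hK⟩ := hk
  obtain ⟨J, hJ⟩ := hj
  obtain ⟨I, hI⟩ := hi
  obtain ⟨L, hL⟩ := hl
  obtain ⟨K, rfl⟩ : ∃ K', K = -K' := ⟨-K, (neg_neg K).symm⟩
  obtain ⟨J, rfl⟩ : ∃ J', J = -J' := ⟨-J, (neg_neg J).symm⟩
  obtain ⟨I, rfl⟩ : ∃ I', I = -I' := ⟨-I, (neg_neg I).symm⟩
  obtain ⟨L, rfl⟩ : ∃ L', L = -L' := ⟨-L, (neg_neg L).symm⟩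
  have ek : k = t - 1 + q * K := by linarith
  have ej : j = -t - 1 + q * J := by linarith
  have ei : i = -h + q * I := by linarith
  have el : l = -h + q * L := by linarith
  subst ek ej ei el
  have hh0 : 0 < h := by rcases hh with rfl | h' <;> linarith
  have hq0 : 0 < q := by rw [hq]; positivity
  have e : q * (n * (2 * (t - 1) * K + q * K ^ 2) + n' * (2 * (-t - 1) * J + q * J ^ 2) +
      (2 * -h * I + q * I ^ 2) + (2 * -h * L + q * L ^ 2)) = 0 := by
    have ht2 : t ^ 2 = 4 * h ^ 2 := by rcases ht with rfl | rfl <;> ring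
    have h2 : 2 * (1 + Pc + n * (t - 1) ^ 2 + n' * (-t - 1) ^ 2 + 2 * h ^ 2) = 2 * q ^ 2 := by
      have e1 : 4 * (n * (t - 1) ^ 2 + n' * (-t - 1) ^ 2) = 2 * q * (t ^ 2 + 1) - 4 * t ^ 2 := by
        linear_combination (t - 1) ^ 2 * hn + (-t - 1) ^ 2 * hn'
      nlinarith [hq, ht2, hPc, e1]
    linarith
  have e0 := (mul_eq_zero.mp e).resolve_left hq0.ne'
  have hhh : h < h ^ 2 := by rcases hh with rfl | h' <;> nlinarith
  have qI := quad_pos (c := -h) (K := I) (q := q) (by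
    rw [abs_lt, hq]; constructor <;> linarith)
  have qL := quad_pos (c := -h) (K := L) (q := q) (by
    rw [abs_lt, hq]; constructor <;> linarith)
  have hn0 : 0 < n := by rcases ht with rfl | rfl <;> linarith
  have hn'0 : 0 < n' := by rcases ht with rfl | rfl <;> linarith
  suffices K = 0 ∧ J = 0 ∧ I = 0 ∧ L = 0 by
    obtain ⟨rfl, rfl, rfl, rfl⟩ := this
    simp
  rcases hh with rfl | h4
  · -- `q = 8`
    norm_num at hq
    subst hq
    rcases ht with rfl | rfl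
    · have e1 : n = 3 := by linarith
      have e2 : n' = 1 := by linarith
      subst e1 e2
      norm_num at e0
      have qK := quad_pos (c := 3) (K := K) (q := 8) (by norm_num)
      have hJ' : -2 ≤ 2 * (-5) * J + 8 * J ^ 2 ∧ (2 * (-5) * J + 8 * J ^ 2 = 0 → J = 0) := by
        rcases le_or_gt J 0 with hJ0 | hJ0
        · exact ⟨by nlinarith, fun h0 => by nlinarith⟩
        · exact ⟨by nlinarith, fun h0 => by
            rcases mul_eq_zero.mp (show J * (8 * J - 10) = 0 by linarith) with h' | h' <;> omega⟩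
      norm_num at qI qL qK hJ'
      have hK0 : K = 0 := by
        by_contra h0
        have := qK.2.2 h0
        linarith [qI.1, qL.1, hJ'.1]
      have hI0 : I = 0 := by
        by_contra h0
        have := qI.2.2 h0
        linarith [qK.1, qL.1, hJ'.1]
      have hL0 : L = 0 := by
        by_contra h0
        have := qL.2.2 h0
        linarith [qK.1, qI.1, hJ'.1]
      subst hK0 hI0 hL0
      exact ⟨rfl, hJ'.2 (by linarith), rfl, rfl⟩
    · have e1 : n = 1 := by linarith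
      have e2 : n' = 3 := by linarith
      subst e1 e2
      norm_num at e0
      have qJ := quad_pos (c := 3) (K := J) (q := 8) (by norm_num)
      have hK' : -2 ≤ 2 * (-5) * K + 8 * K ^ 2 ∧ (2 * (-5) * K + 8 * K ^ 2 = 0 → K = 0) := by
        rcases le_or_gt K 0 with hK0 | hK0
        · exact ⟨by nlinarith, fun h0 => by nlinarith⟩
        · exact ⟨by nlinarith, fun h0 => by
            rcases mul_eq_zero.mp (show K * (8 * K - 10) = 0 by linarith) with h' | h' <;> omega⟩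
      norm_num at qI qL qJ hK'
      have hJ0 : J = 0 := by
        by_contra h0
        have := qJ.2.2 h0
        linarith [qI.1, qL.1, hK'.1]
      have hI0 : I = 0 := by
        by_contra h0
        have := qI.2.2 h0
        linarith [qJ.1, qL.1, hK'.1]
      have hL0 : L = 0 := by
        by_contra h0
        have := qL.2.2 h0
        linarith [qJ.1, qI.1, hK'.1]
      subst hJ0 hI0 hL0
      exact ⟨hK'.2 (by linarith), rfl, rfl, rfl⟩
  · have qK := quad_pos (c := t - 1) (K := K) (q := q) (by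
      rw [abs_lt, hq]; rcases ht with rfl | rfl <;> constructor <;> nlinarith)
    have qJ := quad_pos (c := -t - 1) (K := J) (q := q) (by
      rw [abs_lt, hq]; rcases ht with rfl | rfl <;> constructor <;> nlinarith)
    have h1 := mul_nonneg hn0.le qK.1
    have h2 := mul_nonneg hn'0.le qJ.1
    refine ⟨qK.2.1 ?_, qJ.2.1 ?_, qI.2.1 (by linarith [qI.1, qL.1]), qL.2.1 (by linarith [qI.1, qL.1])⟩
    · exact (mul_eq_zero.mp (by linarith [qI.1, qL.1] :
        n * (2 * (t - 1) * K + q * K ^ 2) = 0)).resolve_left hn0.ne'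
    · exact (mul_eq_zero.mp (by linarith [qI.1, qL.1] :
        n' * (2 * (-t - 1) * J + q * J ^ 2) = 0)).resolve_left hn'0.ne'

variable {F : Type*} [Field F] [Fintype F] [CharP F 2] {m : ℕ} [hP : Param F m]

include hP

theorem card_eq_two_mul_sq : (Fintype.card F : ℤ) = 2 * ((2 : ℤ) ^ m) ^ 2 := by
  rw [hP.card, ← pow_mul]; push_cast; ring

theorem two_pow_cases : (2 : ℤ) ^ m = 2 ∨ 4 ≤ (2 : ℤ) ^ m := by
  rcases Nat.lt_or_ge 1 m with h | h
  · right
    calc (4 : ℤ) = 2 ^ 2 := by norm_num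
      _ ≤ 2 ^ m := pow_le_pow_right₀ (by norm_num) h
  · left
    rw [show m = 1 by have := hP.one_le; omega, pow_one]

namespace CharData

variable {A B : Subgroup (Gp F m)} {R P W FA FB : Finset (IrrCharacter (Gp F m))}
  {tr St : IrrCharacter (Gp F m)} {t : ℤ}

theorem t_cases (D : CharData A B R P W FA FB tr St t) : t = 2 * 2 ^ m ∨ t = -(2 * 2 ^ m) :=
  sq_eq_sq_iff_eq_or_eq_neg.mp (by rw [D.t_sq, card_eq_two_mul_sq (m := m)]; ring)

theorem dvd_sq (D : CharData A B R P W FA FB tr St t) : Nat.card A ∣ Fintype.card F ^ 2 + 1 := by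
  refine ⟨Nat.card B, ?_⟩
  have h : ((Fintype.card F ^ 2 + 1 : ℕ) : ℤ) = ((Nat.card A * Nat.card B : ℕ) : ℤ) := by
    push_cast
    rw [D.cardA, D.cardB]
    linear_combination D.t_sq
  exact_mod_cast h

theorem five_le (D : CharData A B R P W FA FB tr St t) : 5 ≤ Nat.card A := by
  have h8 := eight_le_card (F := F) (m := m)
  have hq := card_eq_two_mul_sq (F := F) (m := m)
  have h2 : (2 : ℤ) ≤ 2 ^ m := by
    rcases two_pow_cases (F := F) (m := m) with h | h <;> linarith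
  have ha := D.cardA
  rcases D.t_cases with h | h <;> rw [h] at ha <;>
    · have : (5 : ℤ) ≤ Nat.card A := by nlinarith
      exact_mod_cast this

theorem nonempty (D : CharData A B R P W FA FB tr St t) : FA.Nonempty := by
  have := D.five_le
  have := D.nA
  exact Finset.card_pos.mp (by omega)

theorem fpf (D : CharData A B R P W FA FB tr St t) {x : Gp F m} (hx : x ∈ A) (h1 : x ≠ 1) :
    ∀ p : Pts F m, x • p ≠ p :=
  fixed_point_free D.dvd_sq hx h1

theorem notA_of_U (D : CharData A B R P W FA FB tr St t) {g : Gp F m} (hg : g ∈ grpU F m) :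
    ∀ h : Gp F m, h * g * h⁻¹ ∈ A → g = 1 := by
  intro h hh
  have h1 : orderOf g ∣ Fintype.card F ^ 2 + 1 :=
    (CfsgLib.Ree.orderOf_conj' h g ▸ Subgroup.orderOf_dvd_natCard _ hh).trans D.dvd_sq
  have h2 : orderOf g ∣ Fintype.card F ^ 2 := by
    rw [← natCard_grpU (F := F) (m := m)]; exact Subgroup.orderOf_dvd_natCard _ hg
  exact orderOf_eq_one_iff.1 (Nat.eq_one_of_dvd_coprimes
    (coprime_card_sq_right (F := F) (m := m)) h1 (h2.mul_right _))

theorem not_isConj_U (D : CharData A B R P W FA FB tr St t) {x g : Gp F m} (hx : x ∈ A)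
    (h1 : x ≠ 1) (hg : g ∈ grpU F m) : ¬IsConj x g := by
  intro h
  obtain ⟨c, hc⟩ := isConj_iff.1 h.symm
  have := D.notA_of_U hg c (hc ▸ hx)
  rw [this, mul_one, mul_inv_cancel] at hc
  exact h1 hc.symm

theorem expand (D : CharData A B R P W FA FB tr St t) (f : IrrCharacter (Gp F m) → ℂ) :
    ∑ φ, f φ = f tr + f St + ∑ φ ∈ P, f φ + ∑ φ ∈ FA, f φ + ∑ φ ∈ FB, f φ + ∑ φ ∈ W, f φ := by
  rw [D.ser.split, D.splitR]; ring

theorem degA_apply (D : CharData A B R P W FA FB tr St t) {φ : IrrCharacter (Gp F m)}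
    (hφ : φ ∈ FA) : (φ : Gp F m → ℂ) 1 =
      ((Fintype.card F : ℂ) - 1) * ((Fintype.card F : ℂ) + 1 - (t : ℂ)) := by
  have h8 := eight_le_card (F := F) (m := m)
  haveI : Fintype (Gp F m) := Fintype.ofFinite _
  rw [(CfsgLib.Blocks.irr_degree_eq φ).1, D.degA φ hφ, Nat.cast_mul, Nat.cast_sub (by omega),
    Nat.cast_one]
  congr 1
  have h : ((Nat.card B : ℤ) : ℂ) = (((Fintype.card F : ℤ) + 1 - t : ℤ) : ℂ) := by rw [D.cardB]
  push_cast at h
  exact h

theorem degW_apply (D : CharData A B R P W FA FB tr St t) {φ : IrrCharacter (Gp F m)}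
    (hφ : φ ∈ W) : (φ : Gp F m → ℂ) 1 = ((Fintype.card F : ℂ) - 1) * (2 : ℂ) ^ m := by
  have h8 := eight_le_card (F := F) (m := m)
  haveI : Fintype (Gp F m) := Fintype.ofFinite _
  rw [(CfsgLib.Blocks.irr_degree_eq φ).1, D.degW φ hφ, Nat.cast_mul, Nat.cast_sub (by omega),
    Nat.cast_one, Nat.cast_pow, Nat.cast_ofNat]

theorem P_cardC (D : CharData A B R P W FA FB tr St t) :
    2 * (P.card : ℂ) + 2 = (Fintype.card F : ℂ) := by exact_mod_cast D.ser.P_card

theorem nA_cast (D : CharData A B R P W FA FB tr St t) :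
    4 * (FA.card : ℤ) = (Fintype.card F : ℤ) + t := by
  have h := congrArg (fun n : ℕ => (n : ℤ)) D.nA
  push_cast at h
  linarith [D.cardA]

/-- The values at an involution. -/
theorem z_values (D : CharData A B R P W FA FB tr St t) {z : Gp F m} (hz : z ∈ grpZ F m)
    (h1 : z ≠ 1) :
    (∀ φ ∈ FA, (φ : Gp F m → ℂ) z = (t : ℂ) - 1) ∧
      (∀ φ ∈ FB, (φ : Gp F m → ℂ) z = -(t : ℂ) - 1) ∧
      ∀ φ ∈ W, (φ : Gp F m → ℂ) z = -(2 : ℂ) ^ m := by
  classical
  haveI : Fintype (Gp F m) := Fintype.ofFinite _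
  set q := Fintype.card F with hq
  have h8 : 8 ≤ q := eight_le_card (F := F) (m := m)
  have hzU : z ∈ grpU F m := by obtain ⟨b, rfl⟩ := hz; exact gT_mem 0 b
  have hint : ∀ φ : IrrCharacter (Gp F m), ∃ k : ℤ, (φ : Gp F m → ℂ) z = (k : ℂ) ∧
      (q : ℤ) ∣ (charDegree (φ : Gp F m → ℂ) : ℤ) - k := by
    intro φ
    obtain ⟨k, hk, hd⟩ := CfsgLib.Char.exists_int_of_constant (grpZ F m) (by
        rintro _ ⟨b, rfl⟩ _ ⟨d, rfl⟩
        rw [gT_mul, gT_mul]; simp [add_comm])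
      (fun h => by
        have h2 := natCard_grpZ (F := F) (m := m)
        rw [h, Subgroup.card_bot] at h2; omega) φ (c := (φ : Gp F m → ℂ) z)
      (fun x hx hx1 => by
        obtain ⟨c, hc⟩ := isConj_iff.1 (isConj_grpZ hz hx h1 hx1)
        rw [← hc]; exact CfsgLib.Char.isClassFunction_irr φ z c)
      (CfsgLib.Blocks.irr_degree_eq φ).1
    rw [natCard_grpZ] at hd
    exact ⟨k, hk, hd⟩
  choose k hk hkd using hint
  obtain ⟨φA, hφA⟩ := D.nonempty
  obtain ⟨φB, hφB⟩ := D.swap.nonempty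
  have hkA : ∀ φ ∈ FA, k φ = k φA := fun φ hφ => by
    have h := D.agreeA φ hφ φA hφA z (D.notA_of_U hzU)
    rw [hk, hk] at h
    exact_mod_cast h
  have hkB : ∀ φ ∈ FB, k φ = k φB := fun φ hφ => by
    have h := D.agreeB φ hφ φB hφB z (D.swap.notA_of_U hzU)
    rw [hk, hk] at h
    exact_mod_cast h
  obtain ⟨u, w, huw, hWe⟩ := Finset.card_eq_two.mp D.cardW
  have hu : u ∈ W := by simp [hWe]
  have hw : w ∈ W := by simp [hWe]
  have hnorm : 1 + (P.card : ℤ) + FA.card * k φA ^ 2 + FB.card * k φB ^ 2 + k u ^ 2 + k w ^ 2 =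
      (q : ℤ) ^ 2 := by
    have h := CfsgLib.Char.column_orthogonality z z
    rw [if_pos (IsConj.refl z), centralizer_grpZ hz h1, natCard_grpU, D.expand, D.ser.tr_apply,
      D.ser.St_U z hzU h1,
      Finset.sum_congr rfl (s₁ := P) (g := fun _ => (1 : ℂ)) (fun φ hφ => by
        rw [D.ser.P_U φ hφ z hzU h1, map_one, mul_one]),
      Finset.sum_congr rfl (s₁ := FA) (g := fun _ => (k φA : ℂ) ^ 2) (fun φ hφ => by
        rw [hk, hkA φ hφ, map_intCast, sq]),
      Finset.sum_congr rfl (s₁ := FB) (g := fun _ => (k φB : ℂ) ^ 2) (fun φ hφ => by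
        rw [hk, hkB φ hφ, map_intCast, sq]),
      hWe, Finset.sum_pair huw, hk u, hk w, map_intCast, map_intCast] at h
    simp only [Finset.sum_const, nsmul_eq_mul, mul_one, map_zero, mul_zero, map_one, add_zero] at h
    push_cast at h
    have h' : (((1 + (P.card : ℤ) + FA.card * k φA ^ 2 + FB.card * k φB ^ 2 + k u ^ 2 + k w ^ 2 : ℤ)) : ℂ)
        = (((q : ℤ) ^ 2 : ℤ) : ℂ) := by
      push_cast
      linear_combination h
    exact_mod_cast h'
  have hdegA : (q : ℤ) ∣ (t - 1) - k φA := by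
    have h := hkd φA
    rw [D.degA φA hφA, Nat.cast_mul, Nat.cast_sub (by omega : 1 ≤ Fintype.card F), Nat.cast_one,
      D.cardB, ← hq] at h
    obtain ⟨c, hc⟩ := h
    exact ⟨c - ((q : ℤ) - t), by linear_combination hc⟩
  have hdegB : (q : ℤ) ∣ (-t - 1) - k φB := by
    have h := hkd φB
    rw [D.degB φB hφB, Nat.cast_mul, Nat.cast_sub (by omega : 1 ≤ Fintype.card F), Nat.cast_one,
      D.cardA, ← hq] at h
    obtain ⟨c, hc⟩ := h
    exact ⟨c - ((q : ℤ) + t), by linear_combination hc⟩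
  have hdegW : ∀ φ ∈ W, (q : ℤ) ∣ -(2 : ℤ) ^ m - k φ := by
    intro φ hφ
    have h := hkd φ
    rw [D.degW φ hφ, Nat.cast_mul, Nat.cast_sub (by omega : 1 ≤ Fintype.card F), Nat.cast_one,
      Nat.cast_pow, Nat.cast_ofNat, ← hq] at h
    obtain ⟨c, hc⟩ := h
    exact ⟨c - (2 : ℤ) ^ m, by linear_combination hc⟩
  obtain ⟨eA, eB, eu, ew⟩ := involution_arith (two_pow_cases (F := F) (m := m))
    (card_eq_two_mul_sq (F := F) (m := m)) D.t_cases
    (show 2 * (P.card : ℤ) + 2 = (q : ℤ) by exact_mod_cast D.ser.P_card)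
    D.nA_cast (by rw [D.swap.nA_cast]; ring) hdegA hdegB (hdegW u hu) (hdegW w hw) hnorm
  refine ⟨fun φ hφ => ?_, fun φ hφ => ?_, fun φ hφ => ?_⟩
  · rw [hk, hkA φ hφ, eA]; push_cast; rfl
  · rw [hk, hkB φ hφ, eB]; push_cast; rfl
  · rw [hWe, Finset.mem_insert, Finset.mem_singleton] at hφ
    rcases hφ with rfl | rfl
    · rw [hk, eu]; push_cast; rfl
    · rw [hk, ew]; push_cast; rfl

/-- The values at a torus element. -/
theorem torus_values (D : CharData A B R P W FA FB tr St t) {x : Gp F m} (hx : x ∈ A)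
    (h1 : x ≠ 1) :
    ∑ φ ∈ FA, (φ : Gp F m → ℂ) x = 1 ∧
      ∑ φ ∈ FA, (φ : Gp F m → ℂ) x ^ 2 = (Fintype.card F : ℂ) + (t : ℂ) - 3 ∧
      ∀ φ ∈ W, (φ : Gp F m → ℂ) x ^ 2 = 1 ∧ 2 * (2 : ℂ) ^ m * (φ : Gp F m → ℂ) x = (t : ℂ) := by
  classical
  haveI : Fintype (Gp F m) := Fintype.ofFinite _
  have h8 := eight_le_card (F := F) (m := m)
  have hq2 : (Fintype.card F : ℂ) = 2 * ((2 : ℂ) ^ m) ^ 2 := by
    have h := congrArg (fun z : ℤ => (z : ℂ)) (card_eq_two_mul_sq (F := F) (m := m))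
    push_cast at h; exact h
  obtain ⟨b, hbU, hb1⟩ : ∃ z ∈ grpZ F m, z ≠ 1 :=
    ⟨gT 0 1, ⟨1, rfl⟩, fun h => one_ne_zero (gT_inj (h.trans gT_zero.symm)).2⟩
  have hbU' : b ∈ grpU F m := by obtain ⟨c, rfl⟩ := hbU; exact gT_mem 0 c
  obtain ⟨zA, zB, zW⟩ := D.z_values hbU hb1
  have hfree := D.fpf hx h1
  have hre : ∀ φ : IrrCharacter (Gp F m), conj ((φ : Gp F m → ℂ) x) = (φ : Gp F m → ℂ) x :=
    fun φ => D.torA.conj_apply hx φ
  choose c hc1 hc using D.constA
  obtain ⟨S, hS⟩ : ∃ S, S = ∑ φ ∈ FA, (φ : Gp F m → ℂ) x := ⟨_, rfl⟩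
  obtain ⟨C, hC⟩ : ∃ C, C = ∑ φ ∈ W, (φ : Gp F m → ℂ) x := ⟨_, rfl⟩
  have e1 : 1 + ((t : ℂ) - 1) * S - (2 : ℂ) ^ m * C = 0 := by
    have h := CfsgLib.Char.column_orthogonality b x
    rw [if_neg fun h => D.not_isConj_U hx h1 hbU' h.symm, D.expand, D.ser.tr_apply,
      D.ser.St_U b hbU' hb1, hre,
      Finset.sum_eq_zero (s := P) (fun φ hφ => by rw [D.ser.P_free φ hφ x hfree, map_zero, mul_zero]),
      Finset.sum_eq_zero (s := FB) (fun φ hφ => by rw [D.vanA φ hφ x hx h1, map_zero, mul_zero]),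
      Finset.sum_congr rfl (s₁ := FA) (g := fun φ : IrrCharacter (Gp F m) =>
        ((t : ℂ) - 1) * (φ : Gp F m → ℂ) x) (fun φ hφ => by rw [zA φ hφ, hre]),
      Finset.sum_congr rfl (s₁ := W) (g := fun φ : IrrCharacter (Gp F m) =>
        -(2 : ℂ) ^ m * (φ : Gp F m → ℂ) x) (fun φ hφ => by rw [zW φ hφ, hre]),
      ← Finset.mul_sum, ← Finset.mul_sum, ← hS, ← hC, D.ser.tr_apply] at h
    linear_combination h
  have e2 : 1 - (Fintype.card F : ℂ) ^ 2 +
      ((Fintype.card F : ℂ) - 1) * (((Fintype.card F : ℂ) + 1 - (t : ℂ)) * S + (2 : ℂ) ^ m * C) = 0 := by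
    have h := CfsgLib.Char.sum_degree_mul_irr (G := Gp F m) x
    rw [if_neg h1, D.expand, D.ser.tr_apply, D.ser.tr_apply, D.ser.St_one, D.ser.St_free x hfree,
      Finset.sum_eq_zero (s := P) (fun φ hφ => by rw [D.ser.P_free φ hφ x hfree, mul_zero]),
      Finset.sum_eq_zero (s := FB) (fun φ hφ => by rw [D.vanA φ hφ x hx h1, mul_zero]),
      Finset.sum_congr rfl (s₁ := FA) (fun φ hφ => by rw [D.degA_apply hφ]),
      Finset.sum_congr rfl (s₁ := W) (fun φ hφ => by rw [D.degW_apply hφ]),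
      ← Finset.mul_sum, ← Finset.mul_sum, ← hS, ← hC] at h
    push_cast at h
    linear_combination h
  have hq1 : (Fintype.card F : ℂ) - 1 ≠ 0 := sub_ne_zero.mpr (by exact_mod_cast (show Fintype.card F ≠ 1 by omega))
  have hqne : (Fintype.card F : ℂ) ≠ 0 := Nat.cast_ne_zero.mpr (by omega)
  have e3 : ((Fintype.card F : ℂ) + 1 - (t : ℂ)) * S + (2 : ℂ) ^ m * C = (Fintype.card F : ℂ) + 1 := by
    refine mul_left_cancel₀ hq1 ?_
    linear_combination e2
  have hS1 : S = 1 := mul_left_cancel₀ hqne (by linear_combination e1 + e3)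
  have hC1 : (2 : ℂ) ^ m * C = (t : ℂ) := by rw [hS1] at e1; linear_combination -e1
  have hW : ∀ φ ∈ W, (φ : Gp F m → ℂ) x ^ 2 = 1 ∧
      2 * (2 : ℂ) ^ m * (φ : Gp F m → ℂ) x = (t : ℂ) := by
    obtain ⟨u, w, huw, hWe⟩ := Finset.card_eq_two.mp D.cardW
    have hu : u ∈ W := by simp [hWe]
    have hw : w ∈ W := by simp [hWe]
    rw [hC, hWe, Finset.sum_pair huw, hc u hu x hx h1, hc w hw x hx h1] at hC1
    have h' : (2 : ℤ) ^ m * (c u hu + c w hw) = t := by
      apply Int.cast_injective (α := ℂ)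
      push_cast
      exact hC1
    have hsq : (c u hu + c w hw) ^ 2 = 4 := by
      have h2 : ((2 : ℤ) ^ m) ^ 2 ≠ 0 := by positivity
      refine mul_left_cancel₀ h2 ?_
      rw [← mul_pow, h', D.t_sq, card_eq_two_mul_sq (m := m)]; ring
    have hcc : c u hu = c w hw ∧ c u hu ^ 2 = 1 := by
      have hu' := abs_le.mp (hc1 u hu)
      have hw' := abs_le.mp (hc1 w hw)
      generalize c u hu = cu at hu' hsq ⊢
      generalize c w hw = cw at hw' hsq ⊢
      obtain ⟨h1', h2'⟩ := hu'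
      obtain ⟨h3', h4'⟩ := hw'
      interval_cases cu <;> interval_cases cw <;> simp_all
    intro φ hφ
    have hval : (φ : Gp F m → ℂ) x = (c u hu : ℂ) := by
      have hφ' := hφ
      rw [hWe, Finset.mem_insert, Finset.mem_singleton] at hφ'
      rcases hφ' with rfl | rfl
      · exact hc _ hu x hx h1
      · rw [hc _ hw x hx h1, hcc.1]
    rw [hval]
    refine ⟨by exact_mod_cast hcc.2, ?_⟩
    rw [← h', ← hcc.1]
    push_cast; ring
  refine ⟨hS ▸ hS1, ?_, hW⟩
  have h := CfsgLib.Char.column_orthogonality x x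
  rw [if_pos (IsConj.refl x), D.torA.cent x hx h1, D.expand, D.ser.tr_apply,
    D.ser.St_free x hfree,
    Finset.sum_eq_zero (s := P) (fun φ hφ => by rw [D.ser.P_free φ hφ x hfree, zero_mul]),
    Finset.sum_eq_zero (s := FB) (fun φ hφ => by rw [D.vanA φ hφ x hx h1, zero_mul]),
    Finset.sum_congr rfl (s₁ := W) (g := fun _ => (1 : ℂ)) (fun φ hφ => by
      rw [hre, ← sq]; exact (hW φ hφ).1),
    Finset.sum_congr rfl (s₁ := FA) (g := fun φ : IrrCharacter (Gp F m) =>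
      (φ : Gp F m → ℂ) x ^ 2) (fun φ hφ => by rw [hre, sq]),
    Finset.sum_const, D.cardW, map_one, map_neg, map_one] at h
  have ha : ((Nat.card A : ℤ) : ℂ) = (((Fintype.card F : ℤ) + 1 + t : ℤ) : ℂ) := by rw [D.cardA]
  push_cast at ha
  simp only [nsmul_eq_mul, mul_one, Nat.cast_ofNat] at h
  linear_combination h + ha

/-- The values at a translation of order four. -/
theorem u_values (D : CharData A B R P W FA FB tr St t) {u : Gp F m} (hu : u ∈ grpU F m)
    (hz : u ∉ grpZ F m) :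
    (∀ φ ∈ FA, (φ : Gp F m → ℂ) u = -1) ∧ (∀ φ ∈ FB, (φ : Gp F m → ℂ) u = -1) ∧
      ∑ φ ∈ W, (φ : Gp F m → ℂ) u = 0 ∧
      ∃ κ : ℂ, 2 * ‖κ‖ ≤ (Fintype.card F : ℝ) ∧ ∀ φ ∈ W, (φ : Gp F m → ℂ) u ^ 2 = κ := by
  classical
  haveI : Fintype (Gp F m) := Fintype.ofFinite _
  have h8 := eight_le_card (F := F) (m := m)
  have hu1 : u ≠ 1 := fun h => hz (h ▸ one_mem _)
  obtain ⟨b, hbU, hb1⟩ : ∃ z ∈ grpZ F m, z ≠ 1 :=
    ⟨gT 0 1, ⟨1, rfl⟩, fun h => one_ne_zero (gT_inj (h.trans gT_zero.symm)).2⟩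
  have hbU' : b ∈ grpU F m := by obtain ⟨c, rfl⟩ := hbU; exact gT_mem 0 c
  obtain ⟨φA, hφA⟩ := D.nonempty
  obtain ⟨φB, hφB⟩ := D.swap.nonempty
  have hA : ∀ φ ∈ FA, (φ : Gp F m → ℂ) u = (φA : Gp F m → ℂ) u := fun φ hφ =>
    D.agreeA φ hφ φA hφA u (D.notA_of_U hu)
  have hB : ∀ φ ∈ FB, (φ : Gp F m → ℂ) u = (φB : Gp F m → ℂ) u := fun φ hφ =>
    D.agreeB φ hφ φB hφB u (D.swap.notA_of_U hu)
  obtain ⟨Y, hY⟩ : ∃ Y, Y = ∑ φ ∈ W, (φ : Gp F m → ℂ) u := ⟨_, rfl⟩
  -- orthogonality with a torus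
  have etor : ∀ {A B : Subgroup (Gp F m)} {FA FB : Finset (IrrCharacter (Gp F m))} {t : ℤ}
      (_ : CharData A B R P W FA FB tr St t) (φA : IrrCharacter (Gp F m)), φA ∈ FA →
      2 * (2 : ℂ) ^ m * (1 + (φA : Gp F m → ℂ) u) + (t : ℂ) * Y = 0 := by
    intro A B FA FB t D φA hφA
    obtain ⟨x, hx, hx1⟩ : ∃ x ∈ A, x ≠ 1 := by
      by_contra hno
      push Not at hno
      have h5 := D.five_le
      rw [(Subgroup.eq_bot_iff_forall A).mpr hno, Subgroup.card_bot] at h5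
      omega
    obtain ⟨hS, -, hW⟩ := D.torus_values hx hx1
    have hfree := D.fpf hx hx1
    have h := CfsgLib.Char.column_orthogonality u x
    rw [if_neg fun h => D.not_isConj_U hx hx1 hu h.symm, D.expand, D.ser.tr_apply,
      D.ser.St_U u hu hu1, D.ser.tr_apply,
      Finset.sum_eq_zero (s := P) (fun φ hφ => by rw [D.ser.P_free φ hφ x hfree, map_zero, mul_zero]),
      Finset.sum_eq_zero (s := FB) (fun φ hφ => by rw [D.vanA φ hφ x hx hx1, map_zero, mul_zero]),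
      Finset.sum_congr rfl (s₁ := FA) (g := fun φ : IrrCharacter (Gp F m) =>
        (φA : Gp F m → ℂ) u * (φ : Gp F m → ℂ) x) (fun φ hφ => by
          rw [D.agreeA φ hφ φA hφA u (D.notA_of_U hu), D.torA.conj_apply hx]),
      ← Finset.mul_sum, hS, map_one] at h
    have h2 : ∑ φ ∈ W, 2 * (2 : ℂ) ^ m * ((φ : Gp F m → ℂ) u * conj ((φ : Gp F m → ℂ) x)) =
        (t : ℂ) * Y := by
      rw [hY, Finset.mul_sum]
      refine Finset.sum_congr rfl fun φ hφ => ?_
      rw [D.torA.conj_apply hx, ← (hW φ hφ).2]; ring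
    rw [← Finset.mul_sum] at h2
    linear_combination 2 * (2 : ℂ) ^ m * h - h2
  have eA := etor D φA hφA
  have eB := etor D.swap φB hφB
  push_cast at eB
  -- orthogonality with an involution
  obtain ⟨zA, zB, zW⟩ := D.z_values hbU hb1
  have ez : 1 + (P.card : ℂ) + (FA.card : ℂ) * ((φA : Gp F m → ℂ) u * ((t : ℂ) - 1)) +
      (FB.card : ℂ) * ((φB : Gp F m → ℂ) u * (-(t : ℂ) - 1)) - (2 : ℂ) ^ m * Y = 0 := by
    have h := CfsgLib.Char.column_orthogonality u b
    rw [if_neg, D.expand, D.ser.tr_apply, D.ser.tr_apply, D.ser.St_U u hu hu1,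
      Finset.sum_congr rfl (s₁ := P) (g := fun _ => (1 : ℂ)) (fun φ hφ => by
        rw [D.ser.P_U φ hφ u hu hu1, D.ser.P_U φ hφ b hbU' hb1, map_one, mul_one]),
      Finset.sum_congr rfl (s₁ := FA) (g := fun _ => (φA : Gp F m → ℂ) u * ((t : ℂ) - 1))
        (fun φ hφ => by rw [zA φ hφ, hA φ hφ, map_sub, map_one, map_intCast]),
      Finset.sum_congr rfl (s₁ := FB) (g := fun _ => (φB : Gp F m → ℂ) u * (-(t : ℂ) - 1))
        (fun φ hφ => by rw [zB φ hφ, hB φ hφ, map_sub, map_one, map_neg, map_intCast]),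
      Finset.sum_congr rfl (s₁ := W) (g := fun φ : IrrCharacter (Gp F m) =>
        -(2 : ℂ) ^ m * (φ : Gp F m → ℂ) u) (fun φ hφ => by
          rw [zW φ hφ, map_neg, map_pow, Complex.conj_ofNat]; ring),
      ← Finset.mul_sum (s := W), ← hY] at h
    · simp only [Finset.sum_const, nsmul_eq_mul, map_one, mul_one, zero_mul, add_zero] at h
      linear_combination h
    · intro hc
      obtain ⟨c, hc⟩ := isConj_iff.1 hc.symm
      obtain ⟨d, hd⟩ := id hbU
      have hb2 : b ^ 2 = 1 := by rw [hd, pow_two, gT_mul]; simp [gT_zero, CharTwo.add_self_eq_zero]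
      obtain ⟨e, he⟩ := sq_eq_one_grpU hu (by
        rw [← hc, conj_pow, hb2, mul_one, mul_inv_cancel])
      exact hz ⟨e, he⟩
  have hn : 4 * (FA.card : ℂ) = (Fintype.card F : ℂ) + (t : ℂ) := by
    have h := congrArg (fun z : ℤ => (z : ℂ)) D.nA_cast
    push_cast at h; exact h
  have hn' : 4 * (FB.card : ℂ) = (Fintype.card F : ℂ) - (t : ℂ) := by
    have h := congrArg (fun z : ℤ => (z : ℂ)) D.swap.nA_cast
    push_cast at h
    linear_combination h
  have hq2 : (Fintype.card F : ℂ) = 2 * ((2 : ℂ) ^ m) ^ 2 := by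
    have h := congrArg (fun z : ℤ => (z : ℂ)) (card_eq_two_mul_sq (F := F) (m := m))
    push_cast at h; exact h
  have ht2 : (t : ℂ) ^ 2 = 2 * (Fintype.card F : ℂ) := by
    have h := congrArg (fun z : ℤ => (z : ℂ)) D.t_sq
    push_cast at h; exact h
  have hY0 : Y = 0 := by
    have h : (Fintype.card F : ℂ) ^ 2 * Y = 0 := by
      generalize hh : (2 : ℂ) ^ m = h at eA eB ez hq2
      linear_combination (-2 * h) * ez +
        ((FA.card : ℂ) * ((t : ℂ) - 1)) * eA + ((FB.card : ℂ) * (-(t : ℂ) - 1)) * eB +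
        h * D.P_cardC +
        ((-1 / 4 : ℂ) * (2 * h + (t : ℂ) * Y) * ((t : ℂ) - 1)) * hn +
        ((-1 / 4 : ℂ) * (2 * h - (t : ℂ) * Y) * (-(t : ℂ) - 1)) * hn' +
        (-(h : ℂ) + (1 - (Fintype.card F : ℂ)) / 2 * Y) * ht2 + Y * hq2
    exact (mul_eq_zero.mp h).resolve_left (pow_ne_zero _ (Nat.cast_ne_zero.mpr (by omega)))
  have h2m : 2 * (2 : ℂ) ^ m ≠ 0 := by simp
  rw [hY0, mul_zero, add_zero, mul_eq_zero, or_iff_right h2m] at eA eB
  have vA : ∀ φ ∈ FA, (φ : Gp F m → ℂ) u = -1 := fun φ hφ => by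
    rw [hA φ hφ]; linear_combination eA
  have vB : ∀ φ ∈ FB, (φ : Gp F m → ℂ) u = -1 := fun φ hφ => by
    rw [hB φ hφ]; linear_combination eB
  refine ⟨vA, vB, hY ▸ hY0, ?_⟩
  obtain ⟨v, w, hvw, hWe⟩ := Finset.card_eq_two.mp D.cardW
  have hwv : (w : Gp F m → ℂ) u = -(v : Gp F m → ℂ) u := by
    rw [hWe, Finset.sum_pair hvw, hY0] at hY
    linear_combination -hY
  refine ⟨(v : Gp F m → ℂ) u ^ 2, ?_, fun φ hφ => ?_⟩
  · have h := CfsgLib.Char.column_orthogonality u u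
    rw [if_pos (IsConj.refl u), D.expand, D.ser.tr_apply, D.ser.St_U u hu hu1,
      Finset.sum_congr rfl (s₁ := P) (g := fun _ => (1 : ℂ)) (fun φ hφ => by
        rw [D.ser.P_U φ hφ u hu hu1, map_one, mul_one]),
      Finset.sum_congr rfl (s₁ := FA) (g := fun _ => (1 : ℂ)) (fun φ hφ => by
        rw [vA φ hφ, map_neg, map_one, neg_mul_neg, mul_one]),
      Finset.sum_congr rfl (s₁ := FB) (g := fun _ => (1 : ℂ)) (fun φ hφ => by
        rw [vB φ hφ, map_neg, map_one, neg_mul_neg, mul_one]),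
      hWe, Finset.sum_pair hvw, hwv, map_neg, neg_mul_neg,
      Complex.mul_conj ((v : Gp F m → ℂ) u)] at h
    simp only [Finset.sum_const, nsmul_eq_mul, map_one, mul_one, zero_mul, add_zero] at h
    have hPc := D.P_cardC
    have h' : ((2 * Complex.normSq ((v : Gp F m → ℂ) u) + (Fintype.card F : ℝ) : ℝ) : ℂ) =
        (((Nat.card ↥(Subgroup.centralizer ({u} : Set (Gp F m))) : ℕ) : ℝ) : ℂ) := by
      push_cast
      linear_combination h - hPc / 2 - hn / 4 - hn' / 4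
    have h'' := Complex.ofReal_injective h'
    have hle : (Nat.card ↥(Subgroup.centralizer ({u} : Set (Gp F m))) : ℝ) ≤
        2 * (Fintype.card F : ℝ) := by exact_mod_cast card_centralizer_grpU_le hu hz
    rw [norm_pow, ← Complex.normSq_eq_norm_sq]
    linarith
  · rw [hWe, Finset.mem_insert, Finset.mem_singleton] at hφ
    rcases hφ with rfl | rfl
    · rfl
    · rw [hwv, neg_sq]

end CharData

end CfsgLib.Suzuki
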