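import Cfsg.Agent.Lib.Suzuki.CharValues

/-!
# The square of a class of elements of order greater than two in the Suzuki group
-/

set_option autoImplicit false
set_option linter.style.haveILetI false
set_option linter.unusedSectionVars false

namespace CfsgLib.Suzuki

open MulAction Cfsg
open scoped ComplexConjugate CfsgLib.Char

/-- The bound for two elements of the same torus. -/
theorem torus_bound {q t h : ℝ} (hh : h = 2 ∨ 4 ≤ h) (hq : q = 2 * h ^ 2)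
    (ht : t = 2 * h ∨ t = -(2 * h)) :
    (q + t - 3) * Real.sqrt (q + t - 3) / ((q - 1) * (q + 1 - t)) + 2 / ((q - 1) * h) + 1 / q ^ 2 < 1 := by
  have hh2 : 2 ≤ h := by rcases hh with h' | h' <;> linarith
  have hh4 : 4 ≤ h ^ 2 := by nlinarith
  have hA : 0 ≤ q + t - 3 := by rcases ht with rfl | rfl <;> nlinarith
  have hB : 0 < q + 1 - t := by rcases ht with rfl | rfl <;> nlinarith
  have hq1 : 7 ≤ q - 1 := by linarith
  have key : (q + t - 3) ^ 3 ≤ (16 / 25) * ((q - 1) * (q + 1 - t)) ^ 2 := by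
    rcases hh with rfl | h4
    · rcases ht with rfl | rfl <;> subst hq <;> norm_num
    · have hhq : 2 * h ≤ q / 4 := by nlinarith
      have e1 : q + t - 3 ≤ 5 / 4 * q := by rcases ht with rfl | rfl <;> linarith
      have e2 : 3 / 4 * q ≤ q + 1 - t := by rcases ht with rfl | rfl <;> linarith
      calc (q + t - 3) ^ 3 ≤ (5 / 4 * q) ^ 3 := pow_le_pow_left₀ hA e1 3
        _ ≤ (16 / 25) * ((q - 1) * (3 / 4 * q)) ^ 2 := by
            nlinarith [mul_le_mul_of_nonneg_left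
              (show (125 / 64 : ℝ) * q ≤ 16 / 25 * (9 / 16) * (q - 1) ^ 2 by
                nlinarith [show (32 : ℝ) ≤ q by nlinarith]) (sq_nonneg q)]
        _ ≤ _ := by
            refine mul_le_mul_of_nonneg_left
              (pow_le_pow_left₀ (mul_nonneg (by linarith) (by linarith)) ?_ 2) (by norm_num)
            exact mul_le_mul_of_nonneg_left e2 (by linarith)
  have h1 : (q + t - 3) * Real.sqrt (q + t - 3) / ((q - 1) * (q + 1 - t)) ≤ 4 / 5 := by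
    rw [div_le_iff₀ (by positivity)]
    refine (sq_le_sq₀ (by positivity) (by positivity)).1 ?_
    rw [mul_pow, Real.sq_sqrt hA]
    nlinarith
  have h2 : 2 / ((q - 1) * h) ≤ 1 / 7 := by
    rw [div_le_iff₀ (by positivity)]; nlinarith
  have h3 : 1 / q ^ 2 ≤ 1 / 64 := one_div_le_one_div_of_le (by norm_num) (by nlinarith)
  linarith

/-- The bound for a torus element and an involution. -/
theorem torus_involution_pos {q t h : ℝ} (hh : 2 ≤ h) (hq : q = 2 * h ^ 2)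
    (ht : t = 2 * h ∨ t = -(2 * h)) :
    0 < 1 + (q + t - 3) * (t - 1) / ((q - 1) * (q + 1 - t)) - 2 / (q - 1) := by
  have hq1 : 7 ≤ q - 1 := by nlinarith
  have hB : 0 < q + 1 - t := by rcases ht with rfl | rfl <;> nlinarith
  have hhh : 2 * h ≤ h ^ 2 := by nlinarith
  rw [show 1 + (q + t - 3) * (t - 1) / ((q - 1) * (q + 1 - t)) - 2 / (q - 1) =
    ((q - 3) * (q + 1 - t) + (q + t - 3) * (t - 1)) / ((q - 1) * (q + 1 - t)) by
      field_simp; ring]
  refine div_pos ?_ (by positivity)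
  rcases ht with rfl | rfl
  · have h1 : (0 : ℝ) ≤ (q + 2 * h - 3) * (2 * h - 1) := mul_nonneg (by linarith) (by linarith)
    nlinarith
  · nlinarith [mul_pos (show (0 : ℝ) < 2 * h + 1 by linarith) (show (0 : ℝ) < 2 * h by linarith)]

variable {F : Type*} [Field F] [Fintype F] [CharP F 2] {m : ℕ} [hP : Param F m]

include hP

/-- The character sum counting the solutions of `g = y * z` with `y`, `z` conjugate to `x`. -/
noncomputable def sqSum (x g : Gp F m) : ℂ :=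
  haveI : Fintype (Gp F m) := Fintype.ofFinite _
  ∑ φ : IrrCharacter (Gp F m), (φ : Gp F m → ℂ) x * (φ : Gp F m → ℂ) x *
    conj ((φ : Gp F m → ℂ) g) / (φ : Gp F m → ℂ) 1

theorem sqSum_conj (x g c d : Gp F m) : sqSum (c * x * c⁻¹) (d * g * d⁻¹) = sqSum x g := by
  haveI : Fintype (Gp F m) := Fintype.ofFinite _
  refine Finset.sum_congr rfl fun φ _ => ?_
  rw [CfsgLib.Char.isClassFunction_irr φ x c, CfsgLib.Char.isClassFunction_irr φ g d]

namespace CharData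

variable {A B : Subgroup (Gp F m)} {R P W FA FB : Finset (IrrCharacter (Gp F m))}
  {tr St : IrrCharacter (Gp F m)} {t : ℤ}

theorem qh (_ : CharData A B R P W FA FB tr St t) :
    (Fintype.card F : ℝ) = 2 * ((2 : ℝ) ^ m) ^ 2 ∧ ((2 : ℝ) ^ m = 2 ∨ 4 ≤ (2 : ℝ) ^ m) := by
  refine ⟨by exact_mod_cast card_eq_two_mul_sq (F := F) (m := m), ?_⟩
  rcases two_pow_cases (F := F) (m := m) with h | h
  · exact Or.inl (by exact_mod_cast h)
  · exact Or.inr (by exact_mod_cast h)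

theorem t_casesR (D : CharData A B R P W FA FB tr St t) :
    (t : ℝ) = 2 * (2 : ℝ) ^ m ∨ (t : ℝ) = -(2 * (2 : ℝ) ^ m) := by
  rcases D.t_cases with h | h
  · exact Or.inl (by exact_mod_cast h)
  · exact Or.inr (by exact_mod_cast h)

/-- The square sum, split along the partition. -/
theorem sqSum_eq (D : CharData A B R P W FA FB tr St t) (x g : Gp F m) :
    sqSum x g = 1 +
      (St : Gp F m → ℂ) x ^ 2 * conj ((St : Gp F m → ℂ) g) / (Fintype.card F : ℂ) ^ 2 +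
      (∑ φ ∈ P, (φ : Gp F m → ℂ) x ^ 2 * conj ((φ : Gp F m → ℂ) g)) /
        ((Fintype.card F : ℂ) ^ 2 + 1) +
      (∑ φ ∈ FA, (φ : Gp F m → ℂ) x ^ 2 * conj ((φ : Gp F m → ℂ) g)) /
        (((Fintype.card F : ℂ) - 1) * ((Fintype.card F : ℂ) + 1 - (t : ℂ))) +
      (∑ φ ∈ FB, (φ : Gp F m → ℂ) x ^ 2 * conj ((φ : Gp F m → ℂ) g)) /
        (((Fintype.card F : ℂ) - 1) * ((Fintype.card F : ℂ) + 1 + (t : ℂ))) +
      (∑ φ ∈ W, (φ : Gp F m → ℂ) x ^ 2 * conj ((φ : Gp F m → ℂ) g)) /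
        (((Fintype.card F : ℂ) - 1) * (2 : ℂ) ^ m) := by
  haveI : Fintype (Gp F m) := Fintype.ofFinite _
  rw [sqSum, D.expand, D.ser.tr_apply, D.ser.tr_apply, D.ser.tr_apply, D.ser.St_one,
    Finset.sum_congr rfl (s₁ := P) (fun φ hφ => by rw [D.ser.P_one φ hφ]),
    Finset.sum_congr rfl (s₁ := FA) (fun φ hφ => by rw [D.degA_apply hφ]),
    Finset.sum_congr rfl (s₁ := FB) (fun φ hφ => by rw [D.swap.degA_apply hφ]),
    Finset.sum_congr rfl (s₁ := W) (fun φ hφ => by rw [D.degW_apply hφ]),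
    Finset.sum_div, Finset.sum_div, Finset.sum_div, Finset.sum_div]
  push_cast
  simp only [map_one, mul_one, div_one, ← sq, sub_neg_eq_add, one_pow]

theorem vanR (D : CharData A B R P W FA FB tr St t) {g : Gp F m} (hg : g ∈ grpH F m)
    (h1 : g ≠ 1) :
    (∀ φ ∈ FA, (φ : Gp F m → ℂ) g = 0) ∧ (∀ φ ∈ FB, (φ : Gp F m → ℂ) g = 0) ∧
      ∀ φ ∈ W, (φ : Gp F m → ℂ) g = 0 :=
  ⟨fun φ hφ => D.ser.R_H φ (D.subA hφ) g hg h1, fun φ hφ => D.ser.R_H φ (D.subB hφ) g hg h1,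
    fun φ hφ => D.ser.R_H φ (D.subW hφ) g hg h1⟩

/-- `x` in the split torus. -/
theorem ne_zero_H (D : CharData A B R P W FA FB tr St t) {x g : Gp F m} (hx : x ∈ grpH F m)
    (hx1 : x ≠ 1) (hSt : ‖(St : Gp F m → ℂ) g‖ ≤ 3) (hPg : ∀ φ ∈ P, ‖(φ : Gp F m → ℂ) g‖ ≤ 2) :
    sqSum x g ≠ 0 := by
  have h8 : (8 : ℝ) ≤ (Fintype.card F : ℝ) := by exact_mod_cast eight_le_card (F := F) (m := m)
  obtain ⟨vA, vB, vW⟩ := D.vanR hx hx1
  intro h0
  rw [D.sqSum_eq, Finset.sum_eq_zero (s := FA) (fun φ hφ => by rw [vA φ hφ]; simp),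
    Finset.sum_eq_zero (s := FB) (fun φ hφ => by rw [vB φ hφ]; simp),
    Finset.sum_eq_zero (s := W) (fun φ hφ => by rw [vW φ hφ]; simp),
    zero_div, zero_div, zero_div, add_zero, add_zero, add_zero, add_assoc] at h0
  have h1 : ‖(St : Gp F m → ℂ) x ^ 2 * conj ((St : Gp F m → ℂ) g) / (Fintype.card F : ℂ) ^ 2‖ ≤
      27 / (Fintype.card F : ℝ) ^ 2 := by
    rw [norm_div, norm_mul, norm_pow, norm_pow, Complex.norm_conj, Complex.norm_natCast]
    gcongr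
    calc ‖(St : Gp F m → ℂ) x‖ ^ 2 * ‖(St : Gp F m → ℂ) g‖ ≤ 3 ^ 2 * 3 :=
          mul_le_mul (pow_le_pow_left₀ (norm_nonneg _) (D.ser.St_H x hx hx1) 2) hSt (norm_nonneg _)
            (by norm_num)
      _ = 27 := by norm_num
  have h2 : ‖(∑ φ ∈ P, (φ : Gp F m → ℂ) x ^ 2 * conj ((φ : Gp F m → ℂ) g)) /
      ((Fintype.card F : ℂ) ^ 2 + 1)‖ ≤ 4 * (Fintype.card F : ℝ) / ((Fintype.card F : ℝ) ^ 2 + 1) := by
    rw [norm_div, show ((Fintype.card F : ℂ) ^ 2 + 1) =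
      (((Fintype.card F : ℝ) ^ 2 + 1 : ℝ) : ℂ) by push_cast; rfl, Complex.norm_real,
      Real.norm_of_nonneg (by positivity)]
    gcongr
    refine (norm_sum_le _ _).trans ((Finset.sum_le_sum (g := fun _ => (8 : ℝ)) fun φ hφ => ?_).trans ?_)
    · rw [norm_mul, norm_pow, Complex.norm_conj]
      calc ‖(φ : Gp F m → ℂ) x‖ ^ 2 * ‖(φ : Gp F m → ℂ) g‖ ≤ 2 ^ 2 * 2 :=
            mul_le_mul (pow_le_pow_left₀ (norm_nonneg _) (D.ser.P_H φ hφ x hx hx1) 2) (hPg φ hφ)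
              (norm_nonneg _) (by norm_num)
        _ = 8 := by norm_num
    · rw [Finset.sum_const, nsmul_eq_mul]
      have : 2 * (P.card : ℝ) + 2 = (Fintype.card F : ℝ) := by exact_mod_cast D.ser.P_card
      linarith
  have h3 : ‖(1 : ℂ)‖ ≤ 27 / (Fintype.card F : ℝ) ^ 2 +
      4 * (Fintype.card F : ℝ) / ((Fintype.card F : ℝ) ^ 2 + 1) := by
    rw [eq_neg_of_add_eq_zero_left h0, norm_neg]
    exact (norm_add_le _ _).trans (add_le_add h1 h2)
  rw [norm_one] at h3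
  have h4 : 27 / (Fintype.card F : ℝ) ^ 2 ≤ 27 / 64 := by gcongr; nlinarith
  have h5 : 4 * (Fintype.card F : ℝ) / ((Fintype.card F : ℝ) ^ 2 + 1) ≤ 1 / 2 := by
    rw [div_le_iff₀ (by positivity)]; nlinarith
  linarith

theorem torus_setup (D : CharData A B R P W FA FB tr St t) {x : Gp F m} (hx : x ∈ A) (hx1 : x ≠ 1)
    (g : Gp F m) :
    sqSum x g = 1 + conj ((St : Gp F m → ℂ) g) / (Fintype.card F : ℂ) ^ 2 +
      (∑ φ ∈ FA, (φ : Gp F m → ℂ) x ^ 2 * conj ((φ : Gp F m → ℂ) g)) /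
        (((Fintype.card F : ℂ) - 1) * ((Fintype.card F : ℂ) + 1 - (t : ℂ))) +
      (∑ φ ∈ W, conj ((φ : Gp F m → ℂ) g)) / (((Fintype.card F : ℂ) - 1) * (2 : ℂ) ^ m) := by
  obtain ⟨-, -, hW⟩ := D.torus_values hx hx1
  rw [D.sqSum_eq, D.ser.St_free x (D.fpf hx hx1),
    Finset.sum_eq_zero (s := P) (fun φ hφ => by rw [D.ser.P_free φ hφ x (D.fpf hx hx1)]; simp),
    Finset.sum_eq_zero (s := FB) (fun φ hφ => by rw [D.vanA φ hφ x hx hx1]; simp),
    Finset.sum_congr rfl (s₁ := W) (g := fun φ : IrrCharacter (Gp F m) =>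
      conj ((φ : Gp F m → ℂ) g)) (fun φ hφ => by rw [(hW φ hφ).1, one_mul]),
    neg_one_sq, one_mul, zero_div, zero_div, add_zero, add_zero]

/-- The sum of the values of the two leftover characters at a torus element. -/
theorem sum_W_torus (D : CharData A B R P W FA FB tr St t) {g : Gp F m} (hg : g ∈ A)
    (hg1 : g ≠ 1) : (2 : ℂ) ^ m * ∑ φ ∈ W, conj ((φ : Gp F m → ℂ) g) = (t : ℂ) := by
  obtain ⟨-, -, hW⟩ := D.torus_values hg hg1
  rw [Finset.mul_sum, Finset.sum_congr rfl (g := fun _ => (t : ℂ) / 2) fun φ hφ => by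
    rw [D.torA.conj_apply hg, ← (hW φ hφ).2]; ring, Finset.sum_const, D.cardW, nsmul_eq_mul]
  push_cast; ring

/-- `x` and `g` in the same torus. -/
theorem ne_zero_AA (D : CharData A B R P W FA FB tr St t) {x g : Gp F m} (hx : x ∈ A) (hx1 : x ≠ 1)
    (hg : g ∈ A) (hg1 : g ≠ 1) : sqSum x g ≠ 0 := by
  obtain ⟨hq, hh⟩ := D.qh
  have ht := D.t_casesR
  have h8 : (8 : ℝ) ≤ (Fintype.card F : ℝ) := by exact_mod_cast eight_le_card (F := F) (m := m)
  have hB : (0 : ℝ) < (Fintype.card F : ℝ) + 1 - (t : ℝ) := by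
    rcases ht with h | h <;> rw [h, hq] <;> rcases hh with h' | h' <;> nlinarith
  have hw := D.sum_W_torus hg hg1
  obtain ⟨hS, hQ, -⟩ := D.torus_values hx hx1
  obtain ⟨-, hQg, -⟩ := D.torus_values hg hg1
  have hsq : ∀ {y : Gp F m}, y ∈ A → ∀ φ : IrrCharacter (Gp F m),
      ((‖(φ : Gp F m → ℂ) y‖ ^ 2 : ℝ) : ℂ) = (φ : Gp F m → ℂ) y ^ 2 := fun hy φ => by
    rw [Complex.ofReal_pow, ← Complex.mul_conj', D.torA.conj_apply hy, sq]
  have hsum : ∀ {y : Gp F m}, y ∈ A →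
      ∑ φ ∈ FA, (φ : Gp F m → ℂ) y ^ 2 = (Fintype.card F : ℂ) + (t : ℂ) - 3 →
      ∑ φ ∈ FA, ‖(φ : Gp F m → ℂ) y‖ ^ 2 = (Fintype.card F : ℝ) + (t : ℝ) - 3 := by
    intro y hy h
    refine Complex.ofReal_injective ?_
    rw [Complex.ofReal_sum, Finset.sum_congr rfl fun φ _ => hsq hy φ, h]
    push_cast; rfl
  have hnx := hsum hx hQ
  have hng := hsum hg hQg
  set M := Real.sqrt ((Fintype.card F : ℝ) + (t : ℝ) - 3) with hM
  have hle : ∀ φ ∈ FA, ‖(φ : Gp F m → ℂ) g‖ ≤ M := fun φ hφ =>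
    Real.le_sqrt_of_sq_le (hng ▸ Finset.single_le_sum
      (f := fun φ : IrrCharacter (Gp F m) => ‖(φ : Gp F m → ℂ) g‖ ^ 2)
      (fun _ _ => sq_nonneg _) hφ)
  have h2 : ‖(∑ φ ∈ FA, (φ : Gp F m → ℂ) x ^ 2 * conj ((φ : Gp F m → ℂ) g)) /
      (((Fintype.card F : ℂ) - 1) * ((Fintype.card F : ℂ) + 1 - (t : ℂ)))‖ ≤
      ((Fintype.card F : ℝ) + (t : ℝ) - 3) * M /
        (((Fintype.card F : ℝ) - 1) * ((Fintype.card F : ℝ) + 1 - (t : ℝ))) := by
    rw [norm_div, show (((Fintype.card F : ℂ) - 1) * ((Fintype.card F : ℂ) + 1 - (t : ℂ))) =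
      ((((Fintype.card F : ℝ) - 1) * ((Fintype.card F : ℝ) + 1 - (t : ℝ)) : ℝ) : ℂ) by
        push_cast; rfl, Complex.norm_real, Real.norm_of_nonneg (mul_nonneg (by linarith) hB.le)]
    refine div_le_div_of_nonneg_right ((norm_sum_le _ _).trans ?_) (mul_nonneg (by linarith) hB.le)
    rw [← hnx, Finset.sum_mul]
    refine Finset.sum_le_sum fun φ hφ => ?_
    rw [norm_mul, norm_pow, Complex.norm_conj]
    exact mul_le_mul_of_nonneg_left (hle φ hφ) (sq_nonneg _)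
  have h3 : ‖(∑ φ ∈ W, conj ((φ : Gp F m → ℂ) g)) / (((Fintype.card F : ℂ) - 1) * (2 : ℂ) ^ m)‖ =
      2 / (((Fintype.card F : ℝ) - 1) * (2 : ℝ) ^ m) := by
    have e : ∑ φ ∈ W, conj ((φ : Gp F m → ℂ) g) = (((t : ℝ) / (2 : ℝ) ^ m : ℝ) : ℂ) := by
      push_cast
      rw [eq_div_iff (pow_ne_zero _ two_ne_zero), mul_comm, hw]
    rw [norm_div, e, Complex.norm_real, Real.norm_eq_abs,
      show (((Fintype.card F : ℂ) - 1) * (2 : ℂ) ^ m) =
        ((((Fintype.card F : ℝ) - 1) * (2 : ℝ) ^ m : ℝ) : ℂ) by push_cast; rfl,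
      Complex.norm_real, Real.norm_of_nonneg (mul_nonneg (by linarith) (by positivity))]
    congr 1
    rcases ht with h | h <;> rw [h] <;> simp [abs_div]
  intro h0
  rw [D.torus_setup hx hx1, D.ser.St_free g (D.fpf hg hg1), add_assoc, add_assoc] at h0
  have h4 : ‖(1 : ℂ)‖ ≤ 1 / (Fintype.card F : ℝ) ^ 2 +
      (((Fintype.card F : ℝ) + (t : ℝ) - 3) * M /
        (((Fintype.card F : ℝ) - 1) * ((Fintype.card F : ℝ) + 1 - (t : ℝ))) +
        2 / (((Fintype.card F : ℝ) - 1) * (2 : ℝ) ^ m)) := by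
    rw [eq_neg_of_add_eq_zero_left h0, norm_neg]
    refine (norm_add_le _ _).trans (add_le_add (le_of_eq ?_)
      ((norm_add_le _ _).trans (add_le_add h2 h3.le)))
    simp
  rw [norm_one] at h4
  linarith [torus_bound hh hq ht]

/-- `x` and `g` in different tori. -/
theorem ne_zero_AB (D : CharData A B R P W FA FB tr St t) {x g : Gp F m} (hx : x ∈ A) (hx1 : x ≠ 1)
    (hg : g ∈ B) (hg1 : g ≠ 1) : sqSum x g ≠ 0 := by
  obtain ⟨hq, hh⟩ := D.qh
  have h8 : (8 : ℝ) ≤ (Fintype.card F : ℝ) := by exact_mod_cast eight_le_card (F := F) (m := m)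
  have hw := D.swap.sum_W_torus hg hg1
  push_cast at hw
  have e : (∑ φ ∈ W, conj ((φ : Gp F m → ℂ) g)) = ((-(t : ℝ) / (2 : ℝ) ^ m : ℝ) : ℂ) := by
    push_cast
    rw [eq_div_iff (pow_ne_zero _ two_ne_zero), mul_comm, hw]
  intro h0
  rw [D.torus_setup hx hx1, D.ser.St_free g (D.swap.fpf hg hg1),
    Finset.sum_eq_zero (s := FA) (fun φ hφ => by rw [D.vanB φ hφ g hg hg1]; simp), e,
    zero_div, add_zero, map_neg, map_one] at h0
  have h1 : ((1 - 1 / (Fintype.card F : ℝ) ^ 2 +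
      (-(t : ℝ) / (2 : ℝ) ^ m) / (((Fintype.card F : ℝ) - 1) * (2 : ℝ) ^ m) : ℝ) : ℂ) = ((0 : ℝ) : ℂ) := by
    rw [Complex.ofReal_zero, ← h0]
    push_cast; ring
  have h2 := Complex.ofReal_injective h1
  have h3 : |(-(t : ℝ) / (2 : ℝ) ^ m) / (((Fintype.card F : ℝ) - 1) * (2 : ℝ) ^ m)| ≤ 1 / 7 := by
    have hh2 : (2 : ℝ) ≤ (2 : ℝ) ^ m := by rcases hh with h | h <;> linarith
    have hp : 14 ≤ ((Fintype.card F : ℝ) - 1) * (2 : ℝ) ^ m := by nlinarith
    have e2 : |(-(t : ℝ) / (2 : ℝ) ^ m)| = 2 := by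
      rcases D.t_casesR with h | h <;> rw [h] <;> simp [abs_div]
    rw [abs_div, e2, abs_of_pos (by linarith : (0 : ℝ) < _), div_le_iff₀ (by linarith)]
    linarith
  have h4 : 1 / (Fintype.card F : ℝ) ^ 2 ≤ 1 / 64 :=
    one_div_le_one_div_of_le (by norm_num) (by nlinarith)
  linarith [(abs_le.mp h3).1]

/-- `x` in a torus and `g` in the split torus. -/
theorem ne_zero_AH (D : CharData A B R P W FA FB tr St t) {x g : Gp F m} (hx : x ∈ A) (hx1 : x ≠ 1)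
    (hg : g ∈ grpH F m) (hg1 : g ≠ 1) : sqSum x g ≠ 0 := by
  obtain ⟨vA, -, vW⟩ := D.vanR hg hg1
  have h8 : (8 : ℝ) ≤ (Fintype.card F : ℝ) := by exact_mod_cast eight_le_card (F := F) (m := m)
  intro h0
  rw [D.torus_setup hx hx1, Finset.sum_eq_zero (s := FA) (fun φ hφ => by rw [vA φ hφ]; simp),
    Finset.sum_eq_zero (s := W) (fun φ hφ => by rw [vW φ hφ]; simp), zero_div, zero_div,
    add_zero, add_zero] at h0
  have h1 : ‖(1 : ℂ)‖ ≤ 3 / (Fintype.card F : ℝ) ^ 2 := by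
    rw [eq_neg_of_add_eq_zero_left h0, norm_neg, norm_div, Complex.norm_conj, norm_pow,
      Complex.norm_natCast]
    exact div_le_div_of_nonneg_right (D.ser.St_H g hg hg1) (by positivity)
  rw [norm_one, le_div_iff₀ (by positivity)] at h1
  nlinarith

/-- `x` in a torus and `g` an involution. -/
theorem ne_zero_Az (D : CharData A B R P W FA FB tr St t) {x g : Gp F m} (hx : x ∈ A) (hx1 : x ≠ 1)
    (hg : g ∈ grpZ F m) (hg1 : g ≠ 1) : sqSum x g ≠ 0 := by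
  obtain ⟨hq, hh⟩ := D.qh
  have h8 : (8 : ℝ) ≤ (Fintype.card F : ℝ) := by exact_mod_cast eight_le_card (F := F) (m := m)
  have hgU : g ∈ grpU F m := by obtain ⟨b, rfl⟩ := hg; exact gT_mem 0 b
  obtain ⟨zA, -, zW⟩ := D.z_values hg hg1
  obtain ⟨-, hQ, -⟩ := D.torus_values hx hx1
  intro h0
  rw [D.torus_setup hx hx1, D.ser.St_U g hgU hg1,
    Finset.sum_congr rfl (s₁ := FA) (g := fun φ : IrrCharacter (Gp F m) =>
      (φ : Gp F m → ℂ) x ^ 2 * ((t : ℂ) - 1)) (fun φ hφ => by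
        rw [zA φ hφ, map_sub, map_one, map_intCast]),
    ← Finset.sum_mul, hQ,
    Finset.sum_congr rfl (s₁ := W) (g := fun _ => -(2 : ℂ) ^ m) (fun φ hφ => by
      rw [zW φ hφ, map_neg, map_pow, Complex.conj_ofNat]),
    Finset.sum_const, D.cardW, map_zero, zero_div, add_zero, nsmul_eq_mul] at h0
  have h1 : ((1 + ((Fintype.card F : ℝ) + (t : ℝ) - 3) * ((t : ℝ) - 1) /
      (((Fintype.card F : ℝ) - 1) * ((Fintype.card F : ℝ) + 1 - (t : ℝ))) -
      2 / ((Fintype.card F : ℝ) - 1) : ℝ) : ℂ) = ((0 : ℝ) : ℂ) := by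
    rw [Complex.ofReal_zero, ← h0]
    push_cast
    have : (2 : ℂ) ^ m ≠ 0 := pow_ne_zero _ two_ne_zero
    field_simp
    ring
  exact (torus_involution_pos (by rcases hh with h | h <;> linarith) hq D.t_casesR).ne'
    (Complex.ofReal_injective h1)

/-- `x` in a torus and `g` a translation of order four. -/
theorem ne_zero_Au (D : CharData A B R P W FA FB tr St t) {x g : Gp F m} (hx : x ∈ A) (hx1 : x ≠ 1)
    (hg : g ∈ grpU F m) (hgz : g ∉ grpZ F m) : sqSum x g ≠ 0 := by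
  obtain ⟨hq, hh⟩ := D.qh
  have h8 : (8 : ℝ) ≤ (Fintype.card F : ℝ) := by exact_mod_cast eight_le_card (F := F) (m := m)
  have hg1 : g ≠ 1 := fun h => hgz (h ▸ one_mem _)
  obtain ⟨uA, -, uY, -⟩ := D.u_values hg hgz
  obtain ⟨-, hQ, -⟩ := D.torus_values hx hx1
  have hY : ∑ φ ∈ W, conj ((φ : Gp F m → ℂ) g) = 0 := by rw [← map_sum, uY, map_zero]
  intro h0
  rw [D.torus_setup hx hx1, D.ser.St_U g hg hg1, hY,
    Finset.sum_congr rfl (s₁ := FA) (g := fun φ : IrrCharacter (Gp F m) =>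
      (φ : Gp F m → ℂ) x ^ 2 * (-1)) (fun φ hφ => by rw [uA φ hφ, map_neg, map_one]),
    ← Finset.sum_mul, hQ, map_zero, zero_div, zero_div, add_zero, add_zero] at h0
  have h1 : ((1 - ((Fintype.card F : ℝ) + (t : ℝ) - 3) /
      (((Fintype.card F : ℝ) - 1) * ((Fintype.card F : ℝ) + 1 - (t : ℝ))) : ℝ) : ℂ) = ((0 : ℝ) : ℂ) := by
    rw [Complex.ofReal_zero, ← h0]
    push_cast; ring
  have h2 := Complex.ofReal_injective h1
  have hh2 : (2 : ℝ) ≤ (2 : ℝ) ^ m := by rcases hh with h | h <;> linarith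
  have hB : (0 : ℝ) < (Fintype.card F : ℝ) + 1 - (t : ℝ) := by
    rcases D.t_casesR with h | h <;> rw [h, hq] <;> nlinarith
  rw [sub_eq_zero, eq_div_iff (mul_ne_zero (by linarith) hB.ne'), one_mul] at h2
  rcases D.t_casesR with h | h <;> rw [h, hq] at h2 <;> nlinarith

theorem u_setup (D : CharData A B R P W FA FB tr St t) {x : Gp F m} (hx : x ∈ grpU F m)
    (hxz : x ∉ grpZ F m) :
    ∃ κ : ℂ, 2 * ‖κ‖ ≤ (Fintype.card F : ℝ) ∧ ∀ g : Gp F m, sqSum x g = 1 +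
      (∑ φ ∈ P, conj ((φ : Gp F m → ℂ) g)) / ((Fintype.card F : ℂ) ^ 2 + 1) +
      (∑ φ ∈ FA, conj ((φ : Gp F m → ℂ) g)) /
        (((Fintype.card F : ℂ) - 1) * ((Fintype.card F : ℂ) + 1 - (t : ℂ))) +
      (∑ φ ∈ FB, conj ((φ : Gp F m → ℂ) g)) /
        (((Fintype.card F : ℂ) - 1) * ((Fintype.card F : ℂ) + 1 + (t : ℂ))) +
      κ * (∑ φ ∈ W, conj ((φ : Gp F m → ℂ) g)) / (((Fintype.card F : ℂ) - 1) * (2 : ℂ) ^ m) := by
  obtain ⟨uA, uB, -, κ, hκ, uW⟩ := D.u_values hx hxz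
  have hx1 : x ≠ 1 := fun h => hxz (h ▸ one_mem _)
  refine ⟨κ, hκ, fun g => ?_⟩
  rw [D.sqSum_eq, D.ser.St_U x hx hx1,
    Finset.sum_congr rfl (s₁ := P) (g := fun φ : IrrCharacter (Gp F m) =>
      conj ((φ : Gp F m → ℂ) g)) (fun φ hφ => by rw [D.ser.P_U φ hφ x hx hx1, one_pow, one_mul]),
    Finset.sum_congr rfl (s₁ := FA) (g := fun φ : IrrCharacter (Gp F m) =>
      conj ((φ : Gp F m → ℂ) g)) (fun φ hφ => by rw [uA φ hφ, neg_one_sq, one_mul]),
    Finset.sum_congr rfl (s₁ := FB) (g := fun φ : IrrCharacter (Gp F m) =>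
      conj ((φ : Gp F m → ℂ) g)) (fun φ hφ => by rw [uB φ hφ, neg_one_sq, one_mul]),
    Finset.sum_congr rfl (s₁ := W) (g := fun φ : IrrCharacter (Gp F m) =>
      κ * conj ((φ : Gp F m → ℂ) g)) (fun φ hφ => by rw [uW φ hφ]), ← Finset.mul_sum]
  simp

/-- `x` of order four and `g` in a torus. -/
theorem ne_zero_uA (D : CharData A B R P W FA FB tr St t) {x g : Gp F m} (hx : x ∈ grpU F m)
    (hxz : x ∉ grpZ F m) (hg : g ∈ A) (hg1 : g ≠ 1) : sqSum x g ≠ 0 := by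
  obtain ⟨hq, hh⟩ := D.qh
  have h8 : (8 : ℝ) ≤ (Fintype.card F : ℝ) := by exact_mod_cast eight_le_card (F := F) (m := m)
  have hh2 : (2 : ℝ) ≤ (2 : ℝ) ^ m := by rcases hh with h | h <;> linarith
  obtain ⟨κ, hκ, hsum⟩ := D.u_setup hx hxz
  obtain ⟨hS, -, -⟩ := D.torus_values hg hg1
  have hw := D.sum_W_torus hg hg1
  have e : ∑ φ ∈ W, conj ((φ : Gp F m → ℂ) g) = (((t : ℝ) / (2 : ℝ) ^ m : ℝ) : ℂ) := by
    push_cast
    rw [eq_div_iff (pow_ne_zero _ two_ne_zero), mul_comm, hw]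
  intro h0
  rw [hsum g, Finset.sum_eq_zero (s := P) (fun φ hφ => by
      rw [D.ser.P_free φ hφ g (D.fpf hg hg1), map_zero]),
    Finset.sum_eq_zero (s := FB) (fun φ hφ => by rw [D.vanA φ hφ g hg hg1, map_zero]),
    ← map_sum, hS, map_one, e, zero_div, zero_div, add_zero, add_zero, add_assoc] at h0
  have hB : (5 : ℝ) ≤ (Fintype.card F : ℝ) + 1 - (t : ℝ) := by
    rcases D.t_casesR with h | h <;> rw [h, hq] <;> nlinarith
  have h1 : ‖(1 : ℂ)‖ ≤ 1 / 35 + 4 / 7 := by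
    rw [eq_neg_of_add_eq_zero_left h0, norm_neg]
    refine (norm_add_le _ _).trans (add_le_add ?_ ?_)
    · rw [show (((Fintype.card F : ℂ) - 1) * ((Fintype.card F : ℂ) + 1 - (t : ℂ))) =
        ((((Fintype.card F : ℝ) - 1) * ((Fintype.card F : ℝ) + 1 - (t : ℝ)) : ℝ) : ℂ) by
          push_cast; rfl, norm_div, norm_one, Complex.norm_real,
        Real.norm_of_nonneg (mul_nonneg (by linarith) (by linarith))]
      exact one_div_le_one_div_of_le (by norm_num) (by nlinarith)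
    · rw [show (((Fintype.card F : ℂ) - 1) * (2 : ℂ) ^ m) =
          ((((Fintype.card F : ℝ) - 1) * (2 : ℝ) ^ m : ℝ) : ℂ) by push_cast; rfl,
        norm_div, norm_mul, Complex.norm_real, Complex.norm_real,
        Real.norm_of_nonneg (mul_nonneg (by linarith : (0 : ℝ) ≤ (Fintype.card F : ℝ) - 1)
          (by positivity : (0 : ℝ) ≤ (2 : ℝ) ^ m)),
        Real.norm_eq_abs, show |(t : ℝ) / (2 : ℝ) ^ m| = 2 by
          rcases D.t_casesR with h | h <;> rw [h] <;> simp [abs_div],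
        div_le_iff₀ (mul_pos (by linarith) (by linarith))]
      nlinarith
  rw [norm_one] at h1
  norm_num at h1

/-- `x` of order four and `g` in the split torus. -/
theorem ne_zero_uH (D : CharData A B R P W FA FB tr St t) {x g : Gp F m} (hx : x ∈ grpU F m)
    (hxz : x ∉ grpZ F m) (hg : g ∈ grpH F m) (hg1 : g ≠ 1) : sqSum x g ≠ 0 := by
  have h8 : (8 : ℝ) ≤ (Fintype.card F : ℝ) := by exact_mod_cast eight_le_card (F := F) (m := m)
  obtain ⟨κ, -, hsum⟩ := D.u_setup hx hxz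
  obtain ⟨vA, vB, vW⟩ := D.vanR hg hg1
  intro h0
  rw [hsum g, Finset.sum_eq_zero (s := FA) (fun φ hφ => by rw [vA φ hφ, map_zero]),
    Finset.sum_eq_zero (s := FB) (fun φ hφ => by rw [vB φ hφ, map_zero]),
    Finset.sum_eq_zero (s := W) (fun φ hφ => by rw [vW φ hφ, map_zero]),
    mul_zero, zero_div, zero_div, zero_div, add_zero, add_zero, add_zero] at h0
  have h1 : ‖(1 : ℂ)‖ ≤ (Fintype.card F : ℝ) / ((Fintype.card F : ℝ) ^ 2 + 1) := by
    rw [eq_neg_of_add_eq_zero_left h0, norm_neg, norm_div,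
      show ((Fintype.card F : ℂ) ^ 2 + 1) = (((Fintype.card F : ℝ) ^ 2 + 1 : ℝ) : ℂ) by
        push_cast; rfl,
      Complex.norm_real, Real.norm_of_nonneg (by positivity)]
    refine div_le_div_of_nonneg_right ((norm_sum_le _ _).trans
      ((Finset.sum_le_sum (g := fun _ => (2 : ℝ)) fun φ hφ => ?_).trans ?_)) (by positivity)
    · rw [Complex.norm_conj]; exact D.ser.P_H φ hφ g hg hg1
    · rw [Finset.sum_const, nsmul_eq_mul]
      have : 2 * (P.card : ℝ) + 2 = (Fintype.card F : ℝ) := by exact_mod_cast D.ser.P_card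
      linarith
  rw [norm_one, le_div_iff₀ (by positivity)] at h1
  nlinarith

theorem cardsR (D : CharData A B R P W FA FB tr St t) :
    2 * (P.card : ℝ) + 2 = (Fintype.card F : ℝ) ∧
      4 * (FA.card : ℝ) = (Fintype.card F : ℝ) + (t : ℝ) ∧
      4 * (FB.card : ℝ) = (Fintype.card F : ℝ) - (t : ℝ) ∧
      (t : ℝ) ^ 2 = 2 * (Fintype.card F : ℝ) := by
  refine ⟨by exact_mod_cast D.ser.P_card, by exact_mod_cast D.nA_cast, ?_, by exact_mod_cast D.t_sq⟩
  have h : (((4 * (FB.card : ℤ)) : ℤ) : ℝ) = (((Fintype.card F : ℤ) + -t : ℤ) : ℝ) := by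
    rw [D.swap.nA_cast]
  push_cast at h
  linarith

/-- `x` of order four and `g` an involution. -/
theorem ne_zero_uz (D : CharData A B R P W FA FB tr St t) {x g : Gp F m} (hx : x ∈ grpU F m)
    (hxz : x ∉ grpZ F m) (hg : g ∈ grpZ F m) (hg1 : g ≠ 1) : sqSum x g ≠ 0 := by
  obtain ⟨hq, hh⟩ := D.qh
  have h8 : (8 : ℝ) ≤ (Fintype.card F : ℝ) := by exact_mod_cast eight_le_card (F := F) (m := m)
  have hgU : g ∈ grpU F m := by obtain ⟨b, rfl⟩ := hg; exact gT_mem 0 b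
  obtain ⟨κ, hκ, hsum⟩ := D.u_setup hx hxz
  obtain ⟨zA, zB, zW⟩ := D.z_values hg hg1
  obtain ⟨hPc, hn, hn', ht2⟩ := D.cardsR
  intro h0
  rw [hsum g,
    Finset.sum_congr rfl (s₁ := P) (g := fun _ => (1 : ℂ)) (fun φ hφ => by
      rw [D.ser.P_U φ hφ g hgU hg1, map_one]),
    Finset.sum_congr rfl (s₁ := FA) (g := fun _ => (t : ℂ) - 1) (fun φ hφ => by
      rw [zA φ hφ, map_sub, map_one, map_intCast]),
    Finset.sum_congr rfl (s₁ := FB) (g := fun _ => -(t : ℂ) - 1) (fun φ hφ => by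
      rw [zB φ hφ, map_sub, map_one, map_neg, map_intCast]),
    Finset.sum_congr rfl (s₁ := W) (g := fun _ => -(2 : ℂ) ^ m) (fun φ hφ => by
      rw [zW φ hφ, map_neg, map_pow, Complex.conj_ofNat]),
    Finset.sum_const, Finset.sum_const, Finset.sum_const, Finset.sum_const, D.cardW] at h0
  simp only [nsmul_eq_mul, mul_one] at h0
  set q := (Fintype.card F : ℝ) with hqdef
  set K := (q - 1) * (1 + (P.card : ℝ) / (q ^ 2 + 1)) +
    (FA.card : ℝ) * ((t : ℝ) - 1) / (q + 1 - (t : ℝ)) +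
    (FB.card : ℝ) * (-(t : ℝ) - 1) / (q + 1 + (t : ℝ)) with hK
  have hh2 : (2 : ℝ) ≤ (2 : ℝ) ^ m := by rcases hh with h | h <;> linarith
  have hb : (0 : ℝ) < q + 1 - (t : ℝ) := by
    rcases D.t_casesR with h | h <;> rw [h, hq] <;> nlinarith
  have ha : (0 : ℝ) < q + 1 + (t : ℝ) := by
    rcases D.t_casesR with h | h <;> rw [h, hq] <;> nlinarith
  have hq1 : (Fintype.card F : ℂ) - 1 ≠ 0 := by
    rw [show (Fintype.card F : ℂ) - 1 = ((q - 1 : ℝ) : ℂ) by push_cast [hqdef]; rfl]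
    exact_mod_cast (by linarith : q - 1 ≠ 0)
  have hKκ : (K : ℂ) = 2 * κ := by
    have h2m : (2 : ℂ) ^ m ≠ 0 := pow_ne_zero _ two_ne_zero
    have hW' : κ * (((2 : ℕ) : ℂ) * -(2 : ℂ) ^ m) / (((Fintype.card F : ℂ) - 1) * (2 : ℂ) ^ m) =
        -(2 * κ) / ((Fintype.card F : ℂ) - 1) := by
      push_cast; field_simp
    rw [hW'] at h0
    rw [hK]
    push_cast [hqdef]
    simp only [div_eq_mul_inv, mul_inv] at h0 ⊢
    linear_combination ((Fintype.card F : ℂ) - 1) * h0 +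
      (-(FA.card : ℂ) * ((t : ℂ) - 1) / ((Fintype.card F : ℂ) + 1 - (t : ℂ)) -
        (FB.card : ℂ) * (-(t : ℂ) - 1) / ((Fintype.card F : ℂ) + 1 + (t : ℂ)) + 2 * κ) *
        mul_inv_cancel₀ hq1
  have hKq : q < K := by
    have e : (K - q) * (q ^ 2 + 1) = q ^ 2 - 2 * q := by
      rw [hK]
      have hab : q ^ 2 + 1 = (q + 1 - (t : ℝ)) * (q + 1 + (t : ℝ)) := by linear_combination ht2
      calc _ = (q - 1) * (q ^ 2 + 1) + (q - 1) * (P.card : ℝ) +
            (FA.card : ℝ) * ((t : ℝ) - 1) * (q + 1 + (t : ℝ)) +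
            (FB.card : ℝ) * (-(t : ℝ) - 1) * (q + 1 - (t : ℝ)) - q * (q ^ 2 + 1) := by
              have h1 : (q : ℝ) ^ 2 + 1 ≠ 0 := by positivity
              field_simp
              rw [hab]
              ring
        _ = _ := by
              linear_combination (q - 1) / 2 * hPc +
                ((t : ℝ) - 1) * (q + 1 + (t : ℝ)) / 4 * hn +
                (-(t : ℝ) - 1) * (q + 1 - (t : ℝ)) / 4 * hn' + q * ht2
    by_contra hle
    push Not at hle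
    have : (0 : ℝ) < q ^ 2 - 2 * q := by nlinarith
    nlinarith
  have h1 : ‖(K : ℂ)‖ ≤ q := by
    rw [hKκ, norm_mul]
    norm_num
    linarith
  rw [Complex.norm_real, Real.norm_of_nonneg (by linarith)] at h1
  linarith

/-- `x` and `g` both of order four. -/
theorem ne_zero_uu (D : CharData A B R P W FA FB tr St t) {x g : Gp F m} (hx : x ∈ grpU F m)
    (hxz : x ∉ grpZ F m) (hg : g ∈ grpU F m) (hgz : g ∉ grpZ F m) : sqSum x g ≠ 0 := by
  obtain ⟨hq, hh⟩ := D.qh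
  have h8 : (8 : ℝ) ≤ (Fintype.card F : ℝ) := by exact_mod_cast eight_le_card (F := F) (m := m)
  have hg1 : g ≠ 1 := fun h => hgz (h ▸ one_mem _)
  obtain ⟨κ, -, hsum⟩ := D.u_setup hx hxz
  obtain ⟨uA, uB, uY, -⟩ := D.u_values hg hgz
  obtain ⟨hPc, hn, hn', -⟩ := D.cardsR
  intro h0
  rw [hsum g,
    Finset.sum_congr rfl (s₁ := P) (g := fun _ => (1 : ℂ)) (fun φ hφ => by
      rw [D.ser.P_U φ hφ g hg hg1, map_one]),
    Finset.sum_congr rfl (s₁ := FA) (g := fun _ => (-1 : ℂ)) (fun φ hφ => by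
      rw [uA φ hφ, map_neg, map_one]),
    Finset.sum_congr rfl (s₁ := FB) (g := fun _ => (-1 : ℂ)) (fun φ hφ => by
      rw [uB φ hφ, map_neg, map_one]),
    ← map_sum, uY, map_zero, mul_zero, zero_div, add_zero,
    Finset.sum_const, Finset.sum_const, Finset.sum_const] at h0
  set q := (Fintype.card F : ℝ) with hqdef
  have h1 : ((1 + (P.card : ℝ) / (q ^ 2 + 1) - (FA.card : ℝ) / ((q - 1) * (q + 1 - (t : ℝ))) -
      (FB.card : ℝ) / ((q - 1) * (q + 1 + (t : ℝ))) : ℝ) : ℂ) = ((0 : ℝ) : ℂ) := by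
    rw [Complex.ofReal_zero, ← h0]
    push_cast [hqdef]
    simp only [nsmul_eq_mul, mul_one]
    ring
  have h2 := Complex.ofReal_injective h1
  have hh2 : (2 : ℝ) ≤ (2 : ℝ) ^ m := by rcases hh with h | h <;> linarith
  have hb : (1 : ℝ) ≤ q + 1 - (t : ℝ) := by
    rcases D.t_casesR with h | h <;> rw [h, hq] <;> nlinarith
  have ha : (1 : ℝ) ≤ q + 1 + (t : ℝ) := by
    rcases D.t_casesR with h | h <;> rw [h, hq] <;> nlinarith
  have e1 : (FA.card : ℝ) / ((q - 1) * (q + 1 - (t : ℝ))) ≤ (FA.card : ℝ) / (q - 1) :=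
    div_le_div_of_nonneg_left (Nat.cast_nonneg _) (by linarith) (by nlinarith)
  have e2 : (FB.card : ℝ) / ((q - 1) * (q + 1 + (t : ℝ))) ≤ (FB.card : ℝ) / (q - 1) :=
    div_le_div_of_nonneg_left (Nat.cast_nonneg _) (by linarith) (by nlinarith)
  have e3 : (FA.card : ℝ) / (q - 1) + (FB.card : ℝ) / (q - 1) < 1 := by
    rw [← add_div, div_lt_one (by linarith)]; linarith
  have e4 : (0 : ℝ) ≤ (P.card : ℝ) / (q ^ 2 + 1) := by positivity
  linarith

/-- The bounds needed when the first element is in the split torus. -/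
theorem gen_bounds (D : CharData A B R P W FA FB tr St t) {g : Gp F m}
    (hg : g ∈ grpU F m ∨ g ∈ grpH F m ∨ g ∈ A ∨ g ∈ B) (hg1 : g ≠ 1) :
    ‖(St : Gp F m → ℂ) g‖ ≤ 3 ∧ ∀ φ ∈ P, ‖(φ : Gp F m → ℂ) g‖ ≤ 2 := by
  have key : (∀ p : Pts F m, g • p ≠ p) →
      ‖(St : Gp F m → ℂ) g‖ ≤ 3 ∧ ∀ φ ∈ P, ‖(φ : Gp F m → ℂ) g‖ ≤ 2 := fun hf =>
    ⟨by rw [D.ser.St_free g hf]; norm_num, fun φ hφ => by rw [D.ser.P_free φ hφ g hf]; norm_num⟩
  rcases hg with h | h | h | h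
  · exact ⟨by rw [D.ser.St_U g h hg1]; norm_num, fun φ hφ => by rw [D.ser.P_U φ hφ g h hg1]; norm_num⟩
  · exact ⟨D.ser.St_H g h hg1, fun φ hφ => D.ser.P_H φ hφ g h hg1⟩
  · exact key (D.fpf h hg1)
  · exact key (D.swap.fpf h hg1)

/-- An element of a torus `A`, against any representative. -/
theorem ne_zero_A (D : CharData A B R P W FA FB tr St t) {x g : Gp F m} (hx : x ∈ A) (hx1 : x ≠ 1)
    (hg1 : g ≠ 1) (hg : g ∈ grpZ F m ∨ (g ∈ grpU F m ∧ g ∉ grpZ F m) ∨ g ∈ grpH F m ∨ g ∈ A ∨ g ∈ B) :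
    sqSum x g ≠ 0 := by
  rcases hg with h | ⟨h, h'⟩ | h | h | h
  exacts [D.ne_zero_Az hx hx1 h hg1, D.ne_zero_Au hx hx1 h h', D.ne_zero_AH hx hx1 h hg1,
    D.ne_zero_AA hx hx1 h hg1, D.ne_zero_AB hx hx1 h hg1]

end CharData

/-- Every nonidentity element is a product of two conjugates of an element of order at least three. -/
theorem class_square {x : Gp F m} (hx : 2 < orderOf x) {g : Gp F m} (hg : g ≠ 1) :
    ∃ u v : Gp F m, g = (u * x * u⁻¹) * (v * x * v⁻¹) := by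
  classical
  haveI : Fintype (Gp F m) := Fintype.ofFinite _
  obtain ⟨A, B, R, P, W, FA, FB, tr, St, t, D, hcc⟩ := exists_char_data (F := F) (m := m)
  have hx1 : x ≠ 1 := fun h => by rw [h, orderOf_one] at hx; omega
  obtain ⟨c, hc⟩ := classify_five hcc hx1
  obtain ⟨d, hd⟩ := classify_five hcc hg
  have hx' := conj_ne_one (F := F) (m := m) hx1 c
  have hg' := conj_ne_one (F := F) (m := m) hg d
  have hne : sqSum x g ≠ 0 := by
    rw [← sqSum_conj x g c d]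
    rcases hc with h | ⟨h, h'⟩ | h | h | h
    · exfalso
      obtain ⟨b, hb⟩ := h
      have h2 : (c * x * c⁻¹) ^ 2 = 1 := by
        rw [hb, pow_two, gT_mul]; simp [gT_zero, CharTwo.add_self_eq_zero]
      have h3 := orderOf_dvd_of_pow_eq_one h2
      rw [CfsgLib.Ree.orderOf_conj'] at h3
      have := Nat.le_of_dvd (by norm_num) h3
      omega
    · rcases hd with k | ⟨k, k'⟩ | k | k | k
      exacts [D.ne_zero_uz h h' k hg', D.ne_zero_uu h h' k k', D.ne_zero_uH h h' k hg',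
        D.ne_zero_uA h h' k hg', D.swap.ne_zero_uA h h' k hg']
    · obtain ⟨h1, h2⟩ := D.gen_bounds (g := d * g * d⁻¹) (by
        rcases hd with k | ⟨k, -⟩ | k | k | k
        · left; obtain ⟨b, hb⟩ := k; rw [hb]; exact gT_mem 0 b
        · exact Or.inl k
        · exact Or.inr (Or.inl k)
        · exact Or.inr (Or.inr (Or.inl k))
        · exact Or.inr (Or.inr (Or.inr k))) hg'
      exact D.ne_zero_H h hx' h1 h2
    · exact D.ne_zero_A h hx' hg' hd
    · exact D.swap.ne_zero_A h hx' hg' (by tauto)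
  have hcount := CfsgLib.Char.class_mult x x g
  have hpos : Nat.card {p : Gp F m × Gp F m // IsConj x p.1 ∧ IsConj x p.2 ∧ p.1 * p.2 = g} ≠ 0 := by
    intro h0
    rw [h0, Nat.cast_zero] at hcount
    refine hne (((mul_eq_zero.mp hcount.symm).resolve_left ?_))
    have hidx : ((Subgroup.centralizer ({x} : Set (Gp F m))).index : ℂ) ≠ 0 :=
      Nat.cast_ne_zero.mpr Subgroup.index_ne_zero_of_finite
    exact div_ne_zero (mul_ne_zero hidx hidx) (Nat.cast_ne_zero.mpr Nat.card_pos.ne')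
  obtain ⟨⟨⟨y, z⟩, hy, hz, hyz⟩⟩ := (Nat.card_ne_zero.mp hpos).1
  obtain ⟨u, hu⟩ := isConj_iff.1 hy
  obtain ⟨v, hv⟩ := isConj_iff.1 hz
  exact ⟨u, v, by rw [hu, hv]; exact hyz.symm⟩

end CfsgLib.Suzuki
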