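import Mathlib

/-!
# Arithmetic of the degrees of the Suzuki group outside the principal series
-/

set_option autoImplicit false

namespace CfsgLib.Suzuki.DegreeArith

variable {ι : Type*} [DecidableEq ι]

/-- The two exceptional families are pinned down and the rest squares add up to `q`. -/
theorem endgame (R FA FB : Finset ι) (d : ι → ℕ) (cA cB : ι → ℤ) {q a b k : ℕ} (h8 : 8 ≤ q) (hq : q = 2 ^ k)
    (hsum : a + b = 2 * q + 2) (hprod : a * b = q ^ 2 + 1) (hodd : Odd (q ^ 2 + 1))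
    (hca : (q - 1).Coprime a) (hcb : (q - 1).Coprime b)
    (hFA : FA ⊆ R) (hFB : FB ⊆ R) (hdis : Disjoint FA FB)
    (hnA : 4 * FA.card + 1 = a) (hnB : 4 * FB.card + 1 = b)
    (hpos : ∀ i ∈ R, 0 < d i) (hdvd : ∀ i ∈ R, d i ∣ q ^ 2 * (q ^ 2 + 1))
    (hA : ∀ i ∈ FA, b ∣ d i) (hB : ∀ i ∈ FB, a ∣ d i)
    (hT : 4 * ∑ i ∈ R, d i ^ 2 = (a - 1) * b ^ 2 + (b - 1) * a ^ 2 + 4 * q)
    (hcA : ∀ i ∈ R, i ∉ FA → i ∉ FB → (a : ℤ) ∣ ((q - 1) * d i : ℕ) - cA i ∧ |cA i| ≤ 1)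
    (hcB : ∀ i ∈ R, i ∉ FA → i ∉ FB → (b : ℤ) ∣ ((q - 1) * d i : ℕ) - cB i ∧ |cB i| ≤ 1)
    (hc2 : ∑ i ∈ R \ (FA ∪ FB), cA i ^ 2 ≤ 2) :
    (∀ i ∈ FA, d i = b) ∧ (∀ i ∈ FB, d i = a) ∧ ∑ i ∈ R \ (FA ∪ FB), d i ^ 2 = q ∧
      ∀ i ∈ R \ (FA ∪ FB), (d i).Coprime (q ^ 2 + 1) ∧ cA i ≠ 0 := by
  have hqa : q < a * a := by
    have h1 : b ≤ 2 * q + 2 := by omega
    have h2 : q ^ 2 + 1 ≤ a * (2 * q + 2) := hprod ▸ Nat.mul_le_mul_left a h1
    by_contra hh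
    have h3 : a ≤ q := (Nat.le_mul_self a).trans (by omega)
    nlinarith
  have hqb : q < b * b := by
    have h1 : a ≤ 2 * q + 2 := by omega
    have h2 : q ^ 2 + 1 ≤ (2 * q + 2) * b := hprod ▸ Nat.mul_le_mul_right b h1
    by_contra hh
    have h3 : b ≤ q := (Nat.le_mul_self b).trans (by omega)
    nlinarith
  have hapos : 0 < a := by omega
  have hbpos : 0 < b := by omega
  have hsplit : ∑ i ∈ R, d i ^ 2 =
      ∑ i ∈ FA, d i ^ 2 + (∑ i ∈ FB, d i ^ 2 + ∑ i ∈ R \ (FA ∪ FB), d i ^ 2) := by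
    rw [← Finset.sum_sdiff (Finset.union_subset hFA hFB), Finset.sum_union hdis]
    ring
  have hbound : ∀ (S : Finset ι) (c : ℕ), (∀ i ∈ S, c ∣ d i) → S ⊆ R →
      ∀ j ∈ S, d j ≠ c → S.card * c ^ 2 + 3 * c ^ 2 ≤ ∑ i ∈ S, d i ^ 2 := by
    intro S c hS hSR j hj hne
    have h1 : ∀ i ∈ S, c ≤ d i := fun i hi => Nat.le_of_dvd (hpos i (hSR hi)) (hS i hi)
    have h2 : 2 * c ≤ d j := by
      obtain ⟨k, hk⟩ := hS j hj
      have := hpos j (hSR hj)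
      rcases k with _ | _ | k
      · simp [hk] at this
      · exact absurd (by simpa using hk) hne
      · rw [hk]; nlinarith
    have h3 : (S.card - 1) * c ^ 2 ≤ ∑ i ∈ S.erase j, d i ^ 2 := by
      rw [← Finset.card_erase_of_mem hj, ← smul_eq_mul]
      exact Finset.card_nsmul_le_sum _ _ _ fun i hi =>
        Nat.pow_le_pow_left (h1 i (Finset.mem_of_mem_erase hi)) 2
    have h4 : 0 < S.card := Finset.card_pos.mpr ⟨j, hj⟩
    rw [← Finset.add_sum_erase S (fun i => d i ^ 2) hj]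
    have h5 : (2 * c) ^ 2 ≤ d j ^ 2 := Nat.pow_le_pow_left h2 2
    obtain ⟨k, hk⟩ : ∃ k, S.card = k + 1 := ⟨S.card - 1, by omega⟩
    rw [hk, Nat.add_sub_cancel] at h3
    rw [hk]
    show (k + 1) * c ^ 2 + 3 * c ^ 2 ≤ d j ^ 2 + _
    nlinarith
  have hSA : FA.card * b ^ 2 ≤ ∑ i ∈ FA, d i ^ 2 := by
    rw [← smul_eq_mul]
    exact Finset.card_nsmul_le_sum _ _ _ fun i hi =>
      Nat.pow_le_pow_left (Nat.le_of_dvd (hpos i (hFA hi)) (hA i hi)) 2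
  have hSB : FB.card * a ^ 2 ≤ ∑ i ∈ FB, d i ^ 2 := by
    rw [← smul_eq_mul]
    exact Finset.card_nsmul_le_sum _ _ _ fun i hi =>
      Nat.pow_le_pow_left (Nat.le_of_dvd (hpos i (hFB hi)) (hB i hi)) 2
  have hT' : ∑ i ∈ R, d i ^ 2 = FA.card * b ^ 2 + FB.card * a ^ 2 + q := by
    rw [show a - 1 = 4 * FA.card by omega, show b - 1 = 4 * FB.card by omega, mul_assoc,
      mul_assoc] at hT
    omega
  rw [hsplit] at hT'
  have hdA : ∀ i ∈ FA, d i = b := by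
    intro i hi
    by_contra hne
    have h := hbound FA b hA hFA i hi hne
    nlinarith [Nat.zero_le (∑ i ∈ R \ (FA ∪ FB), d i ^ 2)]
  have hdB : ∀ i ∈ FB, d i = a := by
    intro i hi
    by_contra hne
    have h := hbound FB a hB hFB i hi hne
    nlinarith [Nat.zero_le (∑ i ∈ R \ (FA ∪ FB), d i ^ 2)]
  have hA' : ∑ i ∈ FA, d i ^ 2 = FA.card * b ^ 2 := by
    rw [Finset.sum_congr rfl fun i hi => by rw [hdA i hi], Finset.sum_const, smul_eq_mul]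
  have hB' : ∑ i ∈ FB, d i ^ 2 = FB.card * a ^ 2 := by
    rw [Finset.sum_congr rfl fun i hi => by rw [hdB i hi], Finset.sum_const, smul_eq_mul]
  have hrest : ∑ i ∈ R \ (FA ∪ FB), d i ^ 2 = q := by omega
  have hmem : ∀ i ∈ R \ (FA ∪ FB), i ∈ R ∧ i ∉ FA ∧ i ∉ FB := fun i hi => by
    simp only [Finset.mem_sdiff, Finset.mem_union, not_or] at hi
    exact ⟨hi.1, hi.2.1, hi.2.2⟩
  have hsmall : ∀ i ∈ R \ (FA ∪ FB), d i ^ 2 ≤ q := fun i hi =>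
    hrest ▸ Finset.single_le_sum (f := fun i => d i ^ 2) (fun _ _ => Nat.zero_le _) hi
  -- the other degrees are prime to `a` and to `b`
  have hcop : ∀ (x : ℕ) (c : ι → ℤ), 0 < x → q < x * x → (q - 1).Coprime x →
      ∀ i ∈ R \ (FA ∪ FB), (x : ℤ) ∣ ((q - 1) * d i : ℕ) - c i → |c i| ≤ 1 →
      (d i).Coprime x ∧ c i ≠ 0 := by
    intro x c hx hqx hcx i hi hdiv hc
    obtain ⟨hiR, -, -⟩ := hmem i hi
    have hne : c i ≠ 0 := by
      intro h0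
      rw [h0, sub_zero, Int.natCast_dvd_natCast] at hdiv
      have h1 := Nat.le_of_dvd (hpos i hiR) (hcx.symm.dvd_of_dvd_mul_left hdiv)
      have h2 := hsmall i hi
      nlinarith
    refine ⟨?_, hne⟩
    by_contra hn
    obtain ⟨p, hp, hp1, hp2⟩ := Nat.Prime.not_coprime_iff_dvd.mp hn
    have h1 : (p : ℤ) ∣ ((q - 1) * d i : ℕ) :=
      Int.natCast_dvd_natCast.mpr (dvd_mul_of_dvd_right hp1 _)
    have h2 : (p : ℤ) ∣ c i := by
      have := dvd_sub h1 ((Int.natCast_dvd_natCast.mpr hp2).trans hdiv)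
      rwa [sub_sub_cancel] at this
    have h3 := Int.le_of_dvd (abs_pos.mpr hne) ((dvd_abs _ _).mpr h2)
    have := hp.two_le
    omega
  have hcop' : ∀ i ∈ R \ (FA ∪ FB), (d i).Coprime (q ^ 2 + 1) ∧ cA i ≠ 0 := by
    intro i hi
    obtain ⟨hiR, hi1, hi2⟩ := hmem i hi
    obtain ⟨h1, h1'⟩ := hcA i hiR hi1 hi2
    obtain ⟨h2, h2'⟩ := hcB i hiR hi1 hi2
    obtain ⟨k1, k1'⟩ := hcop a cA hapos hqa hca i hi h1 h1'
    obtain ⟨k2, -⟩ := hcop b cB hbpos hqb hcb i hi h2 h2'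
    exact ⟨hprod ▸ k1.mul_right k2, k1'⟩
  exact ⟨hdA, hdB, hrest, hcop'⟩

end CfsgLib.Suzuki.DegreeArith
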