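import Cfsg.Agent.Lib.Suzuki.Coset
import Cfsg.Agent.Lib.Zassenhaus.OddChars
import Cfsg.Agent.Lib.Blocks.CentralChar
import Cfsg.Prelude.Def_DegreeGraph

/-!
# The characters of the Suzuki group induced from a point stabiliser, and the others
-/

set_option autoImplicit false
set_option linter.style.haveILetI false
set_option linter.unusedSectionVars false

namespace CfsgLib.Suzuki

open MulAction Cfsg CfsgLib.Zassenhaus
open scoped ComplexConjugate CfsgLib.Char

variable {F : Type*} [Field F] [Fintype F] [CharP F 2] {m : ℕ} [hP : Param F m]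

include hP

/-- The Suzuki group as a Zassenhaus group with cyclic odd two-point stabilizer. -/
theorem zg : ZG (Gp F m) (Pts F m) where
  trans a b c d hab hcd := by
    obtain ⟨g, h1, h2⟩ := is_two_pretransitive_iff.1 (two_transitive (F := F) (m := m)) hab hcd
    exact ⟨g, h1, h2⟩
  free g a b c hab hbc hac h1 h2 h3 := eq_one_of_fix_three hab hac hbc h1 h2 h3
  three := by
    rw [natCard_pts]
    have h := eight_le_card (F := F) (m := m)
    nlinarith

theorem regKernel : RegKernel (pinf F m) (grpU F m) where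
  le := by rintro u ⟨a, b, rfl⟩; exact gT_smul_pinf a b
  normal h hh u hu := grpU_conj_mem hu (mem_stabilizer_iff.1 hh)
  reg c d hc hd := grpU_regular hc hd
  nil := by
    haveI := Fact.mk Nat.prime_two
    refine (IsPGroup.of_card (p := 2) (n := (2 * m + 1) * 2) (G := grpU F m) ?_).isNilpotent
    rw [natCard_grpU, hP.card, ← pow_mul]

theorem oddInv : OddInv (Gp F m) (Pts F m) (pinf F m) (paff 0 0) (grpU F m) (gW F m) where
  hz := zg
  hK := regKernel
  hb := paff_ne_pinf _ _
  va := gW_smul_pinf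
  vb := gW_smul_zero
  inv h hh := by
    obtain ⟨t, rfl⟩ : h ∈ grpH F m := stab_inf_eq (F := F) (m := m) ▸ hh
    exact gW_conj_gH t
  comm x y := by
    obtain ⟨s, hs⟩ : (x : Gp F m) ∈ grpH F m := stab_inf_eq (F := F) (m := m) ▸ x.2
    obtain ⟨t, ht⟩ : (y : Gp F m) ∈ grpH F m := stab_inf_eq (F := F) (m := m) ▸ y.2
    refine Subtype.ext ?_
    show (x : Gp F m) * y = y * x
    rw [← hs, ← ht, ← map_mul, ← map_mul, mul_comm]
  odd := by
    rw [show D2 (Gp F m) (pinf F m) (paff 0 0) = grpH F m from stab_inf_eq, natCard_grpH]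
    exact odd_card_sub_one (F := F) (m := m)
  nt := by
    rw [show D2 (Gp F m) (pinf F m) (paff 0 0) = grpH F m from stab_inf_eq, natCard_grpH]
    have := eight_le_card (F := F) (m := m)
    omega

/-- The trivial, the Steinberg and the principal series characters `P`, and the rest `R`, with
values on the point stabiliser and at fixed-point-free elements. -/
structure SeriesData (R P : Finset (IrrCharacter (Gp F m))) (tr St : IrrCharacter (Gp F m)) :
    Prop where
  split : ∀ f : IrrCharacter (Gp F m) → ℂ,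
    ∑ φ, f φ = f tr + (f St + ∑ φ ∈ P, f φ) + ∑ φ ∈ R, f φ
  cover : ∀ φ, φ ∉ R → φ = tr ∨ φ = St ∨ φ ∈ P
  tr_apply : ∀ g, (tr : Gp F m → ℂ) g = 1
  St_one : (St : Gp F m → ℂ) 1 = ((Fintype.card F ^ 2 : ℕ) : ℂ)
  P_one : ∀ φ ∈ P, (φ : Gp F m → ℂ) 1 = ((Fintype.card F ^ 2 + 1 : ℕ) : ℂ)
  P_card : 2 * P.card + 2 = Fintype.card F
  St_free : ∀ g : Gp F m, (∀ p : Pts F m, g • p ≠ p) → (St : Gp F m → ℂ) g = -1
  P_free : ∀ φ ∈ P, ∀ g : Gp F m, (∀ p : Pts F m, g • p ≠ p) → (φ : Gp F m → ℂ) g = 0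
  St_U : ∀ g ∈ grpU F m, g ≠ 1 → (St : Gp F m → ℂ) g = 0
  P_U : ∀ φ ∈ P, ∀ g ∈ grpU F m, g ≠ 1 → (φ : Gp F m → ℂ) g = 1
  St_H : ∀ g ∈ grpH F m, g ≠ 1 → ‖(St : Gp F m → ℂ) g‖ ≤ 3
  P_H : ∀ φ ∈ P, ∀ g ∈ grpH F m, g ≠ 1 → ‖(φ : Gp F m → ℂ) g‖ ≤ 2
  R_H : ∀ φ ∈ R, ∀ g ∈ grpH F m, g ≠ 1 → (φ : Gp F m → ℂ) g = 0
  R_dvd : ∀ φ ∈ R, Fintype.card F - 1 ∣ charDegree (φ : Gp F m → ℂ)
  R_sum : 2 * ∑ φ ∈ R, (charDegree (φ : Gp F m → ℂ) : ℤ) ^ 2 =
    ((Fintype.card F : ℤ) - 1) ^ 2 * ((Fintype.card F : ℤ) * ((Fintype.card F : ℤ) ^ 2 - 1))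

/-- The series data exist. -/
theorem exists_series_data :
    ∃ (R P : Finset (IrrCharacter (Gp F m))) (tr St : IrrCharacter (Gp F m)),
      SeriesData R P tr St := by
  classical
  set G := Gp F m with hG
  haveI : Fintype G := Fintype.ofFinite _
  haveI : Fintype ↥(grpU F m) := Fintype.ofFinite _
  haveI : Fintype ↥(D2 G (pinf F m) (paff (m := m) (0 : F) 0)) := Fintype.ofFinite _
  haveI : Fintype ↥(stabilizer G (pinf F m)) := Fintype.ofFinite _
  set q := Fintype.card F with hq
  have h8 : 8 ≤ q := eight_le_card (F := F) (m := m)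
  have hO := oddInv (F := F) (m := m)
  set H := D2 G (pinf F m) (paff (m := m) (0 : F) 0) with hH
  have hHeq : H = grpH F m := stab_inf_eq
  have hHcard : Nat.card H = q - 1 := by rw [hHeq, natCard_grpH]
  have hUcard : Nat.card (grpU F m) = q ^ 2 := natCard_grpU
  obtain ⟨St, hSt1, hSt⟩ := OddInv.exists_steinberg hO
  let tr : IrrCharacter G := ⟨fun _ => 1, CfsgLib.Char.isIrrCharacter_one⟩
  let J : IrrCharacter H → IrrCharacter G :=
    fun l => if h : l = OddInv.one hO then St else ⟨OddInv.I hO l, OddInv.R_irr hO h⟩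
  have hJ : ∀ l, l ≠ OddInv.one hO → (J l : G → ℂ) = OddInv.I hO l := fun l h => by
    simp only [J, dif_neg h]
  set P : Finset (IrrCharacter G) := (Finset.univ.erase (OddInv.one hO)).image J with hPdef
  have hStdeg : (St : G → ℂ) 1 = ((q ^ 2 : ℕ) : ℂ) := by
    have h := congrFun hSt 1
    rw [OddInv.I_deg, hUcard, Pi.add_apply] at h
    linear_combination -h
  have hPdeg : ∀ φ ∈ P, (φ : G → ℂ) 1 = ((q ^ 2 + 1 : ℕ) : ℂ) := by
    intro φ hφ
    obtain ⟨l, hl, rfl⟩ := Finset.mem_image.mp hφ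
    rw [hJ l (Finset.ne_of_mem_erase hl), OddInv.I_deg, hUcard]
    push_cast; rfl
  have hfree : ∀ g : G, (∀ p : Pts F m, g • p ≠ p) → ∀ l, OddInv.I hO l g = 0 := by
    intro g hg l
    rw [OddInv.I_formula, CfsgLib.Char.extendByZero_notMem _ _ fun h => hg _ h, zero_add]
    refine Finset.sum_eq_zero fun u _ => CfsgLib.Char.extendByZero_notMem _ _ fun h => ?_
    rw [mem_stabilizer_iff, mul_smul, mul_smul, inv_smul_eq_iff] at h
    exact hg _ h
  have hStfree : ∀ g : G, (∀ p : Pts F m, g • p ≠ p) → (St : G → ℂ) g = -1 := by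
    intro g hg
    have h := congrFun hSt g
    rw [hfree g hg, Pi.add_apply] at h
    linear_combination -h
  have hPfree : ∀ φ ∈ P, ∀ g : G, (∀ p : Pts F m, g • p ≠ p) → (φ : G → ℂ) g = 0 := by
    intro φ hφ g hg
    obtain ⟨l, hl, rfl⟩ := Finset.mem_image.mp hφ
    rw [hJ l (Finset.ne_of_mem_erase hl)]
    exact hfree g hg l
  have hne1 : tr ≠ St := fun e => hSt1 (congrArg Subtype.val e).symm
  have htrP : tr ∉ P := by
    intro h
    have h1 := hPdeg tr h
    rw [show (tr : G → ℂ) 1 = ((1 : ℕ) : ℂ) by simp [tr], Nat.cast_inj] at h1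
    nlinarith
  have hStP : St ∉ P := by
    intro h
    have h1 := hPdeg St h
    rw [hStdeg, Nat.cast_inj] at h1
    omega
  set R : Finset (IrrCharacter G) := (insert tr (insert St P))ᶜ with hRdef
  have hnotR : ∀ φ, φ ∉ R → φ = tr ∨ φ = St ∨ φ ∈ P := by
    intro φ hφ
    by_contra hc
    push Not at hc
    exact hφ (by simp [R, hc.1, hc.2.1, hc.2.2])
  have hsplit : ∀ f : IrrCharacter G → ℂ,
      ∑ φ, f φ = f tr + (f St + ∑ φ ∈ P, f φ) + ∑ φ ∈ R, f φ := by
    intro f
    rw [hRdef, ← Finset.sum_add_sum_compl (insert tr (insert St P)) f, Finset.sum_insert,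
      Finset.sum_insert hStP]
    simp [hne1, htrP]
  have hPcard : 2 * P.card + 2 = q := by
    have hfib : ∀ l ∈ Finset.univ.erase (OddInv.one hO),
        ((Finset.univ.erase (OddInv.one hO)).filter fun l' => J l' = J l).card = 2 := by
      intro l hl
      have h1 := Finset.ne_of_mem_erase hl
      have hc1 : CfsgLib.Char.conjPerm l ≠ OddInv.one hO := fun e => h1
        ((CfsgLib.Char.conjPerm (G := H)).injective (e.trans (OddInv.conjPerm_one hO).symm))
      rw [show ((Finset.univ.erase (OddInv.one hO)).filter fun l' => J l' = J l) =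
        {l, CfsgLib.Char.conjPerm l} from ?_, Finset.card_pair (OddInv.conjPerm_ne hO h1)]
      ext l'
      simp only [Finset.mem_filter, Finset.mem_erase, Finset.mem_univ, and_true, Finset.mem_insert,
        Finset.mem_singleton]
      constructor
      · rintro ⟨h', e⟩
        have e' : OddInv.I hO l' = OddInv.I hO l := by rw [← hJ l' h', ← hJ l h1, e]
        have hi := OddInv.inner hO l' l
        rw [e', CfsgLib.Char.classInner_irr_self (OddInv.R_irr hO h1)] at hi
        by_contra hno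
        push Not at hno
        rw [if_neg hno.1, if_neg hno.2, add_zero] at hi
        exact one_ne_zero hi
      · rintro (rfl | rfl)
        · exact ⟨h1, rfl⟩
        · refine ⟨hc1, Subtype.ext ?_⟩
          rw [hJ _ hc1, hJ _ h1]
          by_contra hne
          have hi := OddInv.inner hO (CfsgLib.Char.conjPerm l) l
          rw [CfsgLib.Char.classInner_irr_ne (OddInv.R_irr hO hc1) (OddInv.R_irr hO h1) hne,
            if_pos rfl, if_neg fun e => OddInv.conjPerm_ne hO h1 e.symm, zero_add] at hi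
          exact zero_ne_one hi
    have hcount := Finset.card_eq_sum_card_image J (Finset.univ.erase (OddInv.one hO))
    rw [← hPdef, Finset.sum_congr rfl (g := fun _ => 2) fun φ hφ => ?_, Finset.sum_const,
      smul_eq_mul, Finset.card_erase_of_mem (Finset.mem_univ _), Finset.card_univ] at hcount
    · have hirr : Fintype.card (IrrCharacter H) = q - 1 := by
        have h := CfsgLib.Char.sum_sq_degree (G := H)
        simp only [OddInv.linear hO, one_pow, Finset.sum_const, Finset.card_univ, nsmul_eq_mul,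
          mul_one, hHcard, Nat.cast_inj] at h
        exact h
      omega
    · obtain ⟨l, hl, rfl⟩ := Finset.mem_image.mp hφ
      exact hfib l hl
  -- characters outside the series vanish on the torus
  have hvanH : ∀ χ ∈ R, ∀ h : G, h ∈ grpH F m → h ≠ 1 → (χ : G → ℂ) h = 0 := by
    intro χ hχ h hh h1
    simp only [hRdef, Finset.mem_compl, Finset.mem_insert, not_or] at hχ
    obtain ⟨hχ1, hχ2, hχP⟩ := hχ
    have hinner : ∀ l, classInner (OddInv.I hO l) (χ : G → ℂ) = 0 := by
      intro l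
      by_cases hl : l = OddInv.one hO
      · subst hl
        rw [hSt, CfsgLib.Char.classInner_add_left,
          show (fun _ : G => (1 : ℂ)) = (tr : G → ℂ) from rfl, CfsgLib.Char.classInner_coe,
          CfsgLib.Char.classInner_coe, if_neg (Ne.symm hχ1), if_neg (Ne.symm hχ2), add_zero]
      · rw [← hJ l hl, CfsgLib.Char.classInner_coe, if_neg]
        intro e
        exact hχP (e ▸ Finset.mem_image_of_mem J (Finset.mem_erase.mpr ⟨hl, Finset.mem_univ _⟩))
    set π := (exists_projection hO.hz hO.hK hO.hb).choose with hπdef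
    have hspec := (exists_projection hO.hz hO.hK hO.hb).choose_spec
    rw [← hπdef] at hspec
    set h₀ : H := ⟨h, hHeq ▸ hh⟩ with hh₀
    have h0 : ∑ x : stabilizer G (pinf F m),
        (∑ l : IrrCharacter H, conj ((l : H → ℂ) h₀) * OddInv.L hO l x) * conj ((χ : G → ℂ) x) = 0 := by
      simp only [Finset.sum_mul]
      rw [Finset.sum_comm]
      refine Finset.sum_eq_zero fun l _ => ?_
      have h := hinner l
      rw [OddInv.I, CfsgLib.Char.frobenius_reciprocity _ _ (CfsgLib.Char.isClassFunction_irr χ),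
        classInner, mul_eq_zero,
        or_iff_right (inv_ne_zero (Nat.cast_ne_zero.mpr Nat.card_pos.ne'))] at h
      simp only [mul_assoc]
      rw [← Finset.mul_sum, h, mul_zero]
    have hcol : ∀ x : stabilizer G (pinf F m),
        (∑ l : IrrCharacter H, conj ((l : H → ℂ) h₀) * OddInv.L hO l x) * conj ((χ : G → ℂ) x) =
        (if π x = h₀ then (Nat.card ↥(Subgroup.centralizer ({h₀} : Set H)) : ℂ) else 0) *
          conj ((χ : G → ℂ) h) := by
      intro x
      have hc : ∑ l : IrrCharacter H, conj ((l : H → ℂ) h₀) * OddInv.L hO l x =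
          if π x = h₀ then (Nat.card ↥(Subgroup.centralizer ({h₀} : Set H)) : ℂ) else 0 := by
        have h := CfsgLib.Char.column_orthogonality (π x) h₀
        rw [Finset.sum_congr rfl fun l _ => mul_comm _ _] at h
        show ∑ l : IrrCharacter H, conj ((l : H → ℂ) h₀) * (l : H → ℂ) (π x) = _
        rw [h]
        clear h
        have hiff : IsConj (π x) h₀ ↔ π x = h₀ := by
          refine ⟨fun hc => ?_, fun e => e ▸ IsConj.refl _⟩
          obtain ⟨c, hc⟩ := isConj_iff.mp hc
          rwa [hO.comm c (π x), mul_inv_cancel_right] at hc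
        split_ifs with hA hB hB
        exacts [rfl, absurd (hiff.mp hA) hB, absurd (hiff.mpr hB) hA, rfl]
      rw [hc]
      by_cases hx : π x = h₀
      · rw [if_pos hx]
        congr 2
        -- the fibre consists of conjugates of `h`
        obtain ⟨a, b, t, hxe⟩ := exists_eq_gT_mul_gH (g := (x : G)) (mem_stabilizer_iff.1 x.2)
        have ht : gH (m := m) t ∈ H := hHeq ▸ gH_mem t
        have e1 : x = (⟨gT a b, gT_smul_pinf a b⟩ : stabilizer G (pinf F m)) *
            ⟨gH t, ht.1⟩ := Subtype.ext hxe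
        have ht' : gH t = h := by
          rw [e1, map_mul, hspec.2.1 _ (gT_mem a b), one_mul,
            hspec.1 ⟨gH t, ht.1⟩ ⟨gH t, ht⟩ rfl] at hx
          exact congrArg Subtype.val hx
        rw [hxe, ht']
        have hmap : ∀ u : grpU F m,
            (u : G) * h * (u : G)⁻¹ * h⁻¹ ∈ grpU F m := fun u => by
          have hfix : h • pinf F m = pinf F m := by rw [← ht']; exact gH_smul_pinf t
          have := mul_mem u.2 (grpU_conj_mem (inv_mem u.2) hfix)
          rwa [show (u : G) * h * (u : G)⁻¹ * h⁻¹ = (u : G) * (h * (u : G)⁻¹ * h⁻¹) by group]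
        let f : grpU F m → grpU F m := fun u => ⟨(u : G) * h * (u : G)⁻¹ * h⁻¹, hmap u⟩
        have hinj : Function.Injective f := by
          intro u w e
          have e' : (u : G) * h * (u : G)⁻¹ = (w : G) * h * (w : G)⁻¹ :=
            mul_right_cancel (congrArg Subtype.val e :)
          have hc : (w : G)⁻¹ * u ∈ Subgroup.centralizer ({h} : Set G) := by
            rw [Subgroup.mem_centralizer_singleton_iff]
            calc (w : G)⁻¹ * u * h = (w : G)⁻¹ * ((u : G) * h * (u : G)⁻¹) * u := by group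
              _ = h * ((w : G)⁻¹ * u) := by rw [e']; group
          rw [centralizer_gH hh h1] at hc
          obtain ⟨s, hs⟩ := hc
          obtain ⟨c, d, hcd⟩ := mul_mem (inv_mem w.2) u.2
          have h3 : gT (m := m) c d * gH 1 = gT 0 0 * gH s := by
            rw [map_one, mul_one, gT_zero, one_mul, hs, hcd]
          obtain ⟨rfl, rfl, -⟩ := gTH_inj h3
          rw [gT_zero] at hcd
          exact Subtype.ext (inv_mul_eq_one.mp hcd).symm
        obtain ⟨u, hu⟩ := (Finite.injective_iff_surjective.mp hinj) ⟨gT a b, gT_mem a b⟩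
        have hu' : (u : G) * h * (u : G)⁻¹ * h⁻¹ = gT a b := congrArg Subtype.val hu
        rw [← hu', inv_mul_cancel_right, CfsgLib.Char.isClassFunction_irr χ h]
      · rw [if_neg hx, zero_mul, zero_mul]
    rw [Finset.sum_congr rfl fun x _ => hcol x, ← Finset.sum_mul, mul_eq_zero, map_eq_zero] at h0
    refine h0.resolve_left ?_
    rw [← Finset.sum_filter, Finset.sum_const, nsmul_eq_mul, mul_eq_zero, not_or]
    refine ⟨Nat.cast_ne_zero.mpr (Finset.card_ne_zero.mpr ⟨⟨h, h₀.2.1⟩, ?_⟩),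
      Nat.cast_ne_zero.mpr Nat.card_pos.ne'⟩
    exact Finset.mem_filter.mpr ⟨Finset.mem_univ _, hspec.1 _ h₀ rfl⟩
  have hdeg : ∀ φ : IrrCharacter G, (φ : G → ℂ) 1 = (charDegree (φ : G → ℂ) : ℂ) :=
    fun φ => (CfsgLib.Blocks.irr_degree_eq φ).1
  have hU : ∀ g ∈ grpU F m, g ≠ 1 → (St : G → ℂ) g = 0 := by
    intro g hg hg1
    have h := congrFun hSt g
    rw [OddInv.I_kernel hO _ hg hg1, Pi.add_apply] at h
    linear_combination -h
  have hL : ∀ (l : IrrCharacter H) (x : stabilizer G (pinf F m)), ‖OddInv.L hO l x‖ ≤ 1 := by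
    intro l x
    have key : ∀ y : H, ‖(l : H → ℂ) y‖ ≤ 1 := by
      intro y
      obtain ⟨n, ρ, hρ, e⟩ := l.2
      have h1 := OddInv.linear hO l
      rw [← e, Representation.char_one] at h1
      rw [← e]
      refine (CfsgLib.Char.norm_character_le ρ y).trans (le_of_eq ?_)
      exact_mod_cast h1
    exact key _
  have hI : ∀ (l : IrrCharacter H) (g : G), g ∈ grpH F m → g ≠ 1 → ‖OddInv.I hO l g‖ ≤ 2 := by
    intro l g hg hg1
    have hbd : ∀ x : G, ‖extendByZero (stabilizer G (pinf F m)) (OddInv.L hO l) x‖ ≤ 1 := by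
      intro x
      by_cases hx : x ∈ stabilizer G (pinf F m)
      · rw [CfsgLib.Char.extendByZero_mem _ _ hx]; exact hL l _
      · rw [CfsgLib.Char.extendByZero_notMem _ _ hx, norm_zero]; exact zero_le_one
    have hgH : g ∈ H := hHeq ▸ hg
    rw [OddInv.I_formula, Finset.sum_eq_single (1 : grpU F m)]
    · refine (norm_add_le _ _).trans ?_
      have h1 := hbd g
      have h2 := hbd ((((1 : grpU F m) : G) * gW F m)⁻¹ * g * (((1 : grpU F m) : G) * gW F m))
      linarith
    · intro u _ hu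
      refine CfsgLib.Char.extendByZero_notMem _ _ fun hmem => hu ?_
      obtain ⟨t, rfl⟩ := hg
      have h1 := (OddInv.conj_mem_D2 hO hgH.1 hmem).2
      change ((u : G)⁻¹ * gH t * (u : G)) • paff (m := m) (0 : F) 0 = paff 0 0 at h1
      rw [mul_smul, mul_smul, inv_smul_eq_iff] at h1
      have hne : (u : G) • paff (m := m) (0 : F) 0 ≠ pinf F m := fun h => by
        obtain ⟨a, b, hab⟩ := u.2
        exact paff_ne_pinf (m := m) (0 : F) 0 (MulAction.injective (u : G)
          (h.trans (by rw [hab, gT_smul_pinf]) : (u : G) • paff (m := m) (0 : F) 0 =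
            (u : G) • pinf F m))
      rcases gH_fix (fun h => hg1 (by rw [h, map_one])) h1 with h | h
      · exact absurd h hne
      · obtain ⟨s, -, huniq⟩ := grpU_regular (F := F) (m := m) (paff_ne_pinf (0 : F) 0)
          (paff_ne_pinf (0 : F) 0)
        exact (huniq u h).trans (huniq 1 (one_smul _ _)).symm
    · simp
  refine ⟨R, P, tr, St, ⟨hsplit, hnotR, fun _ => rfl, hStdeg, hPdeg, hPcard, hStfree, hPfree, hU,
    ?_, ?_, ?_, hvanH, ?_, ?_⟩⟩
  · intro φ hφ g hg hg1
    obtain ⟨l, hl, rfl⟩ := Finset.mem_image.mp hφ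
    rw [hJ l (Finset.ne_of_mem_erase hl)]
    exact OddInv.I_kernel hO l hg hg1
  · intro g hg hg1
    have h := congrFun hSt g
    rw [Pi.add_apply] at h
    rw [show (St : G → ℂ) g = OddInv.I hO (OddInv.one hO) g - 1 by linear_combination -h]
    refine (norm_sub_le _ _).trans ?_
    rw [norm_one]
    linarith [hI (OddInv.one hO) g hg hg1]
  · intro φ hφ g hg hg1
    obtain ⟨l, hl, rfl⟩ := Finset.mem_image.mp hφ
    rw [hJ l (Finset.ne_of_mem_erase hl)]
    exact hI l g hg hg1
  · intro φ hφ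
    obtain ⟨n, hn⟩ := CfsgLib.Char.exists_nat_classInner
      (CfsgLib.Char.isCharacter_restrict H (CfsgLib.Char.isCharacter_of_isIrr φ.2))
      (CfsgLib.Char.isCharacter_one (G := H))
    refine ⟨n, ?_⟩
    rw [classInner, Finset.sum_eq_single (1 : H), hHcard, OneMemClass.coe_one, hdeg, map_one,
      mul_one, inv_mul_eq_iff_eq_mul₀ (Nat.cast_ne_zero.mpr (by omega))] at hn
    · exact_mod_cast hn
    · intro x _ hx
      rw [hvanH φ hφ x (hHeq ▸ x.2) fun e => hx (Subtype.ext e), zero_mul]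
    · simp
  · have h := CfsgLib.Char.sum_sq_degree (G := G)
    simp only [hdeg] at h
    have hp : ∀ φ ∈ P, (charDegree (φ : G → ℂ) : ℂ) ^ 2 = ((q : ℂ) ^ 2 + 1) ^ 2 := fun φ hφ => by
      rw [← hdeg, hPdeg φ hφ]; push_cast; rfl
    rw [hsplit, Finset.sum_congr rfl hp, Finset.sum_const, nsmul_eq_mul, ← hdeg tr, ← hdeg St,
      hStdeg, natCard_group, ← hq] at h
    simp only [tr] at h
    have hP2 : 2 * (P.card : ℂ) + 2 = (q : ℂ) := by exact_mod_cast hPcard
    have key : ((2 * ∑ φ ∈ R, (charDegree (φ : G → ℂ) : ℤ) ^ 2 : ℤ) : ℂ) =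
        ((((q : ℤ) - 1) ^ 2 * ((q : ℤ) * ((q : ℤ) ^ 2 - 1)) : ℤ) : ℂ) := by
      have h1 : (1 : ℕ) ≤ q := by omega
      push_cast [Nat.cast_sub h1] at h ⊢
      linear_combination 2 * h - ((q : ℂ) ^ 2 + 1) ^ 2 * hP2
    exact_mod_cast key


/-- The characters outside the trivial, the Steinberg and the principal series characters:
degrees, squares, and column sums at fixed-point-free elements. -/
theorem exists_series :
    ∃ R : Finset (IrrCharacter (Gp F m)),
      (∀ φ, φ ∉ R → charDegree (φ : Gp F m → ℂ) = 1 ∨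
        charDegree (φ : Gp F m → ℂ) = Fintype.card F ^ 2 ∨
        charDegree (φ : Gp F m → ℂ) = Fintype.card F ^ 2 + 1) ∧
      (∃ φ : IrrCharacter (Gp F m), charDegree (φ : Gp F m → ℂ) = Fintype.card F ^ 2) ∧
      (∃ φ : IrrCharacter (Gp F m), charDegree (φ : Gp F m → ℂ) = Fintype.card F ^ 2 + 1) ∧
      (∀ φ, φ ∉ R → ∀ g g' : Gp F m, (∀ p : Pts F m, g • p ≠ p) → (∀ p : Pts F m, g' • p ≠ p) →
        (φ : Gp F m → ℂ) g = (φ : Gp F m → ℂ) g') ∧
      (∀ g : Gp F m, (∀ p : Pts F m, g • p ≠ p) →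
        ∑ φ ∈ R, Complex.normSq ((φ : Gp F m → ℂ) g) =
          (Nat.card ↥(Subgroup.centralizer ({g} : Set (Gp F m))) : ℝ) - 2) ∧
      (∀ φ ∈ R, Fintype.card F - 1 ∣ charDegree (φ : Gp F m → ℂ)) ∧
      2 * ∑ φ ∈ R, (charDegree (φ : Gp F m → ℂ) : ℤ) ^ 2 =
        ((Fintype.card F : ℤ) - 1) ^ 2 * ((Fintype.card F : ℤ) * ((Fintype.card F : ℤ) ^ 2 - 1)) := by
  obtain ⟨R, P, tr, St, D⟩ := exists_series_data (F := F) (m := m)
  haveI : Fintype (Gp F m) := Fintype.ofFinite _
  have hdeg : ∀ (φ : IrrCharacter (Gp F m)) (n : ℕ), (φ : Gp F m → ℂ) 1 = (n : ℂ) →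
      charDegree (φ : Gp F m → ℂ) = n := fun φ n h => by
    rw [(CfsgLib.Blocks.irr_degree_eq φ).1, Nat.cast_inj] at h
    exact h
  refine ⟨R, ?_, ⟨St, hdeg St _ D.St_one⟩, ?_, ?_, ?_, D.R_dvd, D.R_sum⟩
  · intro φ hφ
    rcases D.cover φ hφ with rfl | rfl | h
    · exact Or.inl (hdeg _ 1 (by rw [D.tr_apply, Nat.cast_one]))
    · exact Or.inr (Or.inl (hdeg _ _ D.St_one))
    · exact Or.inr (Or.inr (hdeg _ _ (D.P_one φ h)))
  · have h8 := eight_le_card (F := F) (m := m)
    have hP2 := D.P_card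
    obtain ⟨φ, hφ⟩ : P.Nonempty := Finset.card_pos.mp (by omega)
    exact ⟨φ, hdeg φ _ (D.P_one φ hφ)⟩
  · intro φ hφ g g' hg hg'
    rcases D.cover φ hφ with rfl | rfl | h
    · rw [D.tr_apply, D.tr_apply]
    · rw [D.St_free g hg, D.St_free g' hg']
    · rw [D.P_free φ h g hg, D.P_free φ h g' hg']
  · intro g hg
    have h := CfsgLib.Char.column_orthogonality g g
    rw [if_pos (IsConj.refl g), D.split, Finset.sum_eq_zero (fun φ hφ => by
      rw [D.P_free φ hφ g hg, zero_mul]), D.St_free g hg, D.tr_apply] at h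
    simp only [map_one, mul_one, map_neg, neg_mul, neg_neg, add_zero, Complex.mul_conj,
      ← Complex.ofReal_sum] at h
    refine Complex.ofReal_injective ?_
    push_cast at h ⊢
    linear_combination h

end CfsgLib.Suzuki
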