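import Cfsg.Agent.Lib.Suzuki.TorClasses
import Cfsg.Agent.Lib.Suzuki.DegreeSeries
import Cfsg.Agent.Lib.Suzuki.DegreeArith
import Cfsg.Agent.Lib.Char.TIFamily
import Cfsg.Agent.Lib.BrauerReynolds.Degrees

/-!
# The divisibility properties of the character degrees of the Suzuki group
-/

set_option autoImplicit false
set_option linter.style.haveILetI false
set_option linter.unusedSectionVars false

namespace CfsgLib.Suzuki

open MulAction Cfsg
open scoped CfsgLib.Char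

variable {F : Type*} [Field F] [Fintype F] [CharP F 2] {m : ℕ} [hP : Param F m]

include hP

/-- An element of a subgroup of order dividing `q² + 1` has no fixed point. -/
theorem fixed_point_free {X : Subgroup (Gp F m)} (hd : Nat.card X ∣ Fintype.card F ^ 2 + 1)
    {g : Gp F m} (hg : g ∈ X) (h1 : g ≠ 1) (p : Pts F m) : g • p ≠ p := by
  intro hp
  have h : Nat.card ↥(stabilizer (Gp F m) p) = Fintype.card F ^ 2 * (Fintype.card F - 1) := by
    have h := (stabilizer (Gp F m) p).card_mul_index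
    rw [index_stabilizer_of_transitive, natCard_pts, natCard_group] at h
    refine Nat.eq_of_mul_eq_mul_right (Nat.succ_pos (Fintype.card F ^ 2)) ?_
    rw [Nat.succ_eq_add_one, h]
    ring
  refine h1 (orderOf_eq_one_iff.1 (Nat.eq_one_of_dvd_coprimes
    (coprime_card_sq_right (F := F) (m := m)) ((Subgroup.orderOf_dvd_natCard _ hg).trans hd) ?_))
  rw [← h]
  exact Subgroup.orderOf_dvd_natCard _ (mem_stabilizer_iff.2 hp)

/-- Characters outside the series are constant on fixed-point-free elements. -/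
def SeriesConst (R : Finset (IrrCharacter (Gp F m))) : Prop :=
  ∀ φ, φ ∉ R → ∀ g g' : Gp F m, (∀ p : Pts F m, g • p ≠ p) → (∀ p : Pts F m, g' • p ≠ p) →
    (φ : Gp F m → ℂ) g = (φ : Gp F m → ℂ) g'

/-- The column sums at fixed-point-free elements. -/
def SeriesColumn (R : Finset (IrrCharacter (Gp F m))) : Prop :=
  ∀ g : Gp F m, (∀ p : Pts F m, g • p ≠ p) → ∑ φ ∈ R, Complex.normSq ((φ : Gp F m → ℂ) g) =
    (Nat.card ↥(Subgroup.centralizer ({g} : Set (Gp F m))) : ℝ) - 2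

/-- The constants on a torus are integers congruent to the degrees. -/
theorem exists_const {X : Subgroup (Gp F m)} (hX : Tor X 4) (hne : X ≠ ⊥) (φ : IrrCharacter (Gp F m))
    (hc : ∀ x ∈ X, ∀ y ∈ X, x ≠ 1 → y ≠ 1 → (φ : Gp F m → ℂ) x = (φ : Gp F m → ℂ) y) :
    ∃ c : ℤ, (∀ x ∈ X, x ≠ 1 → (φ : Gp F m → ℂ) x = (c : ℂ)) ∧
      (Nat.card X : ℤ) ∣ (charDegree (φ : Gp F m → ℂ) : ℤ) - c := by
  haveI : Fintype (Gp F m) := Fintype.ofFinite _
  haveI : Nontrivial X := (Subgroup.nontrivial_iff_ne_bot X).mpr hne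
  obtain ⟨x₀, hx₀⟩ := exists_ne (1 : X)
  have hx₀' : (x₀ : Gp F m) ≠ 1 := fun h => hx₀ (Subtype.ext h)
  obtain ⟨k, hk, hdvd⟩ := CfsgLib.Char.exists_int_of_constant X hX.comm hne φ
    (c := (φ : Gp F m → ℂ) x₀) (fun x hx h1 => hc x hx x₀ x₀.2 h1 hx₀')
    (CfsgLib.Blocks.irr_degree_eq φ).1
  exact ⟨k, fun x hx h1 => (hc x hx x₀ x₀.2 h1 hx₀').trans hk, hdvd⟩

/-- The exceptional family of a large torus. -/
theorem torus_big [DecidableEq (IrrCharacter (Gp F m))] {R : Finset (IrrCharacter (Gp F m))} (hconst : SeriesConst R)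
    (hcol : SeriesColumn R) {X : Subgroup (Gp F m)} (hX : Tor X 4) (hne : X ≠ ⊥)
    (hd : Nat.card X ∣ Fintype.card F ^ 2 + 1) (h9 : 9 ≤ Nat.card X) :
    ∃ (Fam : Finset (IrrCharacter (Gp F m))) (c : IrrCharacter (Gp F m) → ℤ),
      Fam ⊆ R ∧ 4 * Fam.card + 1 = Nat.card X ∧
      (∀ φ : IrrCharacter (Gp F m), φ ∉ Fam → (∀ x ∈ X, x ≠ 1 → (φ : Gp F m → ℂ) x = (c φ : ℂ)) ∧
        (Nat.card X : ℤ) ∣ (charDegree (φ : Gp F m → ℂ) : ℤ) - c φ) ∧
      (∀ φ ∈ Fam, ∀ ψ ∈ Fam, ∀ g : Gp F m, (∀ h : Gp F m, h * g * h⁻¹ ∈ X → g = 1) →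
        (φ : Gp F m → ℂ) g = (ψ : Gp F m → ℂ) g) ∧
      (∀ φ ∈ Fam, ∀ ψ ∈ Fam,
        (∀ x ∈ X, x ≠ 1 → (φ : Gp F m → ℂ) x = (ψ : Gp F m → ℂ) x) → φ = ψ) ∧
      (∀ φ ∈ Fam, ¬ ∀ x ∈ X, ∀ y ∈ X, x ≠ 1 → y ≠ 1 →
        (φ : Gp F m → ℂ) x = (φ : Gp F m → ℂ) y) ∧
      ∑ φ ∈ R \ Fam, c φ ^ 2 ≤ 2 := by
  classical
  haveI : Fintype (Gp F m) := Fintype.ofFinite _
  haveI : Fintype X := Fintype.ofFinite _
  obtain ⟨Fam, hn, hout, hagree, hsep, hnonc, hnorm⟩ :=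
    CfsgLib.Char.exists_family X hX.cent hne (e := 4) hX.card_normalizer
  set a := Nat.card X with ha
  have hnc := hnonc (by omega) (by
    have h1 : 5 ≤ a - 4 := by omega
    have h2 : 8 ≤ a - 1 := by omega
    calc 4 < 5 * 8 := by norm_num
      _ ≤ (a - 4) * (a - 1) := Nat.mul_le_mul h1 h2)
  choose c hc using fun φ : IrrCharacter (Gp F m) =>
    show ∃ c : ℤ, φ ∉ Fam → (∀ x ∈ X, x ≠ 1 → (φ : Gp F m → ℂ) x = (c : ℂ)) ∧
      (a : ℤ) ∣ (charDegree (φ : Gp F m → ℂ) : ℤ) - c from by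
      by_cases h : φ ∈ Fam
      · exact ⟨0, fun h' => absurd h h'⟩
      · obtain ⟨c, hc⟩ := exists_const hX hne φ (hout φ h)
        exact ⟨c, fun _ => hc⟩
  have hsub : Fam ⊆ R := fun φ hφ => by
    by_contra hR
    exact hnc φ hφ fun x hx y hy hx1 hy1 =>
      hconst φ hR x y (fixed_point_free hd hx hx1) (fixed_point_free hd hy hy1)
  refine ⟨Fam, c, hsub, hn, hc, hagree, fun φ hφ ψ hψ h => hsep φ hφ ψ hψ
    (fun x hx y hy hx1 hy1 => by rw [h x hx hx1, h y hy hy1, sub_self, sub_self]), hnc, ?_⟩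
  obtain ⟨C, hC⟩ : ∃ C : ℤ, C = ∑ φ ∈ R \ Fam, c φ ^ 2 := ⟨_, rfl⟩
  have hone : ∀ K : ℝ, ∑ x : X, (if (x : Gp F m) = 1 then (0 : ℝ) else K) = ((a : ℝ) - 1) * K := by
    intro K
    rw [Finset.sum_congr rfl (g := fun x : X => K - if x = 1 then K else 0) fun x _ => by
      by_cases hx : x = 1
      · simp [hx]
      · simp [hx],
      Finset.sum_sub_distrib, Finset.sum_ite_eq' Finset.univ (1 : X), if_pos (Finset.mem_univ _),
      Finset.sum_const, Finset.card_univ, nsmul_eq_mul, ← Nat.card_eq_fintype_card]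
    ring
  have htot : ∑ φ ∈ Fam, ∑ x : X, (if (x : Gp F m) = 1 then 0 else
      Complex.normSq ((φ : Gp F m → ℂ) (x : Gp F m))) =
      ((a : ℝ) - 1) * (((a : ℝ) - 2) - (C : ℝ)) := by
    rw [Finset.sum_comm, ← hone]
    refine Finset.sum_congr rfl fun x _ => ?_
    by_cases hx : (x : Gp F m) = 1
    · simp only [if_pos hx, Finset.sum_const_zero]
    · simp only [if_neg hx]
      have h := hcol x (fixed_point_free hd x.2 hx)
      rw [hX.cent x x.2 hx, ← Finset.sum_sdiff hsub,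
        Finset.sum_congr rfl (g := fun φ => ((c φ : ℝ)) ^ 2) fun φ hφ => ?_] at h
      · rw [hC]
        push_cast
        linarith
      · rw [(hc φ (Finset.mem_sdiff.mp hφ).2).1 x x.2 hx,
          show ((c φ : ℤ) : ℂ) = (((c φ : ℝ)) : ℂ) by push_cast; rfl, Complex.normSq_ofReal, sq]
  rw [htot] at hnorm
  have ha' : (9 : ℝ) ≤ (a : ℝ) := by exact_mod_cast h9
  have hlt : (C : ℝ) < 3 := by
    push_cast at hnorm
    by_contra hge
    push Not at hge
    nlinarith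
  have h3 : C < 3 := by exact_mod_cast hlt
  have h2 : C ≤ 2 := by omega
  rw [hC] at h2
  exact h2

/-- For a torus of order five all characters are constant on the nonidentity elements. -/
theorem torus_small {R : Finset (IrrCharacter (Gp F m))} (hcol : SeriesColumn R)
    {X : Subgroup (Gp F m)} (hX : Tor X 4) (hne : X ≠ ⊥)
    (hd : Nat.card X ∣ Fintype.card F ^ 2 + 1) (h5 : Nat.card X = 5) :
    ∃ c : IrrCharacter (Gp F m) → ℤ,
      (∀ φ : IrrCharacter (Gp F m), (∀ x ∈ X, x ≠ 1 → (φ : Gp F m → ℂ) x = (c φ : ℂ)) ∧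
        (Nat.card X : ℤ) ∣ (charDegree (φ : Gp F m → ℂ) : ℤ) - c φ) ∧
      ∑ φ ∈ R, c φ ^ 2 = 3 := by
  classical
  haveI : Fintype (Gp F m) := Fintype.ofFinite _
  haveI : Fintype X := Fintype.ofFinite _
  obtain ⟨Fam, hn, hout, -, -, -, -⟩ :=
    CfsgLib.Char.exists_family X hX.cent hne (e := 4) hX.card_normalizer
  obtain ⟨φ₀, hφ₀⟩ := Finset.card_eq_one.mp (show Fam.card = 1 by omega)
  have hall : ∀ φ : IrrCharacter (Gp F m), ∀ x ∈ X, ∀ y ∈ X, x ≠ 1 → y ≠ 1 →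
      (φ : Gp F m → ℂ) x = (φ : Gp F m → ℂ) y := by
    intro φ x hx y hy hx1 hy1
    by_cases hφ : φ ∈ Fam
    · rw [hφ₀, Finset.mem_singleton] at hφ
      subst hφ
      have hX' := CfsgLib.Char.sum_degree_mul_irr (G := Gp F m) x
      have hY' := CfsgLib.Char.sum_degree_mul_irr (G := Gp F m) y
      rw [if_neg hx1, ← Finset.add_sum_erase _ _ (Finset.mem_univ φ)] at hX'
      rw [if_neg hy1, ← Finset.add_sum_erase _ _ (Finset.mem_univ φ)] at hY'
      rw [Finset.sum_congr rfl fun ψ hψ => by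
        rw [hout ψ (by rw [hφ₀, Finset.mem_singleton]; exact Finset.ne_of_mem_erase hψ)
          x hx y hy hx1 hy1]] at hX'
      refine mul_left_cancel₀ (CfsgLib.Char.irr_degree_ne_zero φ.2) ?_
      linear_combination hX' - hY'
    · exact hout φ hφ x hx y hy hx1 hy1
  choose c hc using fun φ : IrrCharacter (Gp F m) => exists_const hX hne φ (hall φ)
  refine ⟨c, hc, ?_⟩
  haveI : Nontrivial X := (Subgroup.nontrivial_iff_ne_bot X).mpr hne
  obtain ⟨x₀, hx₀⟩ := exists_ne (1 : X)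
  have hx₀' : (x₀ : Gp F m) ≠ 1 := fun h => hx₀ (Subtype.ext h)
  have h := hcol x₀ (fixed_point_free hd x₀.2 hx₀')
  rw [hX.cent x₀ x₀.2 hx₀', h5, Finset.sum_congr rfl (g := fun φ => ((c φ : ℝ)) ^ 2) fun φ _ => by
    rw [(hc φ).1 x₀ x₀.2 hx₀', show ((c φ : ℤ) : ℂ) = (((c φ : ℝ)) : ℂ) by push_cast; rfl,
      Complex.normSq_ofReal, sq]] at h
  norm_num at h
  exact_mod_cast h

/-- The exceptional families of the two tori of order dividing `q² + 1`, and the two characters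
left over. -/
theorem exists_families [DecidableEq (IrrCharacter (Gp F m))]
    {R : Finset (IrrCharacter (Gp F m))} (hconst : SeriesConst R) (hcol : SeriesColumn R)
    (hR : ∀ φ ∈ R, Fintype.card F - 1 ∣ charDegree (φ : Gp F m → ℂ))
    (hT : 2 * ∑ φ ∈ R, (charDegree (φ : Gp F m → ℂ) : ℤ) ^ 2 =
      ((Fintype.card F : ℤ) - 1) ^ 2 * ((Fintype.card F : ℤ) * ((Fintype.card F : ℤ) ^ 2 - 1))) :
    ∃ (A B : Subgroup (Gp F m)) (FA FB : Finset (IrrCharacter (Gp F m))),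
      (Tor A 4 ∧ Tor B 4 ∧ A ≠ ⊥ ∧ B ≠ ⊥ ∧
        Nat.card A + Nat.card B = 2 * Fintype.card F + 2 ∧
        Nat.card A * Nat.card B = Fintype.card F ^ 2 + 1 ∧ Nat.card A ≠ Nat.card B ∧
        ∀ x, IsT x → Subgroup.centralizer {x} ∈ conjs A ∪ conjs B) ∧
      (FA ⊆ R ∧ FB ⊆ R ∧ Disjoint FA FB ∧
        4 * FA.card + 1 = Nat.card A ∧ 4 * FB.card + 1 = Nat.card B) ∧
      ((∀ φ ∈ FA, charDegree (φ : Gp F m → ℂ) = (Fintype.card F - 1) * Nat.card B) ∧
        (∀ φ ∈ FB, charDegree (φ : Gp F m → ℂ) = (Fintype.card F - 1) * Nat.card A) ∧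
        (∀ φ ∈ R \ (FA ∪ FB), charDegree (φ : Gp F m → ℂ) = (Fintype.card F - 1) * 2 ^ m) ∧
        (R \ (FA ∪ FB)).card = 2) ∧
      ((∀ φ ∈ FA, ∀ ψ ∈ FA, ∀ g : Gp F m, (∀ h : Gp F m, h * g * h⁻¹ ∈ A → g = 1) →
          (φ : Gp F m → ℂ) g = (ψ : Gp F m → ℂ) g) ∧
        (∀ φ ∈ FB, ∀ ψ ∈ FB, ∀ g : Gp F m, (∀ h : Gp F m, h * g * h⁻¹ ∈ B → g = 1) →
          (φ : Gp F m → ℂ) g = (ψ : Gp F m → ℂ) g) ∧
        (∀ φ ∈ FB, ∀ x ∈ A, x ≠ 1 → (φ : Gp F m → ℂ) x = 0) ∧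
        (∀ φ ∈ FA, ∀ x ∈ B, x ≠ 1 → (φ : Gp F m → ℂ) x = 0)) ∧
      ((∀ φ ∈ R \ (FA ∪ FB), ∃ c : ℤ, |c| ≤ 1 ∧ ∀ x ∈ A, x ≠ 1 → (φ : Gp F m → ℂ) x = (c : ℂ)) ∧
        (∀ φ ∈ R \ (FA ∪ FB), ∃ c : ℤ, |c| ≤ 1 ∧
          ∀ x ∈ B, x ≠ 1 → (φ : Gp F m → ℂ) x = (c : ℂ))) := by
  classical
  haveI : Fintype (Gp F m) := Fintype.ofFinite _
  have h8 := eight_le_card (F := F) (m := m)
  have hsq := coprime_sq (F := F) (m := m)
  have hodd := odd_card_sq_add_one (F := F) (m := m)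
  obtain ⟨A₀, B₀, hA₀, hB₀, hA₀ne, hB₀ne, hsum₀, hprod₀, hne₀, hcc₀, -⟩ :=
    exists_tor_reps (F := F) (m := m)
  set q := Fintype.card F with hq
  obtain ⟨A, B, hA, hB, hAne, hBne, hsum, hprod, hne, hcc, hA9⟩ :
      ∃ A B : Subgroup (Gp F m), Tor A 4 ∧ Tor B 4 ∧ A ≠ ⊥ ∧ B ≠ ⊥ ∧
        Nat.card A + Nat.card B = 2 * q + 2 ∧ Nat.card A * Nat.card B = q ^ 2 + 1 ∧
        Nat.card A ≠ Nat.card B ∧
        (∀ x, IsT x → Subgroup.centralizer {x} ∈ conjs A ∪ conjs B) ∧ 9 ≤ Nat.card A := by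
    rcases le_or_gt 9 (Nat.card A₀) with h | h
    · exact ⟨A₀, B₀, hA₀, hB₀, hA₀ne, hB₀ne, hsum₀, hprod₀, hne₀, hcc₀, h⟩
    · refine ⟨B₀, A₀, hB₀, hA₀, hB₀ne, hA₀ne, by omega, by rw [mul_comm]; exact hprod₀,
        Ne.symm hne₀, fun x hx => (hcc₀ x hx).symm, ?_⟩
      by_contra h'
      have h1 : Nat.card A₀ * Nat.card B₀ ≤ 8 * 8 := Nat.mul_le_mul (by omega) (by omega)
      have h2 : 8 ^ 2 ≤ q ^ 2 := Nat.pow_le_pow_left h8 2
      omega
  set a := Nat.card A with ha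
  set b := Nat.card B with hb
  have hda : a ∣ q ^ 2 + 1 := ⟨b, hprod.symm⟩
  have hdb : b ∣ q ^ 2 + 1 := ⟨a, by rw [← hprod, mul_comm]⟩
  have hca : (q - 1).Coprime a := Nat.Coprime.coprime_dvd_right hda hsq
  have hcb : (q - 1).Coprime b := Nat.Coprime.coprime_dvd_right hdb hsq
  have hab : a.Coprime b := by
    refine Nat.coprime_of_dvd fun p hp hpa hpb => ?_
    have h2 : p ≠ 2 := fun e =>
      hodd.not_two_dvd_nat ((e ▸ hpa).trans hda)
    have h3 : p ∣ 2 * (q + 1) := by rw [mul_add, mul_one, ← hsum]; exact dvd_add hpa hpb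
    have h4 : p ∣ q + 1 := ((Nat.coprime_primes hp Nat.prime_two).mpr h2).dvd_of_dvd_mul_left h3
    have h5 : p ∣ (q + 1) * (q - 1) + 2 := by
      have e : (q + 1) * (q - 1) + 2 = q ^ 2 + 1 := by
        zify [show 1 ≤ q by omega]; ring
      rw [e]; exact hpa.trans hda
    have h6 : p ∣ 2 := (Nat.dvd_add_right (h4.mul_right _)).1 h5
    exact h2 ((Nat.prime_dvd_prime_iff_eq hp Nat.prime_two).1 h6)
  have hnotA : ∀ g ∈ B, g ≠ 1 → ∀ h : Gp F m, h * g * h⁻¹ ∈ A → g = 1 := by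
    intro g hg _ h hh
    have h1 : orderOf (h * g * h⁻¹) ∣ a := Subgroup.orderOf_dvd_natCard _ hh
    rw [← MulAut.conj_apply, MulEquiv.orderOf_eq] at h1
    exact orderOf_eq_one_iff.1
      (Nat.eq_one_of_dvd_coprimes hab h1 (Subgroup.orderOf_dvd_natCard _ hg))
  -- the reduced degrees
  let d : IrrCharacter (Gp F m) → ℕ := fun φ => charDegree (φ : Gp F m → ℂ) / (q - 1)
  have hd : ∀ φ ∈ R, charDegree (φ : Gp F m → ℂ) = (q - 1) * d φ := fun φ hφ =>
    (Nat.mul_div_cancel' (hR φ hφ)).symm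
  have hpos : ∀ φ ∈ R, 0 < d φ := by
    intro φ hφ
    rcases Nat.eq_zero_or_pos (d φ) with h | h
    · refine absurd ?_ (CfsgLib.Char.irr_degree_ne_zero φ.2)
      rw [(CfsgLib.Blocks.irr_degree_eq φ).1, hd φ hφ, h, mul_zero, Nat.cast_zero]
    · exact h
  have hdeg_dvd : ∀ φ : IrrCharacter (Gp F m),
      charDegree (φ : Gp F m → ℂ) ∣ Nat.card (Gp F m) := fun φ =>
    CfsgLib.BrauerReynolds.degree_dvd φ
  have hdvd : ∀ φ ∈ R, d φ ∣ q ^ 2 * (q ^ 2 + 1) := by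
    intro φ hφ
    refine Nat.dvd_of_mul_dvd_mul_left (show 0 < q - 1 by omega) ?_
    rw [← hd φ hφ, show (q - 1) * (q ^ 2 * (q ^ 2 + 1)) = Nat.card (Gp F m) by
      rw [natCard_group, ← hq]; ring]
    exact hdeg_dvd φ
  have hTd : 4 * ∑ φ ∈ R, d φ ^ 2 = (a - 1) * b ^ 2 + (b - 1) * a ^ 2 + 4 * q := by
    have h1 : 1 ≤ a := by omega
    have h2 : 1 ≤ b := by
      have h := Nat.card_pos (α := B); omega
    have h3 : ((q : ℤ) - 1) ^ 2 ≠ 0 := pow_ne_zero _ (by omega)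
    have h4 : 2 * ∑ φ ∈ R, (d φ : ℤ) ^ 2 = (q : ℤ) * ((q : ℤ) ^ 2 - 1) := by
      refine mul_left_cancel₀ h3 ?_
      rw [← hT, Finset.mul_sum, Finset.mul_sum, Finset.mul_sum]
      refine Finset.sum_congr rfl fun φ hφ => ?_
      rw [hd φ hφ, Nat.cast_mul, Nat.cast_sub (by omega : 1 ≤ q)]
      ring
    have hs : (a : ℤ) + b = 2 * q + 2 := by exact_mod_cast hsum
    have hp : (a : ℤ) * b = (q : ℤ) ^ 2 + 1 := by exact_mod_cast hprod
    zify [h1, h2]
    linear_combination 2 * h4 + ((a : ℤ) + b + 2 * q + 2 - ((q : ℤ) ^ 2 + 1)) * hs -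
      ((a : ℤ) + b + 2) * hp
  obtain ⟨FA, cA, hFA, hnA, hcA, hagreeA, hsepA, hncA, hsumA⟩ :=
    torus_big hconst hcol hA hAne hda hA9
  have hdA_eq : ∀ φ ∈ FA, ∀ ψ ∈ FA, d φ = d ψ := by
    intro φ hφ ψ hψ
    have h := hagreeA φ hφ ψ hψ 1 fun _ _ => rfl
    rw [(CfsgLib.Blocks.irr_degree_eq φ).1, (CfsgLib.Blocks.irr_degree_eq ψ).1, Nat.cast_inj] at h
    show charDegree (φ : Gp F m → ℂ) / (q - 1) = charDegree (ψ : Gp F m → ℂ) / (q - 1)
    rw [h]
  have hcast : ∀ φ ∈ R, (charDegree (φ : Gp F m → ℂ) : ℤ) = (((q - 1) * d φ : ℕ) : ℤ) :=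
    fun φ hφ => by rw [hd φ hφ]
  have habs : ∀ z : ℤ, z ^ 2 ≤ 3 → |z| ≤ 1 := by
    intro z hz
    rw [abs_le]; constructor <;> nlinarith
  have hdivA : ∀ φ ∈ R, φ ∉ FA →
      (a : ℤ) ∣ (((q - 1) * d φ : ℕ) : ℤ) - cA φ ∧ |cA φ| ≤ 1 := by
    intro φ hφ h
    refine ⟨hcast φ hφ ▸ (hcA φ h).2, habs _ ?_⟩
    have := Finset.single_le_sum (f := fun ψ => cA ψ ^ 2) (fun ψ _ => sq_nonneg _)
      (Finset.mem_sdiff.mpr ⟨hφ, h⟩)
    exact (this.trans hsumA).trans (by norm_num : (2 : ℤ) ≤ 3)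
  -- the second family
  obtain ⟨FB, cB, hFB, hnB, hdis, hbA, hcB, haB, hagreeB⟩ : ∃ (FB : Finset (IrrCharacter (Gp F m)))
      (cB : IrrCharacter (Gp F m) → ℤ), FB ⊆ R ∧ 4 * FB.card + 1 = b ∧ Disjoint FA FB ∧
      (∀ φ ∈ FA, b ∣ d φ ∧ ∀ x ∈ B, x ≠ 1 → (φ : Gp F m → ℂ) x = 0) ∧
      (∀ φ ∈ R, φ ∉ FA → φ ∉ FB →
        (b : ℤ) ∣ (((q - 1) * d φ : ℕ) : ℤ) - cB φ ∧ |cB φ| ≤ 1 ∧
          ∀ x ∈ B, x ≠ 1 → (φ : Gp F m → ℂ) x = (cB φ : ℂ)) ∧
      (∀ φ ∈ FB, a ∣ d φ ∧ ∀ x ∈ A, x ≠ 1 → (φ : Gp F m → ℂ) x = 0) ∧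
      ∀ φ ∈ FB, ∀ ψ ∈ FB, ∀ g : Gp F m, (∀ h : Gp F m, h * g * h⁻¹ ∈ B → g = 1) →
        (φ : Gp F m → ℂ) g = (ψ : Gp F m → ℂ) g := by
    rcases le_or_gt 9 b with hB9 | hB9
    · obtain ⟨FB, cB, hFB, hnB, hcB, hagreeB, hsepB, hncB, hsumB⟩ :=
        torus_big hconst hcol hB hBne hdb hB9
      have ha13 : 13 ≤ a := by
        by_contra h
        have h9 : a = 9 := by omega
        have h3 : 3 ∣ q ^ 2 + 1 := (show 3 ∣ 9 by norm_num).trans (h9 ▸ hda)
        rw [Nat.dvd_iff_mod_eq_zero, Nat.add_mod, Nat.pow_mod] at h3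
        have := Nat.mod_lt q (show 0 < 3 by norm_num)
        interval_cases hq3 : q % 3 <;> simp at h3
      have hb13 : 13 ≤ b := by
        by_contra h
        have h9 : b = 9 := by omega
        have h3 : 3 ∣ q ^ 2 + 1 := (show 3 ∣ 9 by norm_num).trans (h9 ▸ hdb)
        rw [Nat.dvd_iff_mod_eq_zero, Nat.add_mod, Nat.pow_mod] at h3
        have := Nat.mod_lt q (show 0 < 3 by norm_num)
        interval_cases hq3 : q % 3 <;> simp at h3
      have hnotB : ∀ g ∈ A, g ≠ 1 → ∀ h : Gp F m, h * g * h⁻¹ ∈ B → g = 1 := by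
        intro g hg _ h hh
        have h1 : orderOf (h * g * h⁻¹) ∣ b := Subgroup.orderOf_dvd_natCard _ hh
        rw [← MulAut.conj_apply, MulEquiv.orderOf_eq] at h1
        exact orderOf_eq_one_iff.1
          (Nat.eq_one_of_dvd_coprimes hab.symm h1 (Subgroup.orderOf_dvd_natCard _ hg))
      have hdis : Disjoint FA FB := by
        rw [Finset.disjoint_left]
        intro φ hφA hφB
        obtain ⟨ψ, hψ, hne⟩ := Finset.exists_mem_ne (show 1 < FA.card by omega) φ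
        have hag : ∀ x ∈ B, x ≠ 1 → (ψ : Gp F m → ℂ) x = (φ : Gp F m → ℂ) x :=
          fun x hx h1 => hagreeA ψ hψ φ hφA x (hnotA x hx h1)
        by_cases hψB : ψ ∈ FB
        · exact hne (hsepB ψ hψB φ hφB hag)
        · exact hncB φ hφB fun x hx y hy hx1 hy1 => by
            rw [← hag x hx hx1, ← hag y hy hy1, (hcB ψ hψB).1 x hx hx1, (hcB ψ hψB).1 y hy hy1]
      -- a family of at least three members vanishes on the other torus
      have hkill : ∀ (X Y : Subgroup (Gp F m)) (FX FY : Finset (IrrCharacter (Gp F m)))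
          (c : IrrCharacter (Gp F m) → ℤ), Y ≠ ⊥ → Disjoint FX FY → FX ⊆ R → 3 ≤ FX.card →
          (q - 1).Coprime (Nat.card Y) →
          (∀ x ∈ Y, x ≠ 1 → ∀ φ ∈ FX, ∀ ψ ∈ FX, (φ : Gp F m → ℂ) x = (ψ : Gp F m → ℂ) x) →
          (∀ φ, φ ∉ FY → (∀ x ∈ Y, x ≠ 1 → (φ : Gp F m → ℂ) x = (c φ : ℂ)) ∧
            (Nat.card Y : ℤ) ∣ (charDegree (φ : Gp F m → ℂ) : ℤ) - c φ) →
          ∑ φ ∈ R \ FY, c φ ^ 2 ≤ 2 →
          ∀ φ ∈ FX, Nat.card Y ∣ d φ ∧ ∀ x ∈ Y, x ≠ 1 → (φ : Gp F m → ℂ) x = 0 := by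
        intro X Y FX FY c hY hXY hsub h3 hcop hag hc hsum φ hφ
        have hnot : ∀ ψ ∈ FX, ψ ∉ FY := fun ψ h => Finset.disjoint_left.mp hXY h
        haveI : Nontrivial Y := (Subgroup.nontrivial_iff_ne_bot Y).mpr hY
        obtain ⟨x₀, hx₀⟩ := exists_ne (1 : Y)
        have hx₀' : (x₀ : Gp F m) ≠ 1 := fun h => hx₀ (Subtype.ext h)
        have heq : ∀ ψ ∈ FX, c ψ = c φ := by
          intro ψ hψ
          have h := hag x₀ x₀.2 hx₀' ψ hψ φ hφ
          rw [(hc ψ (hnot ψ hψ)).1 x₀ x₀.2 hx₀', (hc φ (hnot φ hφ)).1 x₀ x₀.2 hx₀'] at h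
          exact_mod_cast h
        have h1 : (FX.card : ℤ) * c φ ^ 2 ≤ 2 := by
          refine le_trans (le_of_eq ?_) ((Finset.sum_le_sum_of_subset_of_nonneg
            (fun ψ hψ => Finset.mem_sdiff.mpr ⟨hsub hψ, hnot ψ hψ⟩)
            (fun ψ _ _ => sq_nonneg (c ψ))).trans hsum)
          rw [Finset.sum_congr rfl fun ψ hψ => by rw [heq ψ hψ], Finset.sum_const, nsmul_eq_mul]
        have h0 : c φ = 0 := by
          by_contra h
          have h2 : 0 < c φ ^ 2 := by positivity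
          have h3' : (3 : ℤ) ≤ FX.card := by exact_mod_cast h3
          nlinarith
        have h := (hc φ (hnot φ hφ)).2
        rw [h0, sub_zero, hcast φ (hsub hφ), Int.natCast_dvd_natCast] at h
        exact ⟨hcop.symm.dvd_of_dvd_mul_left h, fun x hx h1 => by
          rw [(hc φ (hnot φ hφ)).1 x hx h1, h0, Int.cast_zero]⟩
      refine ⟨FB, cB, hFB, hnB, hdis, ?_, ?_, ?_, hagreeB⟩
      · exact hkill A B FA FB cB hBne hdis hFA (by omega) hcb
          (fun x hx h1 φ hφ ψ hψ => hagreeA φ hφ ψ hψ x (hnotA x hx h1)) hcB hsumB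
      · intro φ hφ _ h
        refine ⟨hcast φ hφ ▸ (hcB φ h).2, habs _ ?_, (hcB φ h).1⟩
        have := Finset.single_le_sum (f := fun ψ => cB ψ ^ 2) (fun ψ _ => sq_nonneg _)
          (Finset.mem_sdiff.mpr ⟨hφ, h⟩)
        exact (this.trans hsumB).trans (by norm_num : (2 : ℤ) ≤ 3)
      · exact hkill B A FB FA cA hAne hdis.symm hFB (by omega) hca
          (fun x hx h1 φ hφ ψ hψ => hagreeB φ hφ ψ hψ x (hnotB x hx h1)) hcA hsumA
    · -- the case `q = 8`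
      haveI : Fintype B := Fintype.ofFinite _
      obtain ⟨Fam, hn, -⟩ :=
        CfsgLib.Char.exists_family B hB.cent hBne (e := 4) hB.card_normalizer
      have hb2 : 2 ≤ b := by
        haveI : Nontrivial B := (Subgroup.nontrivial_iff_ne_bot B).mpr hBne
        exact Finite.one_lt_card
      have hb5 : b = 5 := by omega
      have hq8 : q = 8 := by
        have h1 : a = 2 * q - 3 := by omega
        rw [h1, hb5] at hprod
        have h2 : q ≤ 8 := by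
          by_contra hgt
          rw [pow_two] at hprod
          rcases Nat.lt_or_ge q 10 with h | h
          · have h9 : q = 9 := by omega
            rw [h9] at hprod
            omega
          · have : 10 * q ≤ q * q := Nat.mul_le_mul_right q h
            omega
        have h3 : q = 8 := by omega
        exact h3
      have ha13 : a = 13 := by omega
      have hFA3 : FA.card = 3 := by omega
      obtain ⟨cB, hcB, hsumB⟩ := torus_small hcol hB hBne hdb hb5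
      obtain ⟨φ₁, hφ₁⟩ : FA.Nonempty := Finset.card_pos.mp (by omega)
      obtain ⟨x₀, hx₀B, hx₀⟩ : ∃ x ∈ B, x ≠ 1 := by
        by_contra h
        push Not at h
        exact hBne ((Subgroup.eq_bot_iff_forall _).mpr h)
      have heq : ∀ φ ∈ FA, cB φ = cB φ₁ := by
        intro φ hφ
        have h := hagreeA φ hφ φ₁ hφ₁ x₀ (hnotA x₀ hx₀B hx₀)
        rw [(hcB φ).1 x₀ hx₀B hx₀, (hcB φ₁).1 x₀ hx₀B hx₀] at h
        exact_mod_cast h
      have hsum3 : 3 * cB φ₁ ^ 2 + ∑ φ ∈ R \ FA, cB φ ^ 2 = 3 := by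
        conv_rhs => rw [← hsumB, ← Finset.sum_sdiff hFA]
        rw [Finset.sum_congr rfl (s₁ := FA) (fun φ hφ => by rw [heq φ hφ]), Finset.sum_const,
          hFA3, nsmul_eq_mul]
        push_cast; ring
      have hdiv : ∀ φ ∈ R, cB φ = 0 → 5 ∣ d φ := by
        intro φ hφ h0
        have h := (hcB φ).2
        rw [h0, sub_zero, hcast φ hφ, Int.natCast_dvd_natCast, ← hb] at h
        exact hb5 ▸ hcb.symm.dvd_of_dvd_mul_left h
      have hsum_d : 3 * d φ₁ ^ 2 + ∑ φ ∈ R \ FA, d φ ^ 2 = 252 := by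
        have h : ∑ φ ∈ R, d φ ^ 2 = 252 := by
          rw [ha13, hb5, hq8] at hTd; omega
        conv_rhs => rw [← h, ← Finset.sum_sdiff hFA]
        rw [Finset.sum_congr rfl (s₁ := FA) (fun φ hφ => by rw [hdA_eq φ hφ φ₁ hφ₁]),
          Finset.sum_const, hFA3, smul_eq_mul]
        ring
      have h0 : cB φ₁ = 0 := by
        by_contra h
        have h1 : 0 < cB φ₁ ^ 2 := by positivity
        have h2 : ∀ φ ∈ R \ FA, cB φ = 0 := by
          intro φ hφ
          have h3 := Finset.single_le_sum (f := fun ψ => cB ψ ^ 2) (fun ψ _ => sq_nonneg _) hφ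
          have h4 : cB φ ^ 2 ≤ 0 := by linarith
          exact pow_eq_zero_iff two_ne_zero |>.mp (le_antisymm h4 (sq_nonneg _))
        have h25 : 25 ∣ ∑ φ ∈ R \ FA, d φ ^ 2 := Finset.dvd_sum fun φ hφ => by
          have := pow_dvd_pow_of_dvd (hdiv φ (Finset.mem_sdiff.mp hφ).1 (h2 φ hφ)) 2
          simpa using this
        have hdv := hdvd φ₁ (hFA hφ₁)
        rw [hq8] at hdv
        have hle : d φ₁ ≤ 9 := by
          by_contra hlt
          have : 10 ^ 2 ≤ d φ₁ ^ 2 := Nat.pow_le_pow_left (by omega) 2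
          omega
        obtain ⟨K, hK⟩ := h25
        rw [hK] at hsum_d
        have hpos1 := hpos φ₁ (hFA hφ₁)
        interval_cases hd1 : d φ₁ <;> omega
      have h5 : ∀ φ ∈ FA, 5 ∣ d φ := fun φ hφ => hdiv φ (hFA hφ) ((heq φ hφ).trans h0)
      obtain ⟨ψ, hψ, hψd⟩ : ∃ ψ ∈ R \ FA, 13 ∣ d ψ := by
        by_contra hno
        push Not at hno
        have h1 : ((R \ FA).card : ℤ) ≤ ∑ φ ∈ R \ FA, cA φ ^ 2 := by
          rw [Finset.card_eq_sum_ones, Nat.cast_sum]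
          refine Finset.sum_le_sum fun φ hφ => ?_
          obtain ⟨hφR, hφA⟩ := Finset.mem_sdiff.mp hφ
          have hne0 : cA φ ≠ 0 := by
            intro h'
            have h := (hdivA φ hφR hφA).1
            rw [h', sub_zero, Int.natCast_dvd_natCast] at h
            exact hno φ hφ (ha13 ▸ hca.symm.dvd_of_dvd_mul_left h)
          have : 0 < cA φ ^ 2 := by positivity
          push_cast
          omega
        have h2 : ∑ φ ∈ R \ FA, cB φ ^ 2 ≤ ((R \ FA).card : ℤ) := by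
          rw [Finset.card_eq_sum_ones, Nat.cast_sum]
          refine Finset.sum_le_sum fun φ hφ => ?_
          have h3 := Finset.single_le_sum (f := fun ψ => cB ψ ^ 2) (fun ψ _ => sq_nonneg _)
            (Finset.mem_sdiff.mp hφ).1
          rw [hsumB] at h3
          have h4 := abs_le.mp (habs _ h3)
          push_cast
          nlinarith
        rw [h0] at hsum3
        norm_num at hsum3
        omega
      obtain ⟨hψR, hψA⟩ := Finset.mem_sdiff.mp hψ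
      refine ⟨{ψ}, cB, Finset.singleton_subset_iff.mpr hψR, by simp [hb5],
        Finset.disjoint_singleton_right.mpr hψA,
        fun φ hφ => ⟨hb5 ▸ h5 φ hφ, fun x hx h1 => by
          rw [(hcB φ).1 x hx h1, (heq φ hφ).trans h0, Int.cast_zero]⟩, ?_, ?_, ?_⟩
      · intro φ hφ _ _
        refine ⟨hcast φ hφ ▸ (hcB φ).2, habs _ ?_, (hcB φ).1⟩
        have := Finset.single_le_sum (f := fun ψ => cB ψ ^ 2) (fun ψ _ => sq_nonneg _) hφ
        exact this.trans (le_of_eq hsumB)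
      · intro φ hφ
        rw [Finset.mem_singleton] at hφ
        subst φ
        refine ⟨ha13 ▸ hψd, fun x hx h1 => ?_⟩
        obtain ⟨k, hk⟩ := (hdivA ψ hψR hψA).1
        obtain ⟨j, hj⟩ := hψd
        have hc0 : cA ψ = 0 := by
          rw [hj, hq8, ha13] at hk
          push_cast at hk
          have h1' := abs_le.mp (hdivA ψ hψR hψA).2
          omega
        rw [(hcA ψ hψA).1 x hx h1, hc0, Int.cast_zero]
      · intro φ hφ φ' hφ' g _
        rw [Finset.mem_singleton.mp hφ, Finset.mem_singleton.mp hφ']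
  have hc2 : ∑ φ ∈ R \ (FA ∪ FB), cA φ ^ 2 ≤ 2 :=
    (Finset.sum_le_sum_of_subset_of_nonneg
      (Finset.sdiff_subset_sdiff le_rfl Finset.subset_union_left)
      (fun φ _ _ => sq_nonneg _)).trans hsumA
  obtain ⟨hdA, hdB, hrest, hcop⟩ :=
    DegreeArith.endgame R FA FB d cA cB h8 hP.card hsum hprod hodd hca hcb hFA hFB hdis hnA hnB
      hpos hdvd (fun φ hφ => (hbA φ hφ).1) (fun φ hφ => (haB φ hφ).1) hTd
      (fun φ hφ h _ => hdivA φ hφ h)
      (fun φ hφ h h' => ⟨(hcB φ hφ h h').1, (hcB φ hφ h h').2.1⟩) hc2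
  have hW : ∀ φ ∈ R \ (FA ∪ FB), φ ∈ R ∧ φ ∉ FA ∧ φ ∉ FB := fun φ hφ => by
    simp only [Finset.mem_sdiff, Finset.mem_union, not_or] at hφ
    exact ⟨hφ.1, hφ.2.1, hφ.2.2⟩
  have hcard : (R \ (FA ∪ FB)).card ≤ 2 := by
    have h : ((R \ (FA ∪ FB)).card : ℤ) ≤ ∑ φ ∈ R \ (FA ∪ FB), cA φ ^ 2 := by
      rw [Finset.card_eq_sum_ones, Nat.cast_sum]
      refine Finset.sum_le_sum fun φ hφ => ?_
      have h0 : 0 < cA φ ^ 2 := by have := (hcop φ hφ).2; positivity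
      push_cast
      omega
    omega
  have hpow : ∀ φ ∈ R \ (FA ∪ FB), ∃ i, d φ = 2 ^ i := by
    intro φ hφ
    have h1 : d φ ∣ q ^ 2 := (hcop φ hφ).1.dvd_of_dvd_mul_right (hdvd φ (hW φ hφ).1)
    rw [show q ^ 2 = 2 ^ ((2 * m + 1) * 2) by rw [pow_mul, ← hP.card]] at h1
    obtain ⟨i, -, hi⟩ := (Nat.dvd_prime_pow Nat.prime_two).mp h1
    exact ⟨i, hi⟩
  have hWd : (R \ (FA ∪ FB)).card = 2 ∧ ∀ φ ∈ R \ (FA ∪ FB), d φ = 2 ^ m := by
    have hq' : q = 2 ^ (2 * m + 1) := hP.card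
    rcases Nat.lt_or_ge 1 (R \ (FA ∪ FB)).card with h | h
    · have h2 : (R \ (FA ∪ FB)).card = 2 := by omega
      obtain ⟨u, w, huw, he⟩ := Finset.card_eq_two.mp h2
      obtain ⟨i, hi⟩ := hpow u (by simp [he])
      obtain ⟨j, hj⟩ := hpow w (by simp [he])
      rw [he, Finset.sum_pair huw, hi, hj, hq', ← pow_mul, ← pow_mul] at hrest
      have hij : i * 2 = j * 2 := by
        rcases lt_trichotomy (i * 2) (j * 2) with hlt | heq | hgt
        · exfalso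
          have hk : 2 * m + 1 ≤ i * 2 := by
            by_contra hk
            obtain ⟨k, hk'⟩ : ∃ k, 2 * m + 1 = i * 2 + (k + 1) := ⟨2 * m - i * 2, by omega⟩
            obtain ⟨l, hl⟩ : ∃ l, j * 2 = i * 2 + (l + 1) := ⟨j * 2 - i * 2 - 1, by omega⟩
            rw [hk', hl, pow_add 2 (i * 2), pow_add 2 (i * 2), pow_succ, pow_succ] at hrest
            have h1 : 1 + 2 ^ l * 2 = 2 ^ k * 2 := by
              refine Nat.eq_of_mul_eq_mul_left (Nat.two_pow_pos (i * 2)) ?_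
              rw [Nat.mul_add, mul_one, hrest]
            omega
          have := Nat.pow_le_pow_right (show 0 < 2 by norm_num) hk
          have := Nat.two_pow_pos (j * 2)
          omega
        · exact heq
        · exfalso
          have hk : 2 * m + 1 ≤ j * 2 := by
            by_contra hk
            obtain ⟨k, hk'⟩ : ∃ k, 2 * m + 1 = j * 2 + (k + 1) := ⟨2 * m - j * 2, by omega⟩
            obtain ⟨l, hl⟩ : ∃ l, i * 2 = j * 2 + (l + 1) := ⟨i * 2 - j * 2 - 1, by omega⟩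
            rw [hk', hl, pow_add 2 (j * 2), pow_add 2 (j * 2), pow_succ, pow_succ] at hrest
            have h1 : 2 ^ l * 2 + 1 = 2 ^ k * 2 := by
              refine Nat.eq_of_mul_eq_mul_left (Nat.two_pow_pos (j * 2)) ?_
              rw [Nat.mul_add, mul_one, hrest]
            omega
          have := Nat.pow_le_pow_right (show 0 < 2 by norm_num) hk
          have := Nat.two_pow_pos (i * 2)
          omega
      have hjm : j * 2 + 1 = 2 * m + 1 := Nat.pow_right_injective le_rfl (by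
        rw [hij] at hrest
        show 2 ^ (j * 2 + 1) = 2 ^ (2 * m + 1)
        rw [pow_succ]; omega)
      refine ⟨h2, fun φ hφ => ?_⟩
      rw [he, Finset.mem_insert, Finset.mem_singleton] at hφ
      rcases hφ with rfl | rfl
      · rw [hi, show i = m by omega]
      · rw [hj, show j = m by omega]
    · exfalso
      haveI : Nonempty (IrrCharacter (Gp F m)) := ⟨⟨_, CfsgLib.Char.isIrrCharacter_one⟩⟩
      rcases Finset.card_le_one_iff_subset_singleton.mp h with ⟨u, hu⟩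
      rcases Finset.subset_singleton_iff.mp hu with he | he <;> rw [he] at hrest
      · simp at hrest; omega
      · obtain ⟨i, hi⟩ := hpow u (by simp [he])
        rw [Finset.sum_singleton, hi, hq', ← pow_mul] at hrest
        have := Nat.pow_right_injective le_rfl hrest
        omega
  refine ⟨A, B, FA, FB, ⟨hA, hB, hAne, hBne, hsum, hprod, hne, hcc⟩, ⟨hFA, hFB, hdis, hnA, hnB⟩,
    ⟨?_, ?_, ?_, hWd.1⟩,
    ⟨hagreeA, hagreeB, fun φ hφ => (haB φ hφ).2, fun φ hφ => (hbA φ hφ).2⟩, ?_, ?_⟩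
  · intro φ hφ
    rw [hd φ (hFA hφ), hdA φ hφ]
  · intro φ hφ
    rw [hd φ (hFB hφ), hdB φ hφ]
  · intro φ hφ
    rw [hd φ (hW φ hφ).1, hWd.2 φ hφ]
  · intro φ hφ
    obtain ⟨h1, h2, -⟩ := hW φ hφ
    exact ⟨cA φ, (hdivA φ h1 h2).2, (hcA φ h2).1⟩
  · intro φ hφ
    obtain ⟨h1, h2, h3⟩ := hW φ hφ
    exact ⟨cB φ, (hcB φ h1 h2 h3).2.1, (hcB φ h1 h2 h3).2.2⟩

/-- The divisibility facts behind the degree graph. -/
theorem degree_facts :
    (∀ d ∈ charDegrees (Gp F m), d ∣ Nat.card (Gp F m)) ∧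
    (∀ d ∈ charDegrees (Gp F m), 2 ∣ d → d.Coprime (Fintype.card F ^ 2 + 1)) ∧
    Fintype.card F ^ 2 ∈ charDegrees (Gp F m) ∧
    Fintype.card F ^ 2 + 1 ∈ charDegrees (Gp F m) ∧
    (∃ d ∈ charDegrees (Gp F m), (Fintype.card F - 1) * 2 ∣ d) ∧
    (∀ s : ℕ, s.Prime → s ∣ Fintype.card F ^ 2 + 1 →
      ∃ d ∈ charDegrees (Gp F m), (Fintype.card F - 1) * s ∣ d) := by
  classical
  haveI : Fintype (Gp F m) := Fintype.ofFinite _
  have h8 := eight_le_card (F := F) (m := m)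
  have hsq := coprime_sq (F := F) (m := m)
  have hodd := odd_card_sq_add_one (F := F) (m := m)
  obtain ⟨R, hout, hSt, hPS, hconst, hcol, hR, hT⟩ := exists_series (F := F) (m := m)
  obtain ⟨A, B, FA, FB, ⟨-, -, -, -, hsum, hprod, -, -⟩, ⟨hFA, hFB, -, hnA, hnB⟩,
    ⟨hdA, hdB, hdW, hWcard⟩, -, -⟩ := exists_families hconst hcol hR hT
  set q := Fintype.card F with hq
  set a := Nat.card A with ha
  set b := Nat.card B with hb
  have hab_odd : Odd a ∧ Odd b := Nat.odd_mul.mp (hprod ▸ hodd)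
  have hq1 : Odd (q - 1) := odd_card_sub_one (F := F) (m := m)
  refine ⟨?_, ?_, ?_, ?_, ?_, ?_⟩
  · rintro _ ⟨φ, rfl⟩
    exact CfsgLib.BrauerReynolds.degree_dvd φ
  · rintro _ ⟨φ, rfl⟩ h2
    by_cases hφ : φ ∈ R
    · by_cases h1 : φ ∈ FA
      · rw [hdA φ h1] at h2
        exact absurd h2 (hq1.mul hab_odd.2).not_two_dvd_nat
      by_cases h3 : φ ∈ FB
      · rw [hdB φ h3] at h2
        exact absurd h2 (hq1.mul hab_odd.1).not_two_dvd_nat
      rw [hdW φ (by simp [hφ, h1, h3])]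
      exact hsq.mul_left (coprime_two_pow (F := F) (m := m) hodd).symm
    · rcases hout φ hφ with h | h | h <;> rw [h] at h2 ⊢
      · exact Nat.coprime_one_left _
      · exact Nat.coprime_self_add_right.mpr (Nat.coprime_one_right _)
      · exact absurd h2 hodd.not_two_dvd_nat
  · obtain ⟨φ, hφ⟩ := hSt
    exact ⟨φ, hφ⟩
  · obtain ⟨φ, hφ⟩ := hPS
    exact ⟨φ, hφ⟩
  · obtain ⟨φ, hφ⟩ : (R \ (FA ∪ FB)).Nonempty := Finset.card_pos.mp (by omega)
    exact ⟨_, ⟨φ, rfl⟩, by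
      rw [hdW φ hφ]
      exact Nat.mul_dvd_mul_left _ (dvd_pow_self 2 (by have := hP.one_le; omega))⟩
  · intro s hs hsd
    rw [← hprod] at hsd
    rcases hs.dvd_mul.mp hsd with h | h
    · obtain ⟨φ, hφ⟩ : FB.Nonempty := Finset.card_pos.mp (by
        by_contra h0
        have hb1 : b = 1 := by omega
        rw [hb1, mul_one] at hprod
        have := eight_le_card (F := F) (m := m)
        have : q * q ≤ 2 * q := by rw [← pow_two]; omega
        nlinarith)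
      exact ⟨_, ⟨φ, rfl⟩, by rw [hdB φ hφ]; exact Nat.mul_dvd_mul_left _ h⟩
    · obtain ⟨φ, hφ⟩ : FA.Nonempty := Finset.card_pos.mp (by
        by_contra h0
        have ha1 : a = 1 := by omega
        rw [ha1, one_mul] at hprod
        have := eight_le_card (F := F) (m := m)
        have : q * q ≤ 2 * q := by rw [← pow_two]; omega
        nlinarith)
      exact ⟨_, ⟨φ, rfl⟩, by rw [hdA φ hφ]; exact Nat.mul_dvd_mul_left _ h⟩

end CfsgLib.Suzuki
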