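import Mathlib
import Cfsg.Agent.Lib.Suzuki.Aut
import Cfsg.Agent.Lib.Suzuki.PrimeGraph

/-!
# The groups `(F₈^16)^k : (Sz(8) : 3)`

Their prime graph has the vertices 2, 3, 5, 7, 13 and the edges 2-3, 2-5, 2-7, 3-5.
-/

set_option autoImplicit false
set_option linter.unusedSectionVars false
set_option linter.style.haveILetI false

namespace CfsgLib.SuzukiEight

open Matrix CfsgLib.Suzuki

variable {F : Type} [Field F] [Fintype F] [CharP F 2] [hP : Param F 1]

local notation "Mat" => Matrix (Fin 4) (Fin 4) F

theorem card_F : Fintype.card F = 8 := by rw [hP.card]; norm_num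

theorem natCard_Gp : Nat.card (Gp F 1) = 2 ^ 6 * 5 * 7 * 13 := by
  rw [natCard_group, card_F]
  norm_num

/-- The matrix of an element. -/
def mt (g : Gp F 1) : Mat := (g.1 : Mat)

theorem mt_mul (g h : Gp F 1) : mt (g * h) = mt g * mt h := mat_mul g h

theorem mt_one : mt (1 : Gp F 1) = 1 := rfl

theorem mt_pow (g : Gp F 1) : ∀ n : ℕ, mt (g ^ n) = mt g ^ n
  | 0 => by rw [pow_zero, pow_zero, mt_one]
  | n + 1 => by rw [pow_succ, pow_succ, mt_mul, mt_pow g n]

theorem mt_injective : Function.Injective (mt (F := F)) :=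
  fun _ _ h => Subtype.ext (Matrix.SpecialLinearGroup.ext _ _ fun i j => congrFun (congrFun h i) j)

theorem form_left (g : Gp F 1) : (mt g)ᵀ * Cfsg.suzukiForm F * mt g = Cfsg.suzukiForm F :=
  transpose_form (g := toGLEmb g) (toGLEmb_mem_Sp4 g)

theorem form_right (g : Gp F 1) : mt g * Cfsg.suzukiForm F * (mt g)ᵀ = Cfsg.suzukiForm F :=
  form_transpose (g := toGLEmb g) (toGLEmb_mem_Sp4 g)

variable (F) in
/-- The Frobenius automorphism. -/
noncomputable def frob : F ≃+* F :=
  RingEquiv.ofBijective (frobenius F 2) ((Fintype.bijective_iff_injective_and_card _).2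
    ⟨frobenius_inj F 2, rfl⟩)

theorem frob_apply (x : F) : frob F x = x ^ 2 := rfl

theorem frob_fixed {x : F} (h : frob F x = x) : x = 0 ∨ x = 1 := by
  rw [frob_apply] at h
  rcases eq_or_ne x 0 with h0 | h0
  · exact Or.inl h0
  · exact Or.inr (mul_left_cancel₀ h0 (by rw [← sq, h, mul_one]))

theorem frob_pow_three : (frob F) ^ 3 = 1 := by
  ext x
  show frob F (frob F (frob F x)) = x
  rw [frob_apply, frob_apply, frob_apply, ← pow_mul, ← pow_mul]
  have := FiniteField.pow_card x
  rw [card_F] at this
  exact this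

theorem frob_ne_one : frob F ≠ 1 := by
  classical
  intro h
  have : Fintype.card F ≤ 2 := by
    refine le_trans (le_of_eq Finset.card_univ.symm) ((Finset.card_le_card (s := Finset.univ)
      (t := ({0, 1} : Finset F)) fun x _ => ?_).trans Finset.card_le_two)
    rcases frob_fixed (x := x) (by rw [h]; rfl) with e | e <;> simp [e]
  rw [card_F] at this
  omega

theorem orderOf_frob : orderOf (frob F) = 3 :=
  haveI := Fact.mk Nat.prime_three
  orderOf_eq_prime frob_pow_three frob_ne_one

variable (F) in
/-- The group of order 3. -/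
noncomputable abbrev Gam : Subgroup (F ≃+* F) := Subgroup.zpowers (frob F)

theorem natCard_Gam : Nat.card (Gam F) = 3 := by rw [Nat.card_zpowers, orderOf_frob]

theorem Gam_comm (τ : Gam F) : (τ : F ≃+* F) * frob F = frob F * τ := by
  obtain ⟨i, hi⟩ := τ.2
  simp only at hi
  rw [← hi]
  exact ((Commute.refl (frob F)).zpow_left i).eq

theorem mt_fieldAut (φ : F ≃+* F) (g : Gp F 1) : mt (fieldAut F 1 φ g) = (mt g).map φ := rfl

variable (F) in
/-- The twisted action of `Sz(8)` on `k` copies of the matrix space. -/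
noncomputable def actG (k : ℕ) : Gp F 1 →* MulAut (Multiplicative (Fin k → Mat)) where
  toFun g :=
    { toFun := fun v => Multiplicative.ofAdd fun i => mt g * v.toAdd i * (mt (fieldAut F 1 (frob F) g))ᵀ
      invFun := fun v => Multiplicative.ofAdd fun i =>
        mt g⁻¹ * v.toAdd i * (mt (fieldAut F 1 (frob F) g⁻¹))ᵀ
      left_inv := fun v => Multiplicative.toAdd.injective (funext fun i => by
        simp only [toAdd_ofAdd]
        rw [mul_assoc (mt g⁻¹), mul_assoc (mt g * _), ← transpose_mul, ← mt_mul, ← map_mul, inv_mul_cancel,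
          map_one, mt_one, transpose_one, mul_one, ← mul_assoc, ← mt_mul, inv_mul_cancel, mt_one, one_mul])
      right_inv := fun v => Multiplicative.toAdd.injective (funext fun i => by
        simp only [toAdd_ofAdd]
        rw [mul_assoc (mt g), mul_assoc (mt g⁻¹ * _), ← transpose_mul, ← mt_mul, ← map_mul, mul_inv_cancel,
          map_one, mt_one, transpose_one, mul_one, ← mul_assoc, ← mt_mul, mul_inv_cancel, mt_one, one_mul])
      map_mul' := fun v w => Multiplicative.toAdd.injective (funext fun i => by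
        simp [mul_add, add_mul]) }
  map_one' := MulEquiv.ext fun v => Multiplicative.toAdd.injective (funext fun i => by
    simp [mt_one])
  map_mul' g h := MulEquiv.ext fun v => Multiplicative.toAdd.injective (funext fun i => by
    simp [mt_mul, map_mul, mul_assoc])

theorem actG_apply {k : ℕ} (g : Gp F 1) (v : Multiplicative (Fin k → Mat)) (i : Fin k) :
    (actG F k g v).toAdd i = mt g * v.toAdd i * (mt (fieldAut F 1 (frob F) g))ᵀ := rfl

variable (F) in
/-- The field automorphisms act on the entries. -/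
def actE (k : ℕ) : (F ≃+* F) →* MulAut (Multiplicative (Fin k → Mat)) where
  toFun φ :=
    { toFun := fun v => Multiplicative.ofAdd fun i => (v.toAdd i).map φ
      invFun := fun v => Multiplicative.ofAdd fun i => (v.toAdd i).map φ.symm
      left_inv := fun v => Multiplicative.toAdd.injective (funext fun i => by
        ext a b; simp)
      right_inv := fun v => Multiplicative.toAdd.injective (funext fun i => by
        ext a b; simp)
      map_mul' := fun v w => Multiplicative.toAdd.injective (funext fun i => by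
        ext a b; simp) }
  map_one' := MulEquiv.ext fun v => Multiplicative.toAdd.injective (funext fun i => by
    ext a b; rfl)
  map_mul' φ ψ := MulEquiv.ext fun v => Multiplicative.toAdd.injective (funext fun i => by
    ext a b; rfl)

theorem actE_apply {k : ℕ} (φ : F ≃+* F) (v : Multiplicative (Fin k → Mat)) (i : Fin k) :
    (actE F k φ v).toAdd i = (v.toAdd i).map φ := rfl

variable (F) in
/-- `Sz(8) : 3`. -/
abbrev SzT := Gp F 1 ⋊[(fieldAut F 1).comp (Gam F).subtype] Gam F

variable (F) in
/-- The action of `Sz(8) : 3`. -/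
noncomputable def actX (k : ℕ) : SzT F →* MulAut (Multiplicative (Fin k → Mat)) :=
  SemidirectProduct.lift (actG F k) ((actE F k).comp (Gam F).subtype) fun τ => by
    refine MonoidHom.ext fun g => MulEquiv.ext fun v => ?_
    show actG F k (fieldAut F 1 (τ : F ≃+* F) g) v =
      actE F k (τ : F ≃+* F) (actG F k g ((actE F k (τ : F ≃+* F))⁻¹ v))
    rw [← map_inv]
    refine Multiplicative.toAdd.injective (funext fun i => ?_)
    rw [actE_apply, actG_apply, actG_apply, actE_apply, mt_fieldAut, mt_fieldAut, mt_fieldAut, mt_fieldAut]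
    simp only [Matrix.map_mul, Matrix.transpose_map, Matrix.map_map]
    congr 1
    · congr 1
      ext a b
      simp [Matrix.map_apply]
    · ext a b
      simp only [Matrix.transpose_apply, Matrix.map_apply, Function.comp_apply]
      exact (RingEquiv.congr_fun (Gam_comm τ) (mt g b a)).symm

variable (F) in
/-- `(F₈^16)^k : (Sz(8) : 3)`. -/
abbrev Ext (k : ℕ) := Multiplicative (Fin k → Mat) ⋊[actX F k] SzT F

instance : Finite (Gam F) := Nat.finite_of_card_ne_zero (by rw [natCard_Gam]; norm_num)

instance : Finite (SzT F) := Finite.of_equiv _ SemidirectProduct.equivProd.symm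

instance (k : ℕ) : Finite (Ext F k) :=
  Finite.of_equiv _ SemidirectProduct.equivProd.symm

theorem natCard_ext (k : ℕ) :
    Nat.card (Ext F k) = 8 ^ (16 * k) * (2 ^ 6 * 5 * 7 * 13 * 3) := by
  rw [SemidirectProduct.card, SemidirectProduct.card, natCard_Gp, natCard_Gam,
    Nat.card_congr (Multiplicative.toAdd (α := Fin k → Mat)), Nat.card_fun, Nat.card_fin,
    show Nat.card Mat = 8 ^ 16 by
      rw [Matrix, Nat.card_fun, Nat.card_fun, Nat.card_fin, Nat.card_eq_fintype_card (α := F), card_F,
        ← pow_mul], ← pow_mul]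

theorem prime_dvd_ext {r : ℕ} (hr : r.Prime) {k : ℕ} :
    r ∣ Nat.card (Ext F k) ↔ r = 2 ∨ r = 3 ∨ r = 5 ∨ r = 7 ∨ r = 13 := by
  rw [natCard_ext, show (8 : ℕ) = 2 ^ 3 by norm_num, ← pow_mul]
  constructor
  · intro h
    simp only [hr.dvd_mul] at h
    have key : ∀ {p e : ℕ}, p.Prime → r ∣ p ^ e → r = p := fun hp h =>
      (Nat.prime_dvd_prime_iff_eq hr hp).1 (hr.dvd_of_dvd_pow h)
    rcases h with h | (((h | h) | h) | h) | h
    · exact Or.inl (key Nat.prime_two h)
    · exact Or.inl (key Nat.prime_two h)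
    · exact Or.inr (Or.inr (Or.inl ((Nat.prime_dvd_prime_iff_eq hr (by norm_num)).1 h)))
    · exact Or.inr (Or.inr (Or.inr (Or.inl ((Nat.prime_dvd_prime_iff_eq hr (by norm_num)).1 h))))
    · exact Or.inr (Or.inr (Or.inr (Or.inr ((Nat.prime_dvd_prime_iff_eq hr (by norm_num)).1 h))))
    · exact Or.inr (Or.inl ((Nat.prime_dvd_prime_iff_eq hr (by norm_num)).1 h))
  · rintro (rfl | rfl | rfl | rfl | rfl) <;> exact Dvd.dvd.mul_left (by norm_num) _

/-! ### Fixed points of elements of order 13 -/

theorem card_modEq_one {α : Type*} [Finite α] {p : ℕ} (hp : p.Prime) (σ : Equiv.Perm α) (hσ : σ ^ p = 1)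
    (z : α) (hz : σ z = z) (huniq : ∀ a, σ a = a → a = z) : Nat.card α ≡ 1 [MOD p] := by
  classical
  haveI := Fact.mk hp
  haveI := Fintype.ofFinite α
  have h := Equiv.Perm.card_compl_support_modEq (n := 1) (σ := σ) (by rwa [pow_one])
  have e : (σ.supportᶜ : Finset α) = {z} := by
    ext a
    simp only [Finset.mem_compl, Equiv.Perm.mem_support, not_not, Finset.mem_singleton]
    exact ⟨huniq a, fun e => e ▸ hz⟩
  rw [e, Finset.card_singleton] at h
  rw [Nat.card_eq_fintype_card]
  exact h.symm

theorem left_fixed_eq_zero {g : Gp F 1} (hg : orderOf g = 13) {A : Mat} (hA : mt g * A = A) : A = 0 := by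
  ext i j
  exact congrFun (fixed_eq_zero (p := 13) (by norm_num) (by norm_num) hg (v := fun a => A a j)
    (funext fun a => congrFun (congrFun hA a) j)) i

theorem charpoly_not_two {g : Gp F 1} (hg : orderOf g = 13)
    (hc : ∀ i, frob F ((mt g).charpoly.coeff i) = (mt g).charpoly.coeff i) : False := by
  classical
  let ι : ZMod 2 →+* F := ZMod.castHom (dvd_refl 2) F
  let f : (Fin 4 → ZMod 2) →+ Mat :=
    { toFun := fun c => ∑ i, ι (c i) • mt g ^ (i : ℕ)
      map_zero' := by simp
      map_add' := fun c d => by simp [add_smul, Finset.sum_add_distrib] }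
  have hfa : ∀ c, f c = ∑ i, ι (c i) • mt g ^ (i : ℕ) := fun _ => rfl
  have hbit : ∀ x : F, frob F x = x → ∃ e : ZMod 2, ι e = x := fun x hx => by
    rcases frob_fixed hx with rfl | rfl
    · exact ⟨0, map_zero ι⟩
    · exact ⟨1, map_one ι⟩
  choose e he using fun i => hbit _ (hc i)
  have h4 : mt g ^ 4 = f fun i => e i := by
    have hch := (mt g).aeval_self_charpoly
    rw [Polynomial.aeval_eq_sum_range, Matrix.charpoly_natDegree_eq_dim, Fintype.card_fin,
      Finset.sum_range_succ, ← Fin.sum_univ_eq_sum_range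
      (fun i => (mt g).charpoly.coeff i • mt g ^ i) 4] at hch
    have hlead : (mt g).charpoly.coeff 4 = 1 := by
      have := (mt g).charpoly_monic
      rwa [Polynomial.Monic, Polynomial.leadingCoeff, Matrix.charpoly_natDegree_eq_dim, Fintype.card_fin] at this
    rw [hlead, one_smul] at hch
    rw [hfa]
    simp only [he]
    rw [eq_neg_of_add_eq_zero_right hch]
    ext a b
    rw [Matrix.neg_apply, CharTwo.neg_eq]
  have hcl : ∀ c, mt g * f c ∈ f.range := by
    intro c
    rw [hfa, Finset.mul_sum, Fin.sum_univ_four]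
    have hmem : ∀ (j : Fin 4) (x : ZMod 2), ι x • mt g ^ (j : ℕ) ∈ f.range := fun j x =>
      ⟨Pi.single j x, by
        rw [hfa, Finset.sum_eq_single j (fun b _ hb => by simp [hb]) (by simp)]
        simp⟩
    have h4' : ∀ x : ZMod 2, ι x • mt g ^ 4 ∈ f.range := fun x =>
      ⟨fun i => x * e i, by
        rw [h4, hfa, hfa, Finset.smul_sum]
        simp [smul_smul]⟩
    simp only [Matrix.mul_smul, ← pow_succ']
    exact add_mem (add_mem (add_mem (hmem 1 _) (hmem 2 _)) (hmem 3 _)) (h4' _)
  have hp : ∀ s : f.range, mt g * (s : Mat) ∈ f.range := by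
    rintro ⟨_, c, rfl⟩
    exact hcl c
  have hu : Function.Injective fun s : f.range => (⟨mt g * (s : Mat), hp s⟩ : f.range) := by
    intro a b h
    have h' := congrArg (fun s : f.range => mt g⁻¹ * (s : Mat)) h
    simp only [← mul_assoc, ← mt_mul, inv_mul_cancel, mt_one, one_mul] at h'
    exact Subtype.ext h'
  let σ : Equiv.Perm f.range := Equiv.ofBijective _ ((Finite.injective_iff_bijective).1 hu)
  have hσ : ∀ (n : ℕ) (s : f.range), (((σ ^ n) s : f.range) : Mat) = mt g ^ n * s := by
    intro n
    induction n with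
    | zero => intro s; simp
    | succ n ih =>
      intro s
      rw [pow_succ', Equiv.Perm.mul_apply, pow_succ', mul_assoc, ← ih s]
      rfl
  have hmod := card_modEq_one (p := 13) (by norm_num) σ (Equiv.ext fun s => Subtype.ext (by
      rw [hσ, ← mt_pow, ← hg, pow_orderOf_eq_one, mt_one, one_mul]; rfl))
    0 (Subtype.ext (by show mt g * (0 : Mat) = 0; rw [mul_zero]))
    (fun a ha => Subtype.ext (left_fixed_eq_zero hg (congrArg Subtype.val ha)))
  have hdvd : Nat.card f.range ∣ 2 ^ 4 := by
    rw [show (2 : ℕ) ^ 4 = Nat.card (Fin 4 → ZMod 2) by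
      rw [Nat.card_fun, Nat.card_fin, Nat.card_zmod]]
    exact AddSubgroup.card_range_dvd f
  have h1 : Nat.card f.range ≠ 1 := by
    intro h
    rw [AddSubgroup.card_eq_one] at h
    have : (1 : Mat) ∈ f.range := ⟨Pi.single 0 1, by
      rw [hfa, Finset.sum_eq_single 0 (fun b _ hb => by simp [hb]) (by simp)]
      simp⟩
    rw [h, AddSubgroup.mem_bot] at this
    exact one_ne_zero this
  obtain ⟨j, hj, e'⟩ := (Nat.dvd_prime_pow Nat.prime_two).1 hdvd
  rw [e'] at hmod h1
  interval_cases j <;> first | omega | exact absurd hmod (by decide)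

theorem mat_fixed_eq_zero {g : Gp F 1} (hg : orderOf g = 13) {M : Mat}
    (hM : mt g * M * (mt (fieldAut F 1 (frob F) g))ᵀ = M) : M = 0 := by
  classical
  set g' := fieldAut F 1 (frob F) g with hg'def
  have hg' : orderOf g' = 13 := by rw [hg'def, MulEquiv.orderOf_eq, hg]
  set J := Cfsg.suzukiForm F with hJ
  set N := M * J with hN
  have hNg : N * mt g' = mt g * N := by
    conv_lhs => rw [hN, ← hM]
    rw [mul_assoc (mt g * M * _) J, mul_assoc (mt g * M), ← mul_assoc (mt g')ᵀ J, form_left, mul_assoc]
  have hJJ : J * J = 1 := by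
    rw [hJ]
    ext i j
    fin_cases i <;> fin_cases j <;> simp [Cfsg.suzukiForm, Matrix.mul_apply, Fin.sum_univ_four]
  suffices hN0 : N = 0 by
    have := congrArg (· * J) hN0
    simpa [hN, mul_assoc, hJJ] using this
  set K := LinearMap.ker (Matrix.toLin' N)
  have hK : ∀ v ∈ K, mt g' *ᵥ v ∈ K := fun v hv => by
    rw [LinearMap.mem_ker, Matrix.toLin'_apply] at hv ⊢
    rw [mulVec_mulVec, hNg, ← mulVec_mulVec, hv, mulVec_zero]
  have hinj : Function.Injective fun v : K => (⟨mt g' *ᵥ (v : Fin 4 → F), hK v v.2⟩ : K) := by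
    intro a b h
    have h' := congrArg (fun s : K => mt g'⁻¹ *ᵥ (s : Fin 4 → F)) h
    simp only [mulVec_mulVec, ← mt_mul, inv_mul_cancel, mt_one, one_mulVec] at h'
    exact Subtype.ext h'
  let σ : Equiv.Perm K := Equiv.ofBijective _ ((Finite.injective_iff_bijective).1 hinj)
  have hσ : ∀ (n : ℕ) (v : K), (((σ ^ n) v : K) : Fin 4 → F) = (mt g' ^ n) *ᵥ v := by
    intro n
    induction n with
    | zero => intro v; simp
    | succ n ih =>
      intro v
      rw [pow_succ', Equiv.Perm.mul_apply, pow_succ', ← mulVec_mulVec, ← ih v]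
      rfl
  have hmod := card_modEq_one (p := 13) (by norm_num) σ (Equiv.ext fun v => Subtype.ext (by
      rw [hσ, ← mt_pow, ← hg', pow_orderOf_eq_one, mt_one, one_mulVec]; rfl))
    0 (Subtype.ext (by show mt g' *ᵥ (0 : Fin 4 → F) = 0; rw [mulVec_zero]))
    (fun a ha => Subtype.ext (fixed_eq_zero (p := 13) (by norm_num) (by norm_num) hg'
      (congrArg Subtype.val ha)))
  have hd := Submodule.finrank_le K
  rw [Module.finrank_fin_fun] at hd
  rw [Module.natCard_eq_pow_finrank (K := F), Nat.card_eq_fintype_card, card_F] at hmod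
  obtain hd0 | hd4 : Module.finrank F K = 0 ∨ Module.finrank F K = 4 := by
    interval_cases h : Module.finrank F K <;> simp_all <;> exact absurd hmod (by decide)
  · -- `N` is invertible, so `g` and its Frobenius image are conjugate
    exfalso
    rw [Submodule.finrank_eq_zero] at hd0
    have hNu : IsUnit N := Matrix.mulVec_injective_iff_isUnit.1 fun a b h =>
      LinearMap.ker_eq_bot.1 hd0 (by simpa [Matrix.toLin'_apply] using h)
    obtain ⟨u, hu⟩ := hNu
    refine charpoly_not_two hg fun i => ?_
    have h1 : (mt g').charpoly = (mt g).charpoly := by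
      rw [← Matrix.charpoly_units_conj u (mt g'), hu, hNg, ← hu, ← Matrix.coe_units_inv, mul_assoc, Units.mul_inv, mul_one]
    rw [hg'def, mt_fieldAut] at h1
    have h2 := Matrix.charpoly_map (mt g) (frob F).toRingHom
    have h3 : (mt g).map (frob F).toRingHom = (mt g).map (frob F) := rfl
    rw [h3, h1] at h2
    conv_rhs => rw [h2, Polynomial.coeff_map]
    rfl
  · have : K = ⊤ := Submodule.eq_top_of_finrank_eq (by rw [hd4, Module.finrank_fin_fun])
    rw [LinearMap.ker_eq_top] at this
    exact (Matrix.toLin'.map_eq_zero_iff).1 this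

end CfsgLib.SuzukiEight
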