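import Cfsg.Agent.Lib.Suzuki.EightExt

/-!
# The prime graph of `(F₈^16)^k : (Sz(8) : 3)`
-/

set_option autoImplicit false
set_option linter.unusedSectionVars false
set_option linter.style.haveILetI false

namespace CfsgLib.SuzukiEight

open Matrix CfsgLib.Suzuki MulAction

variable {F : Type} [Field F] [Fintype F] [CharP F 2] [hP : Param F 1]

local notation "Mat" => Matrix (Fin 4) (Fin 4) F

theorem no_order_gp {g : Gp F 1} {m : ℕ} (hg : orderOf g = m) : m ≠ 35 ∧ m ≠ 91 ∧ m ≠ 65 := by
  have hcase : m = 1 ∨ m ∣ 64 ∨ m ∣ 7 ∨ (m ∣ 65 ∧ g ∈ singT F 1) := by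
    rcases classify g with h | h | h | h
    · exact Or.inl (by rw [← hg, h, orderOf_one])
    · have := (class_orders.1 h).2
      rw [hg, card_F] at this
      exact Or.inr (Or.inl this)
    · have := (class_orders.2 h).2
      rw [hg, card_F] at this
      exact Or.inr (Or.inr (Or.inl this))
    · have := h.2
      rw [hg, card_F] at this
      exact Or.inr (Or.inr (Or.inr ⟨this, h⟩))
  refine ⟨?_, ?_, ?_⟩ <;> intro hm <;> rw [hm] at hcase hg
  · norm_num at hcase
  · norm_num at hcase
  · obtain ⟨A, -, hAc, hAC, -⟩ := tori F 1 13 (by norm_num)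
    haveI : Fact (Nat.Prime 13) := ⟨by norm_num⟩
    obtain ⟨⟨u, hu⟩, huo⟩ := exists_prime_orderOf_dvd_card' (G := A) 13 (by rw [hAc])
    rw [Subgroup.orderOf_mk] at huo
    have hu1 : u ≠ 1 := fun h => by rw [h, orderOf_one] at huo; omega
    have hw : orderOf (g ^ 5) = 13 := by
      rw [orderOf_pow_of_dvd (by norm_num) (by rw [hg]; norm_num), hg]
    have hS : ∀ v : Gp F 1, orderOf v = 13 → ¬ 13 ∣ (Subgroup.zpowers v).index := by
      intro v hv h
      have h1 := (Subgroup.zpowers v).card_mul_index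
      rw [Nat.card_zpowers, hv, natCard_Gp] at h1
      obtain ⟨d, hd⟩ := h
      rw [hd] at h1
      omega
    have hI : ∀ v : Gp F 1, orderOf v = 13 → IsPGroup 13 (Subgroup.zpowers v) := fun v hv =>
      IsPGroup.of_card (n := 1) (by rw [Nat.card_zpowers, hv, pow_one])
    let P := (hI _ hw).toSylow (hS _ hw)
    let Q := (hI _ huo).toSylow (hS _ huo)
    obtain ⟨c, hc⟩ := MulAction.exists_smul_eq (Gp F 1) P Q
    have hmem : c * g ^ 5 * c⁻¹ ∈ Subgroup.zpowers u := by
      have h2 := congrArg (fun S : Sylow 13 (Gp F 1) => (S : Subgroup (Gp F 1))) hc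
      simp only [Sylow.coe_subgroup_smul] at h2
      have h3 := Subgroup.smul_mem_pointwise_smul (g ^ 5) (MulAut.conj c) _
        (show g ^ 5 ∈ (P : Subgroup (Gp F 1)) from Subgroup.mem_zpowers _)
      rw [h2] at h3
      exact h3
    have hA : c * g * c⁻¹ ∈ A := by
      have h5 : c * g ^ 5 * c⁻¹ ≠ 1 := fun h => by
        rw [conj_eq_one_iff] at h
        rw [h, orderOf_one] at hw
        omega
      rw [← hAC _ (Subgroup.zpowers_le.2 hu hmem) h5, Subgroup.mem_centralizer_singleton_iff, ← conj_pow]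
      exact (Commute.self_pow _ 5).eq
    have h6 := Subgroup.orderOf_dvd_natCard _ hA
    rw [CfsgLib.Ree.orderOf_conj', hg, hAc] at h6
    norm_num at h6

/-- The ovoid points with coordinates in the prime field. -/
noncomputable def ratPts : Finset (Pts F 1) := by
  classical
  exact {pinf F 1, paff 0 0, paff 0 1, paff 1 0, paff 1 1}

theorem fieldAut_fixed_eq_one {g : Gp F 1} {s : ℕ} (hs : s.Prime) (h7 : 7 ≤ s) (hg : orderOf g = s)
    (hfix : fieldAut F 1 (frob F) g = g) : False := by
  classical
  set φ := frob F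
  have hM : ∀ i j, φ (mt g i j) = mt g i j := fun i j => by
    have := congrArg mt hfix
    rw [mt_fieldAut] at this
    exact congrFun (congrFun this i) j
  have hfv : ∀ (v : Fin 4 → F), (∀ i, φ (v i) = v i) → ∀ i, φ ((mt g *ᵥ v) i) = (mt g *ᵥ v) i := by
    intro v hv i
    simp [Matrix.mulVec, dotProduct, map_sum, map_mul, hM, hv]
  have hov : ∀ x y : F, φ (ov 1 x y) = ov 1 (φ x) (φ y) := fun x y => by
    simp [ov, map_add, map_mul, ringEquiv_sg]
  have himg : ∀ v (hv : v ≠ 0), (∀ i, φ (v i) = v i) → ∀ q : Pts F 1,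
      g.1 • Projectivization.mk F v hv = q.1 → q ∈ ratPts (F := F) := by
    intro v hv hφ q hq
    rcases pts_cases q with rfl | ⟨x, y, rfl⟩
    · simp [ratPts]
    · obtain ⟨c, hc0, hc⟩ := smul_eq_mk_imp g.1 hv (vec_ne_zero (m := 1) x y) hq
      have hv' := hfv v hφ
      rw [show mt g = (g.1 : Mat) from rfl, hc] at hv'
      have h3 : φ c = c := by simpa [Suzuki.vec] using hv' 3
      have h2 : φ x = x := by
        have := hv' 2
        simp [Suzuki.vec, h3] at this
        exact this.resolve_right hc0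
      have h1 : φ y = y := by
        have := hv' 1
        simp [Suzuki.vec, h3] at this
        exact this.resolve_right hc0
      rcases frob_fixed h2 with rfl | rfl <;> rcases frob_fixed h1 with rfl | rfl <;> simp [ratPts]
  have hmem : ∀ p ∈ ratPts (F := F), g • p ∈ ratPts (F := F) := by
    intro p hp
    simp only [ratPts, Finset.mem_insert, Finset.mem_singleton] at hp
    have haff : ∀ x y : F, φ x = x → φ y = y → g • paff (m := 1) x y ∈ ratPts (F := F) :=
      fun x y hx hy => himg (Suzuki.vec 1 x y) (vec_ne_zero x y) (fun i => by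
        fin_cases i <;> simp [Suzuki.vec, hov, hx, hy]) _ rfl
    rcases hp with rfl | rfl | rfl | rfl | rfl
    · exact himg ![1, 0, 0, 0] _ (fun i => by fin_cases i <;> simp) _ rfl
    all_goals exact haff _ _ (by simp) (by simp)
  have hfixp : ∀ p ∈ ratPts (F := F), g • p = p := by
    intro p hp
    have horb : ∀ n : ℕ, g ^ n • p ∈ ratPts (F := F) := by
      intro n
      induction n with
      | zero => simpa using hp
      | succ n ih => rw [pow_succ', mul_smul]; exact hmem _ ih
    by_contra hne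
    have hinj : Function.Injective fun i : Fin s => (⟨g ^ (i : ℕ) • p, horb i⟩ : ratPts (F := F)) := by
      intro i j hij
      have h := congrArg Subtype.val hij
      simp only at h
      by_contra hij'
      wlog hlt : (i : ℕ) < j generalizing i j
      · exact this hij.symm h.symm (Ne.symm hij')
          (lt_of_le_of_ne (not_lt.1 hlt) fun e => hij' (Fin.ext e.symm))
      have hfix' : g ^ ((j : ℕ) - i) • p = p := by
        refine MulAction.injective (g ^ (i : ℕ)) ?_
        show g ^ (i : ℕ) • g ^ ((j : ℕ) - i) • p = g ^ (i : ℕ) • p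
        rw [smul_smul, ← pow_add, Nat.add_sub_cancel' hlt.le]
        exact h.symm
      have hmemz : g ∈ Subgroup.zpowers (g ^ ((j : ℕ) - i)) := by
        have hco : Nat.Coprime ((j : ℕ) - i) (orderOf g) := by
          rw [hg]
          refine ((hs.coprime_iff_not_dvd).2 fun hd => ?_).symm
          have := Nat.le_of_dvd (by omega) hd
          omega
        obtain ⟨n, hn⟩ := exists_pow_eq_self_of_coprime hco
        exact ⟨n, by simpa using hn⟩
      exact hne (MulAction.mem_stabilizer_iff.1 ((Subgroup.zpowers_le.2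
        (show g ^ ((j : ℕ) - i) ∈ MulAction.stabilizer (Gp F 1) p from hfix')) hmemz))
    have h1 := Fintype.card_le_of_injective _ hinj
    rw [Fintype.card_fin, Fintype.card_coe] at h1
    have h5 : (ratPts (F := F)).card ≤ 5 := Finset.card_le_five
    omega
  have h1 := eq_one_of_fix_three (p := pinf F 1) (q := paff 0 0) (r := paff 1 0)
    (Ne.symm (paff_ne_pinf _ _)) (Ne.symm (paff_ne_pinf _ _))
    (fun h => zero_ne_one (paff_inj h).1) (hfixp _ (by simp [ratPts])) (hfixp _ (by simp [ratPts]))
    (hfixp _ (by simp [ratPts]))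
  rw [h1, orderOf_one] at hg
  omega

variable {k : ℕ}

theorem sq_eq_one {y : Ext F k} (hy : y.right = 1) : y * y = 1 := by
  refine SemidirectProduct.ext ?_ ?_
  · rw [SemidirectProduct.mul_left, hy, map_one]
    exact Multiplicative.toAdd.injective (funext fun i => by
      ext a b; exact CharTwo.add_self_eq_zero _)
  · rw [SemidirectProduct.mul_right, hy, mul_one]; rfl

theorem orderOf_right {y : Ext F k} (hy : Odd (orderOf y)) : orderOf y.right = orderOf y := by
  refine Nat.dvd_antisymm (orderOf_map_dvd SemidirectProduct.rightHom y) ?_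
  have h1 : (y ^ orderOf y.right).right = 1 := by
    rw [← SemidirectProduct.rightHom_eq_right, map_pow, SemidirectProduct.rightHom_eq_right,
      pow_orderOf_eq_one]
  have h2 := sq_eq_one h1
  rw [← pow_two, ← pow_mul] at h2
  exact Nat.Coprime.dvd_of_dvd_mul_right (Nat.coprime_two_right.2 hy) (orderOf_dvd_of_pow_eq_one h2)

theorem right_right_eq_one {x : SzT F} (hx : (orderOf x).Coprime 3) : x.right = 1 := by
  have h1 : orderOf x.right ∣ orderOf x := orderOf_map_dvd SemidirectProduct.rightHom x
  have h2 : orderOf x.right ∣ 3 := natCard_Gam (F := F) ▸ orderOf_dvd_natCard x.right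
  exact orderOf_eq_one_iff.1 (Nat.eq_one_of_dvd_coprimes hx h1 h2)

theorem orderOf_inl_left {x : SzT F} (hx : x.right = 1) :
    x = SemidirectProduct.inl x.left ∧ orderOf x.left = orderOf x := by
  have e : x = SemidirectProduct.inl x.left := SemidirectProduct.ext rfl (by rw [hx]; rfl)
  exact ⟨e, by conv_rhs => rw [e, orderOf_injective _ SemidirectProduct.inl_injective]⟩

theorem no_odd {y : Ext F k} {m : ℕ} (hy : orderOf y = m) : m ≠ 35 ∧ m ≠ 91 ∧ m ≠ 65 := by
  by_contra h
  have hm : m = 35 ∨ m = 91 ∨ m = 65 := by omega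
  have ho : orderOf y.right = m := by
    rw [orderOf_right, hy]
    rw [hy]
    rcases hm with rfl | rfl | rfl <;> decide
  obtain ⟨-, e⟩ := orderOf_inl_left (right_right_eq_one (x := y.right) (by
    rw [ho]; rcases hm with rfl | rfl | rfl <;> norm_num))
  have := no_order_gp (e.trans ho)
  omega

theorem no_twenty_six (y : Ext F k) : orderOf y ≠ 2 * 13 := by
  intro hy
  set a := y ^ 2 with ha_def
  set b := y ^ 13 with hb_def
  have ha : orderOf a = 13 := by rw [ha_def, orderOf_pow_of_dvd (by norm_num) (by rw [hy]; norm_num), hy]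
  have hb : orderOf b = 2 := by rw [hb_def, orderOf_pow_of_dvd (by norm_num) (by rw [hy]; norm_num), hy]
  have hab : a * b = b * a := (Commute.pow_pow_self y 2 13).eq
  have hao : orderOf a.right = 13 := by rw [orderOf_right (by rw [ha]; decide), ha]
  obtain ⟨ea, hga⟩ := orderOf_inl_left (right_right_eq_one (x := a.right) (by rw [hao]; norm_num))
  rw [hao] at hga
  have hbd : orderOf b.right ∣ 2 := hb ▸ orderOf_map_dvd SemidirectProduct.rightHom b
  obtain ⟨eb, hgb⟩ := orderOf_inl_left (right_right_eq_one (x := b.right)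
    (Nat.Coprime.coprime_dvd_left hbd (by norm_num)))
  have hc : a.right.left * b.right.left = b.right.left * a.right.left := by
    refine SemidirectProduct.inl_injective (φ := (fieldAut F 1).comp (Gam F).subtype) ?_
    rw [map_mul, map_mul, ← ea, ← eb, ← SemidirectProduct.mul_right, ← SemidirectProduct.mul_right, hab]
  have hb1 : b.right = 1 := by
    rcases (Nat.dvd_prime Nat.prime_two).1 hbd with h | h
    · exact orderOf_eq_one_iff.1 h
    · exfalso
      refine no_order_two_mul (p := 13) (by norm_num) (by norm_num) (b.right.left * a.right.left) ?_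
      rw [(show Commute b.right.left a.right.left from hc.symm).orderOf_mul_eq_mul_orderOf_of_coprime
        (by rw [hgb, hga, h]; norm_num), hgb, hga, h]
  have hfix : actX F k a.right b.left = b.left := by
    have e := congrArg SemidirectProduct.left hab
    rw [SemidirectProduct.mul_left, SemidirectProduct.mul_left, hb1, map_one, MulAut.one_apply,
      mul_comm b.left a.left] at e
    exact mul_left_cancel e
  rw [ea] at hfix
  unfold actX at hfix
  rw [SemidirectProduct.lift_inl] at hfix
  have hbl : b.left = 1 := by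
    refine Multiplicative.toAdd.injective (funext fun i => ?_)
    exact mat_fixed_eq_zero hga (congrFun (congrArg Multiplicative.toAdd hfix) i)
  rw [show b = 1 from SemidirectProduct.ext hbl hb1, orderOf_one] at hb
  omega

variable (F) in
/-- The embedded group of order 3. -/
noncomputable def jGam (k : ℕ) : Gam F →* Ext F k := SemidirectProduct.inr.comp SemidirectProduct.inr

theorem jGam_injective : Function.Injective (jGam F k) :=
  SemidirectProduct.inr_injective.comp SemidirectProduct.inr_injective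

theorem not_three_dvd_index {T : Subgroup (Ext F k)} (hT : Nat.card T = 3) : ¬ 3 ∣ T.index := by
  intro h
  have h1 := T.card_mul_index
  rw [hT, natCard_ext, show 8 ^ (16 * k) * (2 ^ 6 * 5 * 7 * 13 * 3) =
    3 * (8 ^ (16 * k) * (2 ^ 6 * 5 * 7 * 13)) by ring] at h1
  rw [Nat.eq_of_mul_eq_mul_left (by norm_num) h1] at h
  have h3 : Nat.Coprime 3 (8 ^ (16 * k) * (2 ^ 6 * 5 * 7 * 13)) :=
    Nat.Coprime.mul_right (Nat.Coprime.pow_right _ (by norm_num)) (by norm_num)
  have := Nat.eq_one_of_dvd_coprimes h3 (dvd_refl 3) h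
  omega

theorem no_three {s : ℕ} (hs : s = 7 ∨ s = 13) (y : Ext F k) : orderOf y ≠ 3 * s := by
  intro hy
  have hs' : s.Prime := by rcases hs with rfl | rfl <;> norm_num
  haveI := Fact.mk Nat.prime_three
  have hb : orderOf (y ^ s) = 3 := by
    rw [orderOf_pow_of_dvd hs'.ne_zero (hy ▸ dvd_mul_left s 3), hy, Nat.mul_div_cancel _ hs'.pos]
  have hT : Nat.card (jGam F k).range = 3 := by
    rw [← Nat.card_congr (MonoidHom.ofInjective jGam_injective).toEquiv, natCard_Gam]
  have hZ : Nat.card (Subgroup.zpowers (y ^ s)) = 3 := by rw [Nat.card_zpowers, hb]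
  let P := (IsPGroup.of_card (p := 3) (n := 1) (by rw [hZ, pow_one] :
    Nat.card (Subgroup.zpowers (y ^ s)) = 3 ^ 1)).toSylow (not_three_dvd_index hZ)
  let Q := (IsPGroup.of_card (p := 3) (n := 1) (by rw [hT, pow_one] :
    Nat.card (jGam F k).range = 3 ^ 1)).toSylow (not_three_dvd_index hT)
  obtain ⟨c, hc⟩ := MulAction.exists_smul_eq (Ext F k) P Q
  obtain ⟨τ, hτ⟩ : c * y ^ s * c⁻¹ ∈ (jGam F k).range := by
    have h2 := congrArg (fun S : Sylow 3 (Ext F k) => (S : Subgroup (Ext F k))) hc
    simp only [Sylow.coe_subgroup_smul] at h2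
    have h3 := Subgroup.smul_mem_pointwise_smul (y ^ s) (MulAut.conj c) _
      (show y ^ s ∈ (P : Subgroup (Ext F k)) from Subgroup.mem_zpowers _)
    rw [h2] at h3
    exact h3
  have hτ1 : τ ≠ 1 := fun h => by
    rw [h, map_one, eq_comm, conj_eq_one_iff] at hτ
    rw [hτ, orderOf_one] at hb
    omega
  set a := c * y ^ 3 * c⁻¹ with ha_def
  have ha : orderOf a = s := by
    rw [ha_def, CfsgLib.Ree.orderOf_conj', orderOf_pow_of_dvd (by norm_num) (hy ▸ dvd_mul_right 3 s), hy,
      Nat.mul_div_cancel_left _ (by norm_num)]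
  have hsodd : Odd s := by rcases hs with rfl | rfl <;> decide
  have hao : orderOf a.right = s := by rw [orderOf_right (ha ▸ hsodd), ha]
  obtain ⟨ea, hga⟩ := orderOf_inl_left (right_right_eq_one (x := a.right) (by
    rw [hao]; rcases hs with rfl | rfl <;> norm_num))
  rw [hao] at hga
  have hcomm : Commute a (jGam F k τ) := by
    rw [hτ, ha_def]
    show (c * y ^ 3 * c⁻¹) * (c * y ^ s * c⁻¹) = (c * y ^ s * c⁻¹) * (c * y ^ 3 * c⁻¹)
    rw [conj_mul, conj_mul, (Commute.pow_pow_self y 3 s).eq]
  have h4 : a.right * SemidirectProduct.inr τ = SemidirectProduct.inr τ * a.right :=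
    congrArg SemidirectProduct.right hcomm.eq
  rw [ea] at h4
  have h5 := congrArg SemidirectProduct.left h4
  rw [SemidirectProduct.mul_left, SemidirectProduct.mul_left, SemidirectProduct.left_inl,
    SemidirectProduct.left_inr, SemidirectProduct.right_inl, SemidirectProduct.right_inr, map_one, one_mul, mul_one] at h5
  have hgen : frob F ∈ Subgroup.zpowers (τ : F ≃+* F) := by
    have ho : orderOf (τ : F ≃+* F) = 3 := by
      rw [Subgroup.orderOf_coe]
      exact orderOf_eq_prime (by
        have := pow_card_eq_one' (x := τ)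
        rwa [natCard_Gam] at this) hτ1
    have : Subgroup.zpowers (τ : F ≃+* F) = Gam F :=
      Subgroup.eq_of_le_of_card_ge (Subgroup.zpowers_le.2 τ.2) (by rw [natCard_Gam, Nat.card_zpowers, ho])
    rw [this]
    exact Subgroup.mem_zpowers _
  refine fieldAut_fixed_eq_one hs' (by rcases hs with rfl | rfl <;> norm_num) hga ?_
  obtain ⟨i, hi⟩ := hgen
  simp only at hi
  have h6 : fieldAut F 1 (τ : F ≃+* F) ∈ MulAction.stabilizer (MulAut (Gp F 1)) a.right.left := h5.symm
  have h7 := zpow_mem h6 i
  rw [← map_zpow, hi] at h7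
  exact h7

theorem pow_five_eq_one :
    (!![0, 0, 0, 1; 0, 0, 1, 0; 0, 1, 0, 1; 1, 0, 1, 1] : Matrix (Fin 4) (Fin 4) (ZMod 2)) ^ 5 = 1 := by
  decide +kernel

theorem exists_orders (hk : 1 ≤ k) :
    (∃ y : Ext F k, orderOf y = 2 * 3) ∧ (∃ y : Ext F k, orderOf y = 2 * 5) ∧
      (∃ y : Ext F k, orderOf y = 2 * 7) ∧ ∃ y : Ext F k, orderOf y = 3 * 5 := by
  classical
  haveI := Fact.mk Nat.prime_two
  haveI := Fact.mk Nat.prime_three
  haveI : Fact (Nat.Prime 5) := ⟨by norm_num⟩
  haveI : Fact (Nat.Prime 7) := ⟨by norm_num⟩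
  set τ : Gam F := ⟨frob F, Subgroup.mem_zpowers _⟩
  have hτo : orderOf (jGam F k τ) = 3 := by
    rw [orderOf_injective _ jGam_injective, Subgroup.orderOf_mk, orderOf_frob]
  let i : Gp F 1 →* Ext F k := SemidirectProduct.inr.comp SemidirectProduct.inl
  have hinj : Function.Injective i := SemidirectProduct.inr_injective.comp SemidirectProduct.inl_injective
  have hcτ : ∀ g : Gp F 1, fieldAut F 1 (frob F) g = g → Commute (jGam F k τ) (i g) := fun g hg => by
    show SemidirectProduct.inr (SemidirectProduct.inr τ) * SemidirectProduct.inr (SemidirectProduct.inl g) =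
      SemidirectProduct.inr (SemidirectProduct.inl g) * SemidirectProduct.inr (SemidirectProduct.inr τ)
    rw [← map_mul, ← map_mul]
    congr 1
    refine SemidirectProduct.ext ?_ ?_ <;> simp [τ, hg]
  set g5 : Gp F 1 := gW F 1 * gT 0 1 with hg5
  have hfix5 : fieldAut F 1 (frob F) g5 = g5 := by
    rw [hg5, map_mul, fieldAut_gW, fieldAut_gT, map_zero, map_one]
  have hmat : mt g5 = !![0, 0, 0, 1; 0, 0, 1, 0; 0, 1, 0, 1; 1, 0, 1, 1] := by
    rw [hg5, mt_mul, show mt (gW F 1) = Cfsg.suzukiForm F from rfl,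
      show mt (gT (m := 1) (0 : F) 1) = trMat 1 0 1 from rfl]
    ext a b
    fin_cases a <;> fin_cases b <;>
      simp [Cfsg.suzukiForm, trMat, ov, Matrix.mul_apply, Fin.sum_univ_four]
  have ho5 : orderOf g5 = 5 := by
    refine orderOf_eq_prime (mt_injective ?_) fun h => ?_
    · rw [mt_pow, hmat, mt_one]
      set A₀ : Matrix (Fin 4) (Fin 4) (ZMod 2) := !![0, 0, 0, 1; 0, 0, 1, 0; 0, 1, 0, 1; 1, 0, 1, 1]
        with hA₀
      have e : (!![0, 0, 0, 1; 0, 0, 1, 0; 0, 1, 0, 1; 1, 0, 1, 1] : Mat) =
          (ZMod.castHom (dvd_refl 2) F).mapMatrix A₀ := by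
        ext a b
        fin_cases a <;> fin_cases b <;> simp [hA₀]
      rw [e, ← map_pow, hA₀, pow_five_eq_one, map_one]
    · rw [h, mt_one] at hmat
      simpa using congrFun (congrFun hmat 0) 0
  have ho2 : orderOf (gT (m := 1) (0 : F) 1) = 2 := by
    refine orderOf_eq_prime ?_ fun h => ?_
    · rw [pow_two, gT_mul, ← gT_zero (m := 1)]
      simp [CharTwo.add_self_eq_zero]
    · rw [← gT_zero (m := 1)] at h
      exact one_ne_zero (gT_inj h).2
  obtain ⟨t, ht⟩ : ∃ t : Fˣ, orderOf t = 7 := by
    refine exists_prime_orderOf_dvd_card 7 ?_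
    rw [Fintype.card_units, card_F]
  have ho7 : orderOf (gH (m := 1) t) = 7 := by rw [orderOf_injective _ gH_injective, ht]
  let w : Mat → Multiplicative (Fin k → Mat) := fun M => Multiplicative.ofAdd fun _ => M
  have hw2 : ∀ M : Mat, M ≠ 0 → orderOf (SemidirectProduct.inl (w M) : Ext F k) = 2 := fun M hM => by
    refine orderOf_eq_prime (by rw [pow_two]; exact sq_eq_one (SemidirectProduct.right_inl _)) fun h => hM ?_
    have h' := SemidirectProduct.inl_injective (h.trans (map_one SemidirectProduct.inl).symm)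
    exact congrFun (congrArg Multiplicative.toAdd h') ⟨0, hk⟩
  have hcw : ∀ (M : Mat) (g : Gp F 1), mt g * M * (mt (fieldAut F 1 (frob F) g))ᵀ = M →
      Commute (SemidirectProduct.inl (w M) : Ext F k) (i g) := fun M g hM => by
    have h : actX F k (SemidirectProduct.inl g) (w M) = w M := by
      unfold actX
      rw [SemidirectProduct.lift_inl]
      exact Multiplicative.toAdd.injective (funext fun j => hM)
    refine SemidirectProduct.ext ?_ ?_ <;> simp [i, h]
  refine ⟨⟨jGam F k τ * i (gT 0 1), ?_⟩, ⟨SemidirectProduct.inl (w (Cfsg.suzukiForm F)) * i g5, ?_⟩,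
    ⟨SemidirectProduct.inl (w (Matrix.single 0 1 1)) * i (gH t), ?_⟩, ⟨jGam F k τ * i g5, ?_⟩⟩
  · rw [(hcτ _ (by rw [fieldAut_gT, map_zero, map_one])).orderOf_mul_eq_mul_orderOf_of_coprime
      (by rw [hτo, orderOf_injective _ hinj, ho2]; norm_num), hτo, orderOf_injective _ hinj, ho2]
  · have hJ0 : Cfsg.suzukiForm F ≠ 0 := fun h => by
      simpa [Cfsg.suzukiForm] using congrFun (congrFun h 0) 3
    rw [(hcw _ g5 (by rw [hfix5]; exact form_right g5)).orderOf_mul_eq_mul_orderOf_of_coprime
      (by rw [hw2 _ hJ0, orderOf_injective _ hinj, ho5]; norm_num), hw2 _ hJ0, orderOf_injective _ hinj, ho5]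
  · have hs0 : (Matrix.single (0 : Fin 4) (1 : Fin 4) (1 : F)) ≠ 0 := fun h => by
      simpa using congrFun (congrFun h 0) 1
    have ht7 : (t : F) ^ 7 = 1 := by
      have := congrArg Units.val (pow_orderOf_eq_one t)
      rwa [ht, Units.val_pow_eq_pow_val, Units.val_one] at this
    have hfixw : mt (gH (m := 1) t) * Matrix.single (0 : Fin 4) (1 : Fin 4) (1 : F) *
        (mt (fieldAut F 1 (frob F) (gH t)))ᵀ = Matrix.single (0 : Fin 4) (1 : Fin 4) (1 : F) := by
      rw [fieldAut_gH, show mt (gH (m := 1) t) = htMat 1 t from rfl,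
        show mt (gH (m := 1) (Units.mapEquiv (frob F).toMulEquiv t)) =
          htMat 1 (Units.mapEquiv (frob F).toMulEquiv t) from rfl, htMat, htMat, Matrix.diagonal_transpose]
      ext a b
      rw [Matrix.mul_diagonal, Matrix.diagonal_mul]
      fin_cases a <;> fin_cases b <;> simp [frob_apply, sg_def]
      linear_combination ht7
    rw [(hcw _ _ hfixw).orderOf_mul_eq_mul_orderOf_of_coprime
      (by rw [hw2 _ hs0, orderOf_injective _ hinj, ho7]; norm_num), hw2 _ hs0, orderOf_injective _ hinj, ho7]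
  · rw [(hcτ _ hfix5).orderOf_mul_eq_mul_orderOf_of_coprime
      (by rw [hτo, orderOf_injective _ hinj, ho5]; norm_num), hτo, orderOf_injective _ hinj, ho5]

/-- The pairs of joined primes. -/
theorem exists_order_iff (hk : 1 ≤ k) {r s : ℕ} (hr : r.Prime) (hs : s.Prime) (hrs : r < s) :
    (∃ y : Ext F k, orderOf y = r * s) ↔
      (r, s) = (2, 3) ∨ (r, s) = (2, 5) ∨ (r, s) = (2, 7) ∨ (r, s) = (3, 5) := by
  obtain ⟨h6, h10, h14, h15⟩ := exists_orders (F := F) hk
  constructor
  · rintro ⟨y, hy⟩
    have hd : ∀ {p}, p ∣ r * s → p ∣ Nat.card (Ext F k) := fun h =>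
      h.trans (hy ▸ orderOf_dvd_natCard y)
    have hr' := (prime_dvd_ext hr).1 (hd (dvd_mul_right r s))
    have hs' := (prime_dvd_ext hs).1 (hd (dvd_mul_left s r))
    rcases hr' with rfl | rfl | rfl | rfl | rfl <;> rcases hs' with rfl | rfl | rfl | rfl | rfl <;>
      first
        | omega
        | (simp; done)
        | exact absurd hy (no_twenty_six y)
        | exact absurd hy (no_three (by norm_num) y)
        | exact absurd rfl (no_odd hy).1
        | exact absurd rfl (no_odd hy).2.1
        | exact absurd rfl (no_odd hy).2.2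
  · simp only [Prod.mk.injEq]
    rintro (⟨rfl, rfl⟩ | ⟨rfl, rfl⟩ | ⟨rfl, rfl⟩ | ⟨rfl, rfl⟩)
    exacts [h6, h10, h14, h15]

end CfsgLib.SuzukiEight
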