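import Mathlib
import Cfsg.Agent.Lib.Suzuki.Tori
import Cfsg.Agent.Lib.Suzuki.Coset

/-!
# Transitive actions of the Suzuki group of fixity at most two
-/

set_option autoImplicit false
set_option linter.unusedSectionVars false

namespace CfsgLib.Suzuki

open MulAction

variable {F : Type*} [Field F] [Fintype F] [CharP F 2] {m : ℕ} [hP : Param F m]
variable {Ω : Type*} [MulAction (Gp F m) Ω]

/-- Of three elements mapping a point into a set of two points, two agree on it. -/
theorem two_agree {G α : Type*} [Group G] [MulAction G α] {S : Set α} [Finite α] (hS : S.ncard ≤ 2)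
    (a : α) {f : Fin 3 → G} (hf : ∀ i, f i • a ∈ S) : ∃ i j, i ≠ j ∧ ((f i)⁻¹ * f j) • a = a := by
  classical
  obtain ⟨i, j, hij, h⟩ : ∃ i j, i ≠ j ∧ f i • a = f j • a := by
    by_contra h
    push Not at h
    have hinj : Function.Injective fun i => f i • a := fun i j e => by
      by_contra hne
      exact h i j hne e
    have := Set.ncard_le_ncard (show Set.range (fun i => f i • a) ⊆ S by
      rintro _ ⟨i, rfl⟩; exact hf i)
    rw [Set.ncard_range_of_injective hinj, Nat.card_fin] at this
    omega
  exact ⟨i, j, hij, by rw [mul_smul, ← h, inv_smul_smul]⟩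

/-- An element of odd order stabilizing a set of two points fixes it pointwise. -/
theorem fix_of_odd {G α : Type*} [Group G] [Finite G] [MulAction G α] [Finite α] {S : Set α}
    (hS : S.ncard ≤ 2) {a : α} (ha : a ∈ S) {g : G} (hg : Odd (orderOf g))
    (hmap : ∀ s ∈ S, g • s ∈ S) : g • a = a := by
  have h2 : (g * g) • a = a := by
    by_contra hne
    have h1 : g • a ≠ a := fun e => hne (by rw [mul_smul, e, e])
    have h3 : (g * g) • a ≠ g • a := fun e => h1 (MulAction.injective g ((mul_smul g g a).symm.trans e))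
    have hsub : ({a, g • a, (g * g) • a} : Set α) ⊆ S := by
      rintro x (rfl | rfl | rfl)
      · exact ha
      · exact hmap _ ha
      · rw [mul_smul]; exact hmap _ (hmap _ ha)
    have h := Set.ncard_le_ncard hsub
    rw [Set.ncard_eq_three.2 ⟨_, _, _, Ne.symm h1, Ne.symm hne, Ne.symm h3, rfl⟩] at h
    omega
  obtain ⟨k, hk⟩ := hg
  have e : g = ((g * g) ^ (k + 1)) := by
    rw [← pow_two, ← pow_mul, show 2 * (k + 1) = (2 * k + 1) + 1 by ring, ← hk, pow_succ,
      pow_orderOf_eq_one, one_mul]
  rw [e]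
  exact (pow_mem (show g * g ∈ stabilizer G a from h2) (k + 1) : _ ∈ stabilizer G a)

variable (hfix : ∀ g : Gp F m, g ≠ 1 → Nat.card (fixedBy Ω g) ≤ 2)
variable [Finite Ω] {a : Ω}

theorem fixedBy_mapsTo {x g : Gp F m} (hg : g ∈ Subgroup.centralizer {x}) :
    ∀ s ∈ fixedBy Ω x, g • s ∈ fixedBy Ω x := by
  intro s hs
  rw [mem_fixedBy] at hs ⊢
  rw [← mul_smul, ← Subgroup.mem_centralizer_singleton_iff.1 hg, mul_smul, hs]

include hP hfix

theorem cent_le_stab {x : Gp F m} (hx1 : x ≠ 1) (hx : x • a = a) {g : Gp F m}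
    (hg : g ∈ Subgroup.centralizer {x}) (hodd : Odd (orderOf g)) : g • a = a :=
  fix_of_odd (S := fixedBy Ω x) ((Nat.card_coe_set_eq _).symm.trans_le (hfix x hx1)) hx hodd
    (fixedBy_mapsTo hg)

/-- If an involution of the centre of `U` fixes a point, so does the whole stabilizer of `∞`. -/
theorem borel_le_stab {b : F} (hb : b ≠ 0) (h : gT (m := m) 0 b • a = a) :
    stabilizer (Gp F m) (pinf F m) ≤ stabilizer (Gp F m) a := by
  have hS : (fixedBy Ω (gT (m := m) 0 b)).ncard ≤ 2 :=
    (Nat.card_coe_set_eq _).symm.trans_le (hfix _ fun e => hb (gT_inj (e.trans gT_zero.symm)).2)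
  have hUc : ∀ c d : F, gT (m := m) c d ∈ Subgroup.centralizer {gT (m := m) 0 b} := fun c d => by
    rw [Subgroup.mem_centralizer_singleton_iff, gT_mul, gT_mul]
    simp [add_comm]
  -- the squares
  have hZ : ∀ d : F, gT (m := m) 0 d • a = a := by
    intro d
    rcases eq_or_ne d 0 with rfl | hd
    · rw [gT_zero, one_smul]
    have hsurj : Function.Surjective fun k : Fˣ => Units.map (sg F m : F →* F) k * k :=
      Finite.surjective_of_injective fun k l h => by
        refine (div_eq_one.1 (Units.ext (eq_one_of_sg_mul_self hP.card ?_)))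
        have h' : sg F m (k : F) * k = sg F m (l : F) * l := congrArg Units.val h
        have hl : sg F m (l : F) * l ≠ 0 :=
          mul_ne_zero ((map_ne_zero (sg F m)).2 l.ne_zero) l.ne_zero
        rw [Units.val_div_eq_div_val, map_div₀, div_mul_div_comm, h', div_self hl]
    obtain ⟨k, hk⟩ := hsurj (Units.mk0 d hd)
    have hk' : sg F m (k : F) * k = d := congrArg Units.val hk
    rw [← hk', ← gT_sq (k : F) 0]
    set g := gT (m := m) (k : F) 0
    by_contra hne
    have h1 : g • a ≠ a := fun e => hne (by rw [mul_smul, e, e])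
    have hmap := fixedBy_mapsTo (Ω := Ω) (hUc (k : F) 0)
    have h3 : (g * g) • a ≠ g • a := fun e => h1 (MulAction.injective g ((mul_smul g g a).symm.trans e))
    have hsub : ({a, g • a, (g * g) • a} : Set Ω) ⊆ fixedBy Ω (gT (m := m) 0 b) := by
      rintro x (rfl | rfl | rfl)
      · exact h
      · exact hmap _ h
      · rw [mul_smul]; exact hmap _ (hmap _ h)
    have h' := (Set.ncard_le_ncard hsub).trans hS
    rw [Set.ncard_eq_three.2 ⟨_, _, _, Ne.symm h1, Ne.symm hne, Ne.symm h3, rfl⟩] at h'
    omega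
  -- the torus
  have hH : ∀ t : Fˣ, gH (m := m) t • a = a := by
    intro t
    set S : Set Ω := {s | ∀ d : F, gT (m := m) 0 d • s = s}
    refine fix_of_odd (S := S) (le_trans (Set.ncard_le_ncard fun s hs => hs b) hS) hZ ?_ ?_
    · rw [orderOf_injective _ gH_injective]
      refine Odd.of_dvd_nat (odd_card_sub_one (F := F) (m := m)) ?_
      classical
      rw [← Fintype.card_units]
      exact orderOf_dvd_card
    · intro s hs d
      have ht0 : sg F m (t : F) * (t : F) ^ 2 ≠ 0 :=
        mul_ne_zero ((map_ne_zero (sg F m)).2 t.ne_zero) (pow_ne_zero _ t.ne_zero)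
      have e : gH t * gT (m := m) 0 (d / (sg F m t * (t : F) ^ 2)) * (gH t)⁻¹ = gT 0 d := by
        rw [gH_conj_gT, mul_zero, mul_div_cancel₀ d ht0]
      rw [← e, mul_smul, mul_smul, inv_smul_smul, hs]
  -- a translation outside the centre
  obtain ⟨t, ht⟩ := exists_unit_ne_one (F := F) (m := m)
  obtain ⟨c, hc, d0, hcd⟩ : ∃ c : F, c ≠ 0 ∧ ∃ d, gT (m := m) c d • a = a := by
    obtain ⟨i, j, hij, hfix'⟩ := two_agree (S := fixedBy Ω (gT (m := m) 0 b)) hS a
      (f := fun i => gT (m := m) (![0, 1, (t : F)] i) 0) fun i => fixedBy_mapsTo (hUc _ 0) a h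
    have hinj : Function.Injective ![0, 1, (t : F)] := by
      intro i j hh
      fin_cases i <;> fin_cases j <;> simp at hh <;>
        first
        | rfl
        | exact absurd hh.symm t.ne_zero
        | exact absurd hh t.ne_zero
        | exact absurd hh ht
        | exact absurd hh.symm ht
        | exact absurd (Units.val_eq_one.1 hh) ht
        | exact absurd (Units.val_eq_one.1 hh.symm) ht
    rw [gT_inv, gT_mul] at hfix'
    refine ⟨_, fun e => hij (hinj ?_), _, hfix'⟩
    have h2 : (2 : F) = 0 := two_eq_zero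
    linear_combination e - (![0, 1, (t : F)] j) * h2
  intro g hg
  obtain ⟨x, y, s, rfl⟩ := exists_eq_gT_mul_gH (mem_stabilizer_iff.1 hg)
  rw [mem_stabilizer_iff, mul_smul, hH]
  rcases eq_or_ne x 0 with rfl | hx
  · exact hZ y
  obtain ⟨u, hu⟩ := (sg_surjective (F := F) (m := m) hP.card) (x / c)
  have hu0 : u ≠ 0 := fun e => by
    rw [e, map_zero] at hu
    exact (div_ne_zero hx hc) hu.symm
  have e := gH_conj_gT (m := m) (Units.mk0 u hu0) c d0
  rw [Units.val_mk0, hu, div_mul_cancel₀ x hc] at e
  have hfx : gT (m := m) x (x / c * u ^ 2 * d0) • a = a := by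
    rw [← e, mul_smul, mul_smul, inv_smul_eq_iff.2 (hH (Units.mk0 u hu0)).symm, hcd, hH]
  have e2 : gT (m := m) x y = gT x (x / c * u ^ 2 * d0) * gT 0 (y + x / c * u ^ 2 * d0) := by
    rw [gT_mul]
    have h2 : (2 : F) = 0 := two_eq_zero
    congr 1
    · simp
    · linear_combination -(x / c * u ^ 2 * d0) * h2
  rw [e2, mul_smul, hZ, hfx]

/-- The stabilizers of an action of fixity at most two. -/
theorem stab_cases [FaithfulSMul (Gp F m) Ω] [IsPretransitive (Gp F m) Ω]
    (hne : stabilizer (Gp F m) a ≠ ⊥) (hnt : stabilizer (Gp F m) a ≠ ⊤) :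
    (∃ b : Ω, stabilizer (Gp F m) b = stabilizer (Gp F m) (pinf F m)) ∨
      Nat.card ↥(stabilizer (Gp F m) a) = Fintype.card F - 1 := by
  set K := stabilizer (Gp F m) a
  by_cases h2 : 2 ∣ Nat.card K
  · left
    have : Fact (Nat.Prime 2) := ⟨Nat.prime_two⟩
    obtain ⟨⟨z, hz⟩, hzo⟩ := exists_prime_orderOf_dvd_card' 2 h2
    rw [Subgroup.orderOf_mk] at hzo
    obtain ⟨g, c, b, hgb⟩ := exists_conj_mem_grpU (k := 1) (x := z) (by rw [pow_one]; exact hzo)
    have hc : c = 0 := by
      have h1 : gT (m := m) c b * gT c b = 1 := by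
        rw [← hgb, show g * z * g⁻¹ * (g * z * g⁻¹) = g * (z * z) * g⁻¹ by group, ← pow_two z, ← hzo,
          pow_orderOf_eq_one, mul_one, mul_inv_cancel]
      rw [gT_sq, ← gT_zero] at h1
      rcases mul_eq_zero.1 (gT_inj h1).2 with h | h
      · exact (map_eq_zero (sg F m)).1 h
      · exact h
    subst hc
    have hb : b ≠ 0 := fun e => by
      rw [e, gT_zero, conj_eq_one_iff] at hgb
      rw [hgb, orderOf_one] at hzo
      omega
    have hle := borel_le_stab (a := g • a) hfix hb (by
      rw [← hgb, mul_smul, mul_smul, inv_smul_smul, mem_stabilizer_iff.1 hz])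
    refine ⟨g • a, le_antisymm ?_ hle⟩
    intro k hk
    by_contra hk'
    apply hnt
    have htop : stabilizer (Gp F m) (g • a) = ⊤ := by
      have := isPreprimitive_of_is_two_pretransitive (two_transitive (F := F) (m := m))
      have : Nontrivial (Pts F m) := ⟨⟨_, _, paff_ne_pinf (m := m) (0 : F) 0⟩⟩
      exact (IsPreprimitive.isCoatom_stabilizer_of_isPreprimitive (G := Gp F m) (pinf F m)).2 _
        (lt_of_le_of_ne hle fun e => hk' (e ▸ hk))
    rw [eq_top_iff]
    intro y _
    have hy : g * y * g⁻¹ ∈ stabilizer (Gp F m) (g • a) := htop ▸ Subgroup.mem_top _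
    rw [mem_stabilizer_iff, mul_smul, mul_smul, inv_smul_smul, smul_left_cancel_iff] at hy
    exact hy
  · right
    have hodd : ∀ g ∈ K, Odd (orderOf g) := fun g hg =>
      Nat.odd_iff.2 (Nat.two_dvd_ne_zero.1 fun h => h2 (h.trans (Subgroup.orderOf_dvd_natCard _ hg)))
    have hnoT : ∀ p, p.Prime → p ∣ Nat.card K → p ∣ Fintype.card F - 1 := by
      intro p hp hd
      rcases prime_dvd_card hp (hd.trans (Subgroup.card_subgroup_dvd_card K)) with h | h | h
      · exact absurd (h ▸ hd) h2
      · exact h
      · exfalso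
        have := Fact.mk hp
        obtain ⟨⟨x, hx⟩, hxo⟩ := exists_prime_orderOf_dvd_card' p hd
        rw [Subgroup.orderOf_mk] at hxo
        have hT : IsT x := ⟨p, hp, h, hxo⟩
        have hA : ∀ y ∈ Subgroup.centralizer {x}, y • a = a := fun y hy =>
          cent_le_stab hfix hT.ne_one hx hy (Odd.of_dvd_nat (odd_card_sq_add_one (F := F) (m := m))
            ((Subgroup.orderOf_dvd_natCard _ hy).trans hT.card_cent_dvd))
        obtain ⟨n, -, hN, -⟩ := hT.card_TS
        obtain ⟨x', k', hx', hk', -, hall, hN4, -⟩ := exists_tori F m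
        -- the normalizer has order `4 |A|`
        have h4 : 4 ∣ Nat.card ↥(Subgroup.normalizer
            ((Subgroup.centralizer {x} : Subgroup (Gp F m)) : Set (Gp F m))) := by
          have key : ∀ y, IsT y → x ∈ TS y →
              Nat.card ↥(Subgroup.normalizer ((Subgroup.centralizer {y} : Subgroup (Gp F m)) :
                Set (Gp F m))) = 4 * Nat.card ↥(Subgroup.centralizer {y}) →
              4 ∣ Nat.card ↥(Subgroup.normalizer
                ((Subgroup.centralizer {x} : Subgroup (Gp F m)) : Set (Gp F m))) := by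
            intro y hy hxy hNy
            obtain ⟨g, hg, hg1⟩ := hxy
            have e1 : Subgroup.centralizer {y} =
                (Subgroup.centralizer {x}).map (MulAut.conj g).toMonoidHom := by
              rw [← hy.cent_eq hg hg1]
              ext c
              rw [Subgroup.mem_map_equiv, CfsgLib.Ree.centralizer_conj_iff]
              simp [MulAut.conj_symm_apply]
            rw [e1, ← Subgroup.map_equiv_normalizer_eq, Subgroup.card_map_of_injective
              (MulAut.conj g).injective] at hNy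
            exact hNy ▸ dvd_mul_right 4 _
          have hxs : x ∈ singT F m := ⟨hT.ne_one, hxo ▸ h⟩
          rcases hall x hxs with hh | hh
          · exact key x' hx' hh (hN4 x' (by simp))
          · exact key k' hk' hh (hN4 k' (by simp))
        set N := Subgroup.normalizer ((Subgroup.centralizer {x} : Subgroup (Gp F m)) : Set (Gp F m))
        have : Fact (Nat.Prime 2) := ⟨Nat.prime_two⟩
        obtain ⟨Q, hQ⟩ := Sylow.exists_subgroup_card_pow_prime (G := N) 2 (n := 2) h4
        classical
        let _ : Fintype Q := Fintype.ofFinite Q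
        obtain ⟨f⟩ : Nonempty (Fin 3 ↪ Q) := Function.Embedding.nonempty_of_card_le (by
          rw [Fintype.card_fin, ← Nat.card_eq_fintype_card, hQ]; norm_num)
        set S : Set Ω := {s | ∀ y ∈ Subgroup.centralizer {x}, y • s = s}
        have hSle : S.ncard ≤ 2 := le_trans (Set.ncard_le_ncard fun s hs => hs x (self_mem_cent x))
          ((Nat.card_coe_set_eq _).symm.trans_le (hfix x hT.ne_one))
        obtain ⟨i, j, hij, hagree⟩ := two_agree hSle a (f := fun i => ((f i : N) : Gp F m)) fun i => by
          intro y hy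
          have hy' := (Subgroup.mem_normalizer_iff.1 (inv_mem (f i : N).2) y).1 hy
          rw [inv_inv] at hy'
          have h' := hA _ hy'
          rwa [mul_smul, mul_smul, inv_smul_eq_iff] at h'
        set u : Q := (f i)⁻¹ * f j
        have hu1 : u ≠ 1 := fun e => hij (f.injective (inv_mul_eq_one.1 e))
        have huK : ((u : N) : Gp F m) ∈ K := hagree
        have ho : orderOf u ∣ 4 := by
          have := orderOf_dvd_natCard u
          rwa [hQ] at this
        have ho' := hodd _ huK
        rw [Subgroup.orderOf_coe, Subgroup.orderOf_coe] at ho'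
        exact hu1 (orderOf_eq_one_iff.1 (Nat.eq_one_of_dvd_coprimes
          (coprime_two_pow (F := F) (m := m) (k := 2) ho') dvd_rfl ho))
    -- `K` has order dividing `q - 1` and contains a torus
    have hcop : (Nat.card K).Coprime (Fintype.card F ^ 2 * (Fintype.card F ^ 2 + 1)) :=
      Nat.coprime_of_dvd fun p hp h1 h3 => hp.ne_one
        (Nat.eq_one_of_dvd_coprimes (coprime_card_sub_one (F := F) (m := m)) (hnoT p hp h1) h3)
    have hdvd : Nat.card K ∣ Fintype.card F - 1 := by
      have := Subgroup.card_subgroup_dvd_card K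
      rw [card_group_split, natCard_grpH] at this
      exact hcop.dvd_of_dvd_mul_right this
    obtain ⟨p, hp, hpd⟩ := Nat.exists_prime_and_dvd
      (show Nat.card K ≠ 1 from fun e => hne (Subgroup.eq_bot_of_card_eq _ e))
    have := Fact.mk hp
    obtain ⟨⟨x, hx⟩, hxo⟩ := exists_prime_orderOf_dvd_card' p hpd
    rw [Subgroup.orderOf_mk] at hxo
    have hx1 := ne_one_of_prime hp hxo
    obtain ⟨h, hh⟩ := exists_conj_grpH hp (hnoT p hp hpd) hxo
    have hle : (grpH F m).map (MulAut.conj h⁻¹).toMonoidHom ≤ K := by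
      rw [Subgroup.map_le_iff_le_comap]
      intro k hk
      show h⁻¹ * k * h⁻¹⁻¹ ∈ K
      refine cent_le_stab hfix hx1 hx ?_ ?_
      · have hk' : k ∈ Subgroup.centralizer {h * x * h⁻¹} := by
          rw [centralizer_gH hh (conj_ne_one (F := F) (m := m) hx1 h)]
          exact hk
        rw [inv_inv]
        exact (CfsgLib.Ree.centralizer_conj_iff h x k).1 hk'
      · rw [CfsgLib.Ree.orderOf_conj']
        exact Odd.of_dvd_nat (odd_card_sub_one (F := F) (m := m))
          (natCard_grpH (F := F) (m := m) ▸ Subgroup.orderOf_dvd_natCard _ hk)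
    refine Nat.dvd_antisymm hdvd ?_
    have := Subgroup.card_dvd_of_le hle
    rwa [Subgroup.card_map_of_injective (MulAut.conj h⁻¹).injective, natCard_grpH] at this

/-- The classification of faithful transitive actions of fixity two. -/
theorem fixity_two [FaithfulSMul (Gp F m) Ω] [IsPretransitive (Gp F m) Ω] {g : Gp F m} (hg : g ≠ 1)
    (hga : g • a = a) :
    (Nat.card Ω = Fintype.card F ^ 2 + 1 ∧ IsMultiplyPretransitive (Gp F m) Ω 2) ∨
      Nat.card Ω = Fintype.card F ^ 2 * (Fintype.card F ^ 2 + 1) ∧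
        ∀ b : Ω, Nat.card ↥(stabilizer (Gp F m) b) = Fintype.card F - 1 := by
  have hnt : stabilizer (Gp F m) a ≠ ⊤ := fun h => hg (eq_of_smul_eq_smul (α := Ω) fun b => by
    obtain ⟨k, rfl⟩ := exists_smul_eq (Gp F m) a b
    have h1 : (k⁻¹ * g * k) • a = a := mem_stabilizer_iff.1 (h ▸ Subgroup.mem_top _)
    rw [mul_smul, mul_smul, inv_smul_eq_iff] at h1
    rw [h1, one_smul])
  have hidx : ∀ b : Ω, Nat.card Ω * Nat.card ↥(stabilizer (Gp F m) b) = Nat.card (Gp F m) := fun b => by
    rw [← index_stabilizer_of_transitive (Gp F m) b]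
    exact Subgroup.index_mul_card _
  have hpos : 0 < Fintype.card F - 1 := by have := eight_le_card (F := F) (m := m); omega
  rcases stab_cases hfix (fun h => hg (by
      have : g ∈ stabilizer (Gp F m) a := hga
      rw [h] at this
      exact this)) hnt with ⟨b, hb⟩ | hK
  · left
    have hc := hidx b
    rw [hb, natCard_stab, natCard_group] at hc
    refine ⟨Nat.eq_of_mul_eq_mul_right (Nat.mul_pos (pow_pos Fintype.card_pos 2) hpos)
      (hc.trans (by ring)), ?_⟩
    rw [is_two_pretransitive_iff]
    have key : ∀ x : Ω, x ≠ b → ∀ p : Gp F m, p • b = x → p • pinf F m ≠ pinf F m := by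
      intro x hx p hp e
      refine hx (hp ▸ ?_)
      have : p ∈ stabilizer (Gp F m) b := hb ▸ e
      exact this
    intro x y x' y' hxy hxy'
    obtain ⟨p, rfl⟩ := exists_smul_eq (Gp F m) b x
    obtain ⟨r, rfl⟩ := exists_smul_eq (Gp F m) b y
    obtain ⟨p', rfl⟩ := exists_smul_eq (Gp F m) b x'
    obtain ⟨r', rfl⟩ := exists_smul_eq (Gp F m) b y'
    have inj : ∀ p r : Gp F m, p • pinf F m = r • pinf F m → p • b = r • b := fun p r e => by
      have h1 : r⁻¹ * p ∈ stabilizer (Gp F m) b := by
        rw [hb, mem_stabilizer_iff, mul_smul, e, inv_smul_smul]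
      rw [mem_stabilizer_iff, mul_smul, inv_smul_eq_iff] at h1
      exact h1
    obtain ⟨k, h1, h2⟩ : ∃ k : Gp F m, k • (p • pinf F m) = p' • pinf F m ∧
        k • (r • pinf F m) = r' • pinf F m :=
      is_two_pretransitive_iff.1 two_transitive (fun e => hxy (inj _ _ e)) (fun e => hxy' (inj _ _ e))
    exact ⟨k, by rw [← mul_smul]; exact inj _ _ (by rw [mul_smul, h1]),
      by rw [← mul_smul]; exact inj _ _ (by rw [mul_smul, h2])⟩
  · right
    have hc := hidx a
    rw [hK, natCard_group] at hc
    have hΩ : Nat.card Ω = Fintype.card F ^ 2 * (Fintype.card F ^ 2 + 1) :=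
      Nat.eq_of_mul_eq_mul_right hpos hc
    refine ⟨hΩ, fun b => ?_⟩
    have hb := hidx b
    rw [hΩ, natCard_group] at hb
    exact Nat.eq_of_mul_eq_mul_left (by positivity) hb

end CfsgLib.Suzuki
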