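import Mathlib
import Cfsg.Agent.Lib.Suzuki.Tori

/-!
# The minimal degree of a faithful representation of the Suzuki group
-/

set_option autoImplicit false
set_option linter.unusedSectionVars false

namespace CfsgLib.Suzuki.MinDeg

open Module

/-- The dimensions of independent subspaces add up to at most the dimension. -/
theorem sum_finrank_le {K V ι : Type*} [Field K] [AddCommGroup V] [Module K V]
    [FiniteDimensional K V] {W : ι → Submodule K V} (h : iSupIndep W) (s : Finset ι) :
    ∑ i ∈ s, finrank K (W i) ≤ finrank K ↥(s.sup W) := by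
  classical
  induction s using Finset.induction_on with
  | empty => simp
  | @insert i t hi ih =>
    rw [Finset.sum_insert hi, Finset.sup_insert]
    have hd : Disjoint (W i) (t.sup W) := by
      refine (h i).mono_right (Finset.sup_le fun j hj => ?_)
      exact le_iSup₂_of_le j (fun e => hi (e ▸ hj)) le_rfl
    have e := Submodule.finrank_sup_add_finrank_inf_eq (W i) (t.sup W)
    rw [hd.eq_bot, finrank_bot] at e
    omega

/-- Commuting involutions have a common eigenvector. -/
theorem exists_joint {V ι : Type*} [AddCommGroup V] [Module ℂ V] [Fintype ι]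
    (Z : ι → End ℂ V) (hsq : ∀ i v, Z i (Z i v) = v) (hc : ∀ i j v, Z i (Z j v) = Z j (Z i v))
    {i0 : ι} {w : V} (hw : w ≠ 0) (hw0 : Z i0 w = -w) :
    ∃ v, v ≠ 0 ∧ Z i0 v = -v ∧ ∀ i, Z i v = v ∨ Z i v = -v := by
  classical
  suffices ∀ s : Finset ι, ∃ v, v ≠ 0 ∧ Z i0 v = -v ∧ ∀ i ∈ s, Z i v = v ∨ Z i v = -v by
    obtain ⟨v, h1, h2, h3⟩ := this Finset.univ
    exact ⟨v, h1, h2, fun i => h3 i (Finset.mem_univ i)⟩
  intro s
  induction s using Finset.induction_on with
  | empty => exact ⟨w, hw, hw0, by simp⟩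
  | @insert j t hj ih =>
    obtain ⟨v, hv, hv0, hvs⟩ := ih
    by_cases h : v + Z j v = 0
    · refine ⟨v, hv, hv0, fun i hi => ?_⟩
      rcases Finset.mem_insert.1 hi with rfl | hi
      · exact Or.inr (eq_neg_of_add_eq_zero_right h)
      · exact hvs i hi
    · refine ⟨v + Z j v, h, ?_, fun i hi => ?_⟩
      · rw [map_add, hv0, hc, hv0, map_neg, neg_add]
      · rcases Finset.mem_insert.1 hi with rfl | hi
        · left; rw [map_add, hsq, add_comm]
        · rcases hvs i hi with e | e
          · left; rw [map_add, e, hc, e]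
          · right; rw [map_add, e, hc, e, map_neg, neg_add]

variable {F : Type*} [Field F] [Fintype F] [CharP F 2] {m : ℕ} [hP : Param F m]

variable (m) in
/-- The commutator pairing of the translations. -/
def pair (a c : F) : F := sg F m a * c + sg F m c * a

theorem pair_comm (a c : F) : pair m a c = pair m c a := add_comm _ _

theorem pair_add (a c d : F) : pair m a (c + d) = pair m a c + pair m a d := by
  simp only [pair, map_add]; ring

theorem pair_scale (k a c : F) : pair m (k * a) (k * c) = sg F m k * k * pair m a c := by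
  simp only [pair, map_mul]; ring

/-- A nontrivial character with values `±1` of the additive group. -/
structure Sign (l : F → ℂ) : Prop where
  add : ∀ x y, l (x + y) = l x * l y
  val : ∀ x, l x = 1 ∨ l x = -1
  nontriv : ∃ x, l x = -1

theorem Sign.zero {l : F → ℂ} (hl : Sign l) : l 0 = 1 := by
  have h := hl.add 0 0
  rw [add_zero] at h
  rcases hl.val 0 with e | e <;> rw [e] at h ⊢
  norm_num at h

theorem Sign.scale {l : F → ℂ} (hl : Sign l) {s : F} (hs : s ≠ 0) : Sign fun x => l (s * x) :=
  ⟨fun x y => by rw [mul_add, hl.add], fun x => hl.val _, by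
    obtain ⟨x, hx⟩ := hl.nontriv
    exact ⟨x / s, by rw [mul_div_cancel₀ x hs, hx]⟩⟩

/-- The additive kernel of a sign character. -/
def sker {l : F → ℂ} (hl : Sign l) : AddSubgroup F where
  carrier := {x | l x = 1}
  zero_mem' := hl.zero
  add_mem' {x y} hx hy := by
    show l (x + y) = 1
    rw [hl.add, hx, hy, one_mul]
  neg_mem' {x} hx := by
    show l (-x) = 1
    rw [CharTwo.neg_eq]; exact hx

theorem two_mul_card_sker {l : F → ℂ} (hl : Sign l) : 2 * Nat.card (sker hl) = Fintype.card F := by
  obtain ⟨x0, hx0⟩ := hl.nontriv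
  have hset : (Set.univ : Set F) = (sker hl : Set F) ∪ (fun x => x0 + x) '' (sker hl : Set F) := by
    refine (Set.eq_univ_of_forall fun x => ?_).symm
    rcases hl.val x with h | h
    · exact Or.inl h
    · refine Or.inr ⟨x0 + x, ?_, ?_⟩
      · show l (x0 + x) = 1
        rw [hl.add, hx0, h]; norm_num
      · show x0 + (x0 + x) = x
        rw [← add_assoc, CharTwo.add_self_eq_zero, zero_add]
  have hd : Disjoint (sker hl : Set F) ((fun x => x0 + x) '' (sker hl : Set F)) := by
    rw [Set.disjoint_left]
    rintro _ hx ⟨y, hy, rfl⟩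
    change l (x0 + y) = 1 at hx
    change l y = 1 at hy
    rw [hl.add, hx0, hy] at hx
    norm_num at hx
  have h := congrArg Set.ncard hset
  rw [Set.ncard_univ, Set.ncard_union_eq hd, Set.ncard_image_of_injective _ (add_right_injective x0),
    Nat.card_eq_fintype_card] at h
  rw [h, two_mul]
  rfl

theorem sign_eq {l l' : F → ℂ} (hl : Sign l) (hl' : Sign l') (h : sker hl = sker hl') : l = l' := by
  funext x
  rcases hl.val x with e | e
  · rw [e]; exact (show x ∈ sker hl' from h ▸ e).symm
  · rcases hl'.val x with e' | e'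
    · have : x ∈ sker hl := h ▸ (show x ∈ sker hl' from e')
      exact (show l x = 1 from this).trans e'.symm
    · rw [e, e']

include hP

/-- At most one multiple of a sign character kills the pairing with a given nonzero element. -/
theorem scale_unique {l : F → ℂ} (hl : Sign l) {a : F} (ha : a ≠ 0) {s s' : F} (hs : s ≠ 0)
    (hs' : s' ≠ 0) (h : ∀ c, l (s * pair m a c) = 1) (h' : ∀ c, l (s' * pair m a c) = 1) :
    s = s' := by
  let L : F →+ F := AddMonoidHom.mk' (pair m a) (pair_add a)
  have hker : Nat.card L.ker ≤ 2 := by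
    have hsub : (L.ker : Set F) ⊆ {0, a} := by
      intro c hc
      change pair m a c = 0 at hc
      rcases eq_or_ne c 0 with h0 | h0
      · exact Or.inl h0
      refine Or.inr ?_
      show c = a
      simp only [pair] at hc
      have hc' : sg F m a * c = sg F m c * a := by
        rw [add_eq_zero_iff_eq_neg, CharTwo.neg_eq] at hc; exact hc
      have e : sg F m (c / a) = c / a := by
        rw [map_div₀, div_eq_div_iff ((map_ne_zero (sg F m)).2 ha) ha]
        linear_combination -hc'
      rcases sg_fix hP.card e with e' | e'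
      · exact absurd e' (div_ne_zero h0 ha)
      · exact (div_eq_one_iff_eq ha).1 e'
    exact (Nat.card_coe_set_eq _).trans_le ((Set.ncard_le_ncard hsub).trans
      ((Set.ncard_insert_le _ _).trans (by simp)))
  have hrange : Fintype.card F ≤ 2 * Nat.card L.range := by
    rw [← Nat.card_eq_fintype_card, AddSubgroup.card_eq_card_quotient_mul_card_addSubgroup L.ker,
      Nat.card_congr (QuotientAddGroup.quotientKerEquivRange L).toEquiv, mul_comm 2]
    exact Nat.mul_le_mul_left _ hker
  have key : ∀ t (ht : t ≠ 0), (∀ c, l (t * pair m a c) = 1) → L.range = sker (hl.scale ht) := by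
    intro t ht hh
    refine AddSubgroup.eq_of_le_of_card_ge (fun x hx => ?_) ?_
    · obtain ⟨c, rfl⟩ := hx; exact hh c
    · have := two_mul_card_sker (hl.scale (s := t) ht)
      omega
  have e := sign_eq _ _ ((key s hs h).symm.trans (key s' hs' h'))
  by_contra hne
  obtain ⟨x, hx⟩ := hl.nontriv
  have hss : s + s' ≠ 0 := fun e' => hne (by rwa [add_eq_zero_iff_eq_neg, CharTwo.neg_eq] at e')
  have := congrFun e (x / (s + s'))
  have h1 : l ((s + s') * (x / (s + s'))) = 1 := by
    rw [add_mul, hl.add]
    rw [show l (s * (x / (s + s'))) = l (s' * (x / (s + s'))) from this]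
    rcases hl.val (s' * (x / (s + s'))) with e' | e' <;> rw [e'] <;> norm_num
  rw [mul_div_cancel₀ x hss, hx] at h1
  norm_num at h1

/-- The radical of the pairing seen through a character. -/
def rad {l : F → ℂ} (hl : Sign l) : AddSubgroup F where
  carrier := {a | ∀ c, l (pair m a c) = 1}
  zero_mem' c := by simp [pair, hl.zero]
  add_mem' {a b} ha hb c := by
    rw [pair_comm, pair_add, hl.add, pair_comm c a, pair_comm c b, ha c, hb c, one_mul]
  neg_mem' {a} ha := by rw [CharTwo.neg_eq]; exact ha

theorem card_rad_le {l : F → ℂ} (hl : Sign l) : Nat.card (rad (m := m) hl) ≤ 2 := by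
  classical
  let h : (Fˣ × {a : rad (m := m) hl // a ≠ 0}) → {x : F // x ≠ 0} := fun p =>
    ⟨(p.1 : F) * (p.2.1 : F), mul_ne_zero p.1.ne_zero fun e => p.2.2 (Subtype.ext e)⟩
  have hinj : Function.Injective h := by
    rintro ⟨u, a⟩ ⟨u', a'⟩ e
    have e' : (u : F) * (a.1 : F) = (u' : F) * (a'.1 : F) := congrArg Subtype.val e
    have hn : ∀ v : Fˣ, sg F m (v : F) * v ≠ 0 := fun v =>
      mul_ne_zero ((map_ne_zero (sg F m)).2 v.ne_zero) v.ne_zero
    have key : ∀ (v : Fˣ) (b : rad (m := m) hl) (c : F),
        l ((sg F m (v : F) * v)⁻¹ * pair m ((v : F) * (b : F)) c) = 1 := fun v b c => by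
      have e2 := pair_scale (m := m) (v : F) (b : F) (c / v)
      rw [mul_div_cancel₀ c v.ne_zero] at e2
      rw [e2, inv_mul_cancel_left₀ (hn v)]
      exact b.2 _
    have hne : (u : F) * (a.1 : F) ≠ 0 := mul_ne_zero u.ne_zero fun e => a.2 (Subtype.ext e)
    have hs := scale_unique hl hne (inv_ne_zero (hn u)) (inv_ne_zero (hn u')) (key u a.1)
      (fun c => e' ▸ key u' a'.1 c)
    have hu : u = u' := by
      refine (div_eq_one.1 (Units.ext (eq_one_of_sg_mul_self hP.card ?_)))
      rw [Units.val_div_eq_div_val, map_div₀, div_mul_div_comm, inv_inj.1 hs, div_self (hn u')]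
    subst hu
    exact Prod.ext rfl (Subtype.ext (Subtype.ext (mul_left_cancel₀ u.ne_zero e')))
  have h1 := Nat.card_le_card_of_injective h hinj
  have e1 : Nat.card {x : F // x ≠ 0} = Fintype.card F - 1 := by
    rw [← Nat.card_congr unitsEquivNeZero, Nat.card_units, Nat.card_eq_fintype_card]
  have e2 : Nat.card {a : rad (m := m) hl // a ≠ 0} = Nat.card (rad (m := m) hl) - 1 := by
    rw [show Nat.card {a : rad (m := m) hl // a ≠ 0} =
      (({0} : Set (rad (m := m) hl))ᶜ).ncard from Nat.card_coe_set_eq _, Set.ncard_compl,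
      Set.ncard_singleton]
  rw [Nat.card_prod, e1, e2, Nat.card_units, Nat.card_eq_fintype_card (α := F)] at h1
  have h8 := eight_le_card (F := F) (m := m)
  have := Nat.le_of_mul_le_mul_left (h1.trans_eq (Nat.mul_one _).symm) (by omega)
  omega

theorem sum_sign {l : F → ℂ} (hl : Sign l) : ∑ b, l b = 0 := by
  obtain ⟨x, hx⟩ := hl.nontriv
  have h : ∑ b, l b = -∑ b, l b := by
    calc ∑ b, l b = ∑ b, l (x + b) := (Equiv.sum_comp (Equiv.addLeft x) l).symm
      _ = _ := by simp [hl.add, hx]
  linear_combination h / 2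

variable {V : Type*} [AddCommGroup V] [Module ℂ V] [FiniteDimensional ℂ V]
  (ρ : Gp F m →* End ℂ V)

/-- The eigenspace of a function on the central translations. -/
def eig (l : F → ℂ) : Submodule ℂ V :=
  ⨅ b, LinearMap.ker (ρ (gT 0 b) - l b • (1 : End ℂ V))

theorem mem_eig {l : F → ℂ} {v : V} : v ∈ eig ρ l ↔ ∀ b, ρ (gT 0 b) v = l b • v := by
  simp [eig, Submodule.mem_iInf, LinearMap.mem_ker, sub_eq_zero]

theorem apply_mul' (g h : Gp F m) (v : V) : ρ g (ρ h v) = ρ (g * h) v := by
  rw [map_mul]; rfl

theorem trans_mapsTo (a : F) {l : F → ℂ} :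
    ∀ v ∈ eig ρ l, ρ (gT a 0) v ∈ eig ρ l := by
  intro v hv
  rw [mem_eig] at hv ⊢
  intro b
  rw [apply_mul', show gT (m := m) 0 b * gT a 0 = gT a 0 * gT 0 b by
    rw [gT_mul, gT_mul]; simp, ← apply_mul', hv, map_smul]

/-- A nonzero eigenspace of a sign character has dimension at least `2^m`. -/
theorem le_finrank_eig {l : F → ℂ} (hl : Sign l) (hne : eig ρ l ≠ ⊥) :
    2 ^ m ≤ finrank ℂ (eig ρ l) := by
  classical
  let T : F → End ℂ (eig ρ l) := fun a => (ρ (gT a 0)).restrict (trans_mapsTo ρ a)
  have hTcoe : ∀ a (v : eig ρ l), (T a v : V) = ρ (gT a 0) v := fun _ _ => rfl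
  have hTinj : ∀ a, Function.Injective (T a) := fun a v w h => Subtype.ext (by
    have h' : ρ (gT a 0) (v : V) = ρ (gT a 0) (w : V) := congrArg Subtype.val h
    have := congrArg (ρ (gT a 0)⁻¹) h'
    rwa [apply_mul', apply_mul', inv_mul_cancel, map_one] at this)
  have hcomm : ∀ a c v, T c (T a v) = l (pair m a c) • T a (T c v) := fun a c v => Subtype.ext (by
    simp only [Submodule.coe_smul, hTcoe, apply_mul']
    rw [show gT (m := m) c 0 * gT a 0 = gT 0 (pair m a c) * (gT a 0 * gT c 0) by
      rw [gT_mul, gT_mul, gT_mul]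
      congr 1
      · ring
      · simp only [map_zero, pair]
        linear_combination (-(sg F m a * c)) * two_eq_zero (F := F),
      ← apply_mul', (mem_eig ρ).1 ?_ (pair m a c)]
    rw [← apply_mul']
    exact trans_mapsTo ρ a _ (trans_mapsTo ρ c _ v.2))
  let rep : F ⧸ rad (m := m) hl → F := Quotient.out
  let _ : Fintype (F ⧸ rad (m := m) hl) := Fintype.ofFinite _
  have hrep : ∀ i j, i ≠ j → ∑ c, l (pair m (rep i + rep j) c) = 0 := by
    intro i j hij
    have hnot : ∃ c, l (pair m (rep i + rep j) c) = -1 := by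
      by_contra hcon
      push Not at hcon
      refine hij ?_
      rw [← QuotientAddGroup.out_eq' i, ← QuotientAddGroup.out_eq' j, QuotientAddGroup.eq,
        CharTwo.neg_eq]
      exact fun c => (hl.val _).resolve_right (hcon c)
    exact sum_sign (m := m) (l := fun c => l (pair m (rep i + rep j) c))
      ⟨fun x y => by rw [pair_add, hl.add], fun x => hl.val _, hnot⟩
  have hind : LinearIndependent ℂ fun i => T (rep i) := by
    rw [Fintype.linearIndependent_iff]
    intro g hg j
    have h1 : ∀ c : F, ∑ i, (g i * l (pair m (rep i) c)) • T (rep i) = 0 := by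
      intro c
      refine LinearMap.ext fun w => ?_
      obtain ⟨v, rfl⟩ := (LinearMap.injective_iff_surjective.1 (hTinj c)) w
      have := congrArg (T c) (LinearMap.congr_fun hg v)
      rw [LinearMap.zero_apply, map_zero, LinearMap.sum_apply, map_sum] at this
      rw [LinearMap.zero_apply, LinearMap.sum_apply, ← this]
      refine Finset.sum_congr rfl fun i _ => ?_
      rw [LinearMap.smul_apply, LinearMap.smul_apply, map_smul, hcomm, smul_smul, pair_comm c]
      congr 1
      rcases hl.val (pair m (rep i) c) with e | e <;> rw [e] <;> ring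
    have h2 : ∑ c : F, l (pair m (rep j) c) • ∑ i, (g i * l (pair m (rep i) c)) • T (rep i) = 0 :=
      Finset.sum_eq_zero fun c _ => by rw [h1, smul_zero]
    simp only [Finset.smul_sum, smul_smul] at h2
    rw [Finset.sum_comm] at h2
    simp only [← Finset.sum_smul] at h2
    rw [Finset.sum_eq_single j] at h2
    · rcases smul_eq_zero.1 h2 with h | h
      · have e : ∀ c, l (pair m (rep j) c) * (g j * l (pair m (rep j) c)) = g j := fun c => by
          rcases hl.val (pair m (rep j) c) with e | e <;> rw [e] <;> ring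
        simp only [e, Finset.sum_const, Finset.card_univ, nsmul_eq_mul, mul_eq_zero,
          Nat.cast_eq_zero, Fintype.card_ne_zero, false_or] at h
        exact h
      · exfalso
        obtain ⟨v, hv, hv0⟩ := (Submodule.ne_bot_iff _).1 hne
        exact hv0 (congrArg Subtype.val (hTinj (rep j) (a₁ := ⟨v, hv⟩) (a₂ := 0)
          (by rw [h, LinearMap.zero_apply, LinearMap.zero_apply])))
    · intro i _ hij
      have : ∀ c, l (pair m (rep j) c) * (g i * l (pair m (rep i) c)) =
          g i * l (pair m (rep i + rep j) c) := fun c => by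
        rw [pair_comm (rep i + rep j), pair_add, hl.add, pair_comm c, pair_comm c]
        ring
      rw [Finset.sum_congr rfl fun c _ => this c, ← Finset.mul_sum, hrep i j hij, mul_zero, zero_smul]
    · simp
  have h1 := hind.fintype_card_le_finrank
  rw [Module.finrank_linearMap] at h1
  have h2 := AddSubgroup.card_eq_card_quotient_mul_card_addSubgroup (rad (m := m) hl)
  rw [Nat.card_eq_fintype_card, Nat.card_eq_fintype_card (α := F ⧸ _), hP.card] at h2
  have h3 := card_rad_le (m := m) hl
  have h4 : 2 ^ (2 * m + 1) ≤ Fintype.card (F ⧸ rad (m := m) hl) * 2 :=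
    h2.le.trans (Nat.mul_le_mul_left _ h3)
  rw [pow_succ, mul_comm 2 m, pow_mul] at h4
  refine (Nat.pow_le_pow_iff_left two_ne_zero).1 ?_
  rw [pow_two (finrank ℂ _)]
  omega

/-- The bound on the degree. -/
theorem degree_bound {b0 : F} (hb : ρ (gT 0 b0) ≠ 1) :
    2 ^ m * (Fintype.card F - 1) ≤ finrank ℂ V := by
  classical
  have hsq : ∀ b v, ρ (gT 0 b) (ρ (gT 0 b) v) = v := fun b v => by
    rw [apply_mul', gT_sq, map_zero, zero_mul, gT_zero, map_one]; rfl
  have hc : ∀ b d v, ρ (gT 0 b) (ρ (gT 0 d) v) = ρ (gT 0 d) (ρ (gT 0 b) v) := fun b d v => by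
    rw [apply_mul', apply_mul', gT_mul, gT_mul]; simp [add_comm]
  obtain ⟨w, hw⟩ : ∃ w, ρ (gT 0 b0) w ≠ w := by
    by_contra h
    push Not at h
    exact hb (LinearMap.ext fun w => h w)
  obtain ⟨v, hv, hv0, hvall⟩ := exists_joint (fun b => ρ (gT 0 b)) hsq hc (i0 := b0)
    (w := w - ρ (gT 0 b0) w) (sub_ne_zero.2 (Ne.symm hw))
    (by rw [map_sub, hsq, neg_sub])
  set l : F → ℂ := fun b => if ρ (gT 0 b) v = v then 1 else -1 with hldef
  have hlv : ∀ b, ρ (gT 0 b) v = l b • v := fun b => by
    by_cases h : ρ (gT 0 b) v = v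
    · simp [l, h]
    · have := (hvall b).resolve_left h
      simp [l, h, this]
  have hl : Sign l := by
    refine ⟨fun x y => ?_, fun x => by by_cases h : ρ (gT 0 x) v = v <;> simp [l, h], b0, ?_⟩
    · refine smul_left_injective ℂ hv (?_ : l (x + y) • v = (l x * l y) • v)
      rw [← hlv, show gT (m := m) 0 (x + y) = gT 0 x * gT 0 y by rw [gT_mul]; simp, ← apply_mul', hlv,
        map_smul, hlv, smul_smul, mul_comm]
    · have h' : ¬ ρ (gT 0 b0) v = v := by
        rw [hv0]
        intro h
        have h2 : (2 : ℂ) • v = 0 := by rw [two_smul]; nth_rewrite 1 [← h]; exact neg_add_cancel v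
        exact hv ((smul_eq_zero.1 h2).resolve_left two_ne_zero)
      simp [l, h']
  let W : Fˣ → Submodule ℂ V := fun s => eig ρ fun b => l ((s : F) * b)
  have hne : ∀ s, W s ≠ ⊥ := by
    intro s
    have hsurj : Function.Surjective fun t : Fˣ => (Units.map (sg F m : F →* F) t * t ^ 2)⁻¹ := by
      refine Finite.surjective_of_injective fun t t' h => ?_
      have h' : Units.map (sg F m : F →* F) t * t ^ 2 = Units.map (sg F m : F →* F) t' * t' ^ 2 :=
        inv_injective h
      refine div_eq_one.1 (eq_one_of_sgsq (m := m) ?_)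
      have hv' : sg F m (t : F) * (t : F) ^ 2 = sg F m (t' : F) * (t' : F) ^ 2 := congrArg Units.val h'
      have hn : sg F m (t' : F) * (t' : F) ^ 2 ≠ 0 :=
        mul_ne_zero ((map_ne_zero (sg F m)).2 t'.ne_zero) (pow_ne_zero _ t'.ne_zero)
      rw [Units.val_div_eq_div_val, map_div₀, div_pow, div_mul_div_comm, hv', div_self hn]
    obtain ⟨t, ht⟩ := hsurj s
    have hs : (s : F) = (sg F m (t : F) * (t : F) ^ 2)⁻¹ := by
      rw [← ht]; simp
    refine (Submodule.ne_bot_iff _).2 ⟨ρ (gH t) v, (mem_eig ρ).2 fun b => ?_, fun h => hv ?_⟩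
    · have hn : sg F m (t : F) * (t : F) ^ 2 ≠ 0 :=
        mul_ne_zero ((map_ne_zero (sg F m)).2 t.ne_zero) (pow_ne_zero _ t.ne_zero)
      have e : gT (m := m) 0 b * gH t = gH t * gT 0 ((s : F) * b) := by
        rw [mul_inv_eq_iff_eq_mul.1 (gH_conj_gT (m := m) t 0 ((s : F) * b)), mul_zero, hs,
          mul_inv_cancel_left₀ hn]
      rw [apply_mul', e, ← apply_mul', hlv, map_smul]
    · have := congrArg (ρ (gH t)⁻¹) h
      rwa [apply_mul', inv_mul_cancel, map_one, map_zero] at this
  have hind : iSupIndep W := by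
    intro s
    rw [disjoint_iff_inf_le]
    rintro w ⟨hw1, hw2⟩
    let P : End ℂ V := ∑ b : F, l ((s : F) * b) • ρ (gT 0 b)
    have hker : (⨆ t, ⨆ (_ : t ≠ s), W t) ≤ LinearMap.ker P := by
      refine iSup₂_le fun t hts u hu => ?_
      have hst : (s : F) + t ≠ 0 := fun e => hts (Units.ext (by
        rw [add_eq_zero_iff_eq_neg, CharTwo.neg_eq] at e; exact e.symm))
      rw [LinearMap.mem_ker]
      have e : ∀ b, l ((s : F) * b) • ρ (gT 0 b) u = l (((s : F) + t) * b) • u := fun b => by
        rw [(mem_eig ρ).1 hu, smul_smul, ← hl.add, add_mul]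
      rw [LinearMap.sum_apply]
      simp only [LinearMap.smul_apply, e, ← Finset.sum_smul]
      rw [sum_sign (m := m) (l := fun b => l (((s : F) + t) * b)) (hl.scale hst), zero_smul]
    have h1 := LinearMap.mem_ker.1 (hker hw2)
    have e : ∀ b, l ((s : F) * b) • ρ (gT 0 b) w = w := fun b => by
      rw [(mem_eig ρ).1 hw1, smul_smul]
      rcases hl.val ((s : F) * b) with e | e <;> simp [e]
    simp only [P, LinearMap.sum_apply, LinearMap.smul_apply, e, Finset.sum_const, Finset.card_univ,
      ← Nat.cast_smul_eq_nsmul ℂ, smul_eq_zero, Nat.cast_eq_zero, Fintype.card_ne_zero, false_or] at h1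
    exact h1
  have h := (sum_finrank_le hind Finset.univ).trans (Submodule.finrank_le _)
  refine le_trans ?_ h
  calc 2 ^ m * (Fintype.card F - 1) = ∑ _s : Fˣ, 2 ^ m := by
        rw [Finset.sum_const, Finset.card_univ, Fintype.card_units, smul_eq_mul, mul_comm]
    _ ≤ _ := Finset.sum_le_sum fun s _ => le_finrank_eig ρ (hl.scale s.ne_zero) (hne s)

end CfsgLib.Suzuki.MinDeg
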