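import Cfsg.Agent.Lib.Suzuki.TorClasses
import Cfsg.Agent.Lib.Suzuki.Cover
import Cfsg.Agent.Lib.Suzuki.Maximal

/-!
# The partition of a Suzuki group
-/

set_option autoImplicit false
set_option linter.unusedSectionVars false

namespace CfsgLib.Suzuki

open MulAction

/-- The three torus orders. -/
def torusOrders (m : ℕ) : Set ℕ :=
  {2 ^ (2 * m + 1) - 1, 2 ^ (2 * m + 1) + 2 ^ (m + 1) + 1, 2 ^ (2 * m + 1) - 2 ^ (m + 1) + 1}

variable {F : Type*} [Field F] [Fintype F] [CharP F 2] {m : ℕ} [hP : Param F m]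

include hP

theorem torusOrders_spec {j : ℕ} (h : j ∈ torusOrders m) :
    1 < j ∧ Odd j ∧ (Fintype.card F ^ 2).Coprime j ∧
      ∀ k ∈ torusOrders m, k ≠ j → j.Coprime k := by
  have h8 := eight_le_card (F := F) (m := m)
  have hb := sigma_bounds (m := m) hP.one_le
  have hq : Fintype.card F = 2 ^ (2 * m + 1) := hP.card
  have hr0 : Even (2 ^ (m + 1)) := by rw [pow_succ]; exact even_two.mul_left _
  have hq0 : Even (2 ^ (2 * m + 1)) := by rw [pow_succ]; exact even_two.mul_left _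
  have hpq : (2 ^ (2 * m + 1) + 2 ^ (m + 1) + 1) * (2 ^ (2 * m + 1) - 2 ^ (m + 1) + 1) =
      Fintype.card F ^ 2 + 1 := by
    rw [hq]
    have hsq : (2 ^ (m + 1)) ^ 2 = 2 * 2 ^ (2 * m + 1) := by
      rw [← pow_mul, ← pow_succ']; congr 1; ring
    generalize 2 ^ (m + 1) = r at *
    generalize 2 ^ (2 * m + 1) = q at *
    zify [show r ≤ q by omega] at *
    linear_combination -hsq
  have hodd : ∀ j ∈ torusOrders m, Odd j := by
    rintro j (rfl | rfl | rfl)
    · rw [← hq]; exact odd_card_sub_one (F := F) (m := m)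
    · exact Even.add_one (hq0.add hr0)
    · exact Even.add_one (Nat.even_sub (by omega) |>.2 (iff_of_true hq0 hr0))
  have hab : (2 ^ (2 * m + 1) + 2 ^ (m + 1) + 1).Coprime (2 ^ (2 * m + 1) - 2 ^ (m + 1) + 1) := by
    refine Nat.coprime_of_dvd fun p hp h1 h2 => ?_
    have h3 := Nat.dvd_sub h1 h2
    rw [show 2 ^ (2 * m + 1) + 2 ^ (m + 1) + 1 - (2 ^ (2 * m + 1) - 2 ^ (m + 1) + 1) = 2 ^ (m + 2) by
      rw [pow_succ 2 (m + 1)]; omega] at h3
    have h2p := (Nat.prime_dvd_prime_iff_eq hp Nat.prime_two).1 (hp.dvd_of_dvd_pow h3)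
    subst h2p
    exact Nat.not_even_iff_odd.2 (hodd _ (Or.inr (Or.inl rfl))) (even_iff_two_dvd.2 h1)
  have hc := coprime_sq (F := F) (m := m)
  rw [← hpq, hq] at hc
  refine ⟨?_, hodd j h, ?_, ?_⟩
  · rcases h with rfl | rfl | rfl <;> omega
  · rw [hq, ← pow_mul]; exact (coprime_two_pow (F := F) (m := m) (hodd j h)).symm
  · intro k hk hne
    rcases h with rfl | rfl | rfl <;> rcases hk with rfl | rfl | rfl
    all_goals
      first
      | exact absurd rfl hne
      | exact hc.coprime_mul_right_right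
      | exact hc.coprime_mul_left_right
      | exact hc.coprime_mul_right_right.symm
      | exact hc.coprime_mul_left_right.symm
      | exact hab
      | exact hab.symm

theorem isMaxNil_cases {X : Subgroup (Gp F m)} (hX : IsMaxNil F m X) :
    (∃ P : Sylow 2 (Gp F m), X = (P : Subgroup (Gp F m))) ∨
      (IsCyclic X ∧ Nat.card X ∈ torusOrders m) := by
  rcases hX with ⟨g, rfl⟩ | ⟨g, rfl⟩ | ⟨x, hx, rfl⟩
  · exact Or.inl ⟨g • sylowU F m, rfl⟩
  · refine Or.inr ⟨?_, ?_⟩
    · haveI : IsCyclic ↥(grpH F m) :=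
        isCyclic_of_surjective (gH (F := F) (m := m)).rangeRestrict (MonoidHom.rangeRestrict_surjective _)
      exact isCyclic_of_surjective ((grpH F m).equivMapOfInjective (MulAut.conj g).toMonoidHom
        (MulAut.conj g).injective).toMonoidHom (MulEquiv.surjective _)
    · rw [Subgroup.card_map_of_injective (f := (MulAut.conj g).toMonoidHom) (MulAut.conj g).injective, natCard_grpH, hP.card]
      exact Or.inl rfl
  · refine Or.inr ⟨hx.cent_cyclic, ?_⟩
    obtain ⟨A, B, -, -, -, -, -, -, hne, hconj, hj⟩ := exists_tor_reps (F := F) (m := m)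
    have hb := sigma_bounds (m := m) hP.one_le
    have h1 := hj _ (Or.inl rfl)
    have h2 := hj _ (Or.inr rfl)
    have hA : ∀ n, n = Nat.card A ∨ n = Nat.card B → n ∈ torusOrders m := by
      intro n hn
      rcases (show n = 2 ^ (2 * m + 1) + 2 ^ (m + 1) + 1 ∨
          n = 2 ^ (2 * m + 1) - 2 ^ (m + 1) + 1 by omega) with h | h
      · exact Or.inr (Or.inl h)
      · exact Or.inr (Or.inr h)
    rcases hconj x hx with h | h
    · exact hA _ (Or.inl (card_of_mem_conjs h))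
    · exact hA _ (Or.inr (card_of_mem_conjs h))

theorem isMaxNil_of_class {U : Subgroup (Gp F m)} (h : (∃ P : Sylow 2 (Gp F m),
    U = (P : Subgroup (Gp F m))) ∨ (IsCyclic U ∧ Nat.card U ∈ torusOrders m)) :
    IsMaxNil F m U := by
  rcases h with ⟨P, rfl⟩ | ⟨hc, hn⟩
  · exact Or.inl (sylow_two_eq_conj P)
  obtain ⟨a, ha⟩ := hc.exists_generator
  obtain ⟨h1, -, hco, hpair⟩ := torusOrders_spec (F := F) hn
  have hord : orderOf (a : Gp F m) = Nat.card U := by
    rw [Subgroup.orderOf_coe, orderOf_eq_card_of_forall_mem_zpowers ha]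
  have ha1 : (a : Gp F m) ≠ 1 := fun e => by rw [e, orderOf_one] at hord; omega
  obtain ⟨X, hX, haX⟩ := exists_maxNil ha1
  have hle : U ≤ X := fun u hu => by
    obtain ⟨k, hk⟩ := Subgroup.mem_zpowers_iff.1 (ha ⟨u, hu⟩)
    have e : (a : Gp F m) ^ k = u := by rw [← SubgroupClass.coe_zpow, hk]
    exact e ▸ zpow_mem haX k
  have hdvd : Nat.card U ∣ Nat.card X := Subgroup.card_dvd_of_le hle
  have key : Nat.card X = Nat.card U := by
    rcases isMaxNil_cases hX with ⟨P, rfl⟩ | ⟨-, hn'⟩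
    · obtain ⟨g, hg⟩ := sylow_two_eq_conj P
      rw [hg, Subgroup.card_map_of_injective (f := (MulAut.conj g).toMonoidHom) (MulAut.conj g).injective, natCard_grpU] at hdvd
      have := Nat.eq_one_of_dvd_coprimes hco hdvd dvd_rfl
      omega
    · by_contra hne
      have := Nat.eq_one_of_dvd_coprimes (hpair _ hn' hne) dvd_rfl hdvd
      omega
  rwa [Subgroup.eq_of_le_of_card_ge hle key.le]

theorem maxNil_unique {X Y : Subgroup (Gp F m)} (hX : IsMaxNil F m X) (hY : IsMaxNil F m Y)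
    {g : Gp F m} (hgX : g ∈ X) (hgY : g ∈ Y) (h1 : g ≠ 1) : X = Y := by
  have hU : ∀ {X : Subgroup (Gp F m)}, IsMaxNil F m X → g ∈ X →
      (∃ k, X = (grpU F m).map (MulAut.conj k).toMonoidHom) ∨ X = Subgroup.centralizer {g} := by
    intro X hX hgX
    rcases id hX with ⟨k, rfl⟩ | ⟨k, rfl⟩ | ⟨x, hx, rfl⟩
    · exact Or.inl ⟨k, rfl⟩
    · exact Or.inr (((tor_grpH (F := F) (m := m)).map_conj k).cent g hgX h1).symm
    · exact Or.inr (hx.cent_eq hgX h1).symm
  have hsub : ∀ {k : Gp F m}, g ∈ (grpU F m).map (MulAut.conj k).toMonoidHom →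
      ∀ p : Pts F m, g • p = p → p = k • pinf F m := by
    intro k hk p hp
    rw [mem_map_conj] at hk
    have := grpU_fix hk (by simpa using conj_ne_one (F := F) (m := m) h1 k⁻¹) (p := k⁻¹ • p)
      (by rw [mul_smul, mul_smul, smul_inv_smul, hp])
    exact inv_smul_eq_iff.1 this
  have hfix : ∀ {k : Gp F m}, g ∈ (grpU F m).map (MulAut.conj k).toMonoidHom →
      g • k • pinf F m = k • pinf F m := by
    intro k hk
    rw [mem_map_conj] at hk
    obtain ⟨a, b, hab⟩ := hk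
    have : (k⁻¹ * g * k) • pinf F m = pinf F m := by rw [hab, gT_smul_pinf]
    rwa [mul_smul, mul_smul, inv_smul_eq_iff] at this
  have heqU : ∀ k k' : Gp F m, g ∈ (grpU F m).map (MulAut.conj k).toMonoidHom →
      g ∈ (grpU F m).map (MulAut.conj k').toMonoidHom →
      (grpU F m).map (MulAut.conj k).toMonoidHom = (grpU F m).map (MulAut.conj k').toMonoidHom := by
    intro k k' hgX hgY
    have e := hsub hgX _ (hfix hgY)
    ext y
    rw [mem_map_conj, mem_map_conj]
    have hs : (k'⁻¹ * k) • pinf F m = pinf F m := by rw [mul_smul, ← e, inv_smul_smul]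
    constructor
    · intro hy
      have := grpU_conj_mem hy hs
      rwa [show k'⁻¹ * k * (k⁻¹ * y * k) * (k'⁻¹ * k)⁻¹ = k'⁻¹ * y * k' by group] at this
    · intro hy
      have := grpU_conj_mem hy (g := (k'⁻¹ * k)⁻¹) (inv_smul_eq_iff.2 hs.symm)
      rwa [show (k'⁻¹ * k)⁻¹ * (k'⁻¹ * y * k') * (k'⁻¹ * k)⁻¹⁻¹ = k⁻¹ * y * k by group] at this
  have hmix : ∀ (k : Gp F m) (Y : Subgroup (Gp F m)), IsMaxNil F m Y →
      g ∈ (grpU F m).map (MulAut.conj k).toMonoidHom → g ∈ Y →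
      (grpU F m).map (MulAut.conj k).toMonoidHom = Y := by
    intro k Y hY hgX hgY
    rcases isMaxNil_cases hY with ⟨P, rfl⟩ | ⟨-, hn⟩
    · obtain ⟨k', hk'⟩ := sylow_two_eq_conj P
      rw [hk'] at hgY ⊢
      exact heqU k k' hgX hgY
    · have h2 := Subgroup.orderOf_dvd_natCard _ hgX
      rw [Subgroup.card_map_of_injective (f := (MulAut.conj k).toMonoidHom) (MulAut.conj k).injective,
        natCard_grpU] at h2
      exact absurd (orderOf_eq_one_iff.1 (Nat.eq_one_of_dvd_coprimes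
        (torusOrders_spec (F := F) hn).2.2.1 h2 (Subgroup.orderOf_dvd_natCard _ hgY))) h1
  rcases hU hX hgX with ⟨k, rfl⟩ | hXc
  · exact hmix k Y hY hgX hgY
  rcases hU hY hgY with ⟨k, rfl⟩ | hYc
  · exact (hmix k X hX hgY hgX).symm
  · rw [hXc, hYc]

theorem partition {g : Gp F m} (hg : g ≠ 1) :
    ∃! U : Subgroup (Gp F m), ((∃ P : Sylow 2 (Gp F m), U = (P : Subgroup (Gp F m))) ∨
      (IsCyclic U ∧ Nat.card U ∈ torusOrders m)) ∧ g ∈ U := by
  obtain ⟨X, hX, hgX⟩ := exists_maxNil hg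
  exact ⟨X, ⟨isMaxNil_cases hX, hgX⟩, fun Y hY =>
    maxNil_unique (isMaxNil_of_class hY.1) hX hY.2 hgX hg⟩

end CfsgLib.Suzuki
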