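import Mathlib

/-!
# Arithmetic of the subgroups of a Suzuki group
-/

set_option autoImplicit false

namespace CfsgLib.Suzuki.SubArith

theorem class_bound {c e x g : ℕ} (hx : 5 ≤ x) (h : c * (e * x) = g * (x - 1)) :
    4 * g ≤ 5 * (e * c) := by
  obtain ⟨y, rfl⟩ : ∃ y, x = y + 5 := ⟨x - 5, by omega⟩
  rw [show y + 5 - 1 = y + 4 by omega] at h
  nlinarith

/-- One class of tori of index two and no split torus. -/
theorem single_two {c x g : ℕ} (hx : 5 ≤ x) (hg : 2 * c + 2 = g) (h : c * (2 * x) = g * (x - 1)) :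
    g = 2 * x := by
  obtain ⟨y, rfl⟩ : ∃ y, x = y + 1 := ⟨x - 1, by omega⟩
  rw [show y + 1 - 1 = y by omega] at h
  nlinarith

theorem single_four {c x g : ℕ} (hx : 5 ≤ x) (hg : 4 * c + 4 = g) (h : c * (4 * x) = g * (x - 1)) :
    g = 4 * x := by
  obtain ⟨y, rfl⟩ : ∃ y, x = y + 1 := ⟨x - 1, by omega⟩
  rw [show y + 1 - 1 = y by omega] at h
  nlinarith

theorem one_one {g s h cU cH c : ℕ} (hU : cU * (s * h) = g * (s - 1)) (hH : cH * h = g * (h - 1))
    (hs : 2 ≤ s) (hh : 2 ≤ h) (hg : cU + cH + c + 1 ≤ g) (hle : s * h ≤ g) (hc : g ≤ 5 * c ∨ c = 0)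
    (hsh : 5 < s * h) : c = 0 := by
  rcases hc with hc | hc
  · exfalso
    have h1 : (cU + cH + c + 1) * (s * h) ≤ g * (s * h) := Nat.mul_le_mul_right _ hg
    zify [show 1 ≤ s by omega, show 1 ≤ h by omega] at hU hH h1 hc hsh
    nlinarith [congrArg (fun t : ℤ => t * s) hH, mul_le_mul_of_nonneg_left hsh.le
      (show (0 : ℤ) ≤ g by positivity)]
  · exact hc

theorem one_fix {g s h cU cH : ℕ} (hU : cU * (s * h) = g * (s - 1)) (hH : cH * h = g * (h - 1))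
    (hs : 2 ≤ s) (hh : 2 ≤ h) (hg : cU + cH + 1 = g) : g = s * h := by
  zify [show 1 ≤ s by omega, show 1 ≤ h by omega] at *
  linear_combination hU + (s : ℤ) * hH - ((s : ℤ) * h) * hg

theorem rest_lt_half {g s h cU cH R : ℕ} (hU : cU * (s * h) = g * (s - 1))
    (hH : cH * (2 * h) = g * (h - 1)) (hs : 3 ≤ s) (hh : 2 ≤ h) (hg : cU + cH + R + 1 = g) :
    2 * R < g := by
  zify [show 1 ≤ s by omega, show 1 ≤ h by omega] at *
  by_contra hc
  push Not at hc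
  have h1 : (g : ℤ) * (s * h) ≤ 2 * R * (s * h) := mul_le_mul_of_nonneg_right hc (by positivity)
  have h2 : (2 : ℤ) * R * (s * h) = g * (s * h) - g * (s - 2) - 2 * (s * h) := by
    linear_combination 2 * ((s : ℤ) * h) * hg - 2 * hU - (s : ℤ) * hH
  nlinarith [mul_nonneg (show (0 : ℤ) ≤ g by positivity) (show (0 : ℤ) ≤ (s : ℤ) - 2 by linarith),
    mul_pos (show (0 : ℤ) < s by linarith) (show (0 : ℤ) < h by linarith)]

theorem rest_ne_zero {g s h cU cH : ℕ} (hU : cU * (s * h) = g * (s - 1))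
    (hH : cH * (2 * h) = g * (h - 1)) (hs : 3 ≤ s) (hh : 2 ≤ h) (hle : s * h ≤ g)
    (hg : cU + cH + 1 = g) : False := by
  zify [show 1 ≤ s by omega, show 1 ≤ h by omega] at *
  have h2 : (g : ℤ) * (s * h - s + 2) = 2 * (s * h) := by
    linear_combination 2 * hU + (s : ℤ) * hH - 2 * ((s : ℤ) * h) * hg
  have h3 : ((s : ℤ) * h) * (s * (h - 1)) ≤ 0 := by
    nlinarith [mul_le_mul_of_nonneg_right hle (show (0 : ℤ) ≤ s * h - s + 2 by nlinarith)]
  have h4 : (0 : ℤ) < ((s : ℤ) * h) * (s * (h - 1)) :=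
    mul_pos (mul_pos (by linarith) (by linarith)) (mul_pos (by linarith) (by linarith))
  linarith

theorem two_eq {g s h cU cH c y r k : ℕ} (hU : cU * (s * h) = g * (s - 1))
    (hH : cH * (2 * h) = g * (h - 1)) (hy : c * (2 * y) = g * (y - 1)) (hs : 3 ≤ s) (hh : 2 ≤ h)
    (hy5 : 1 ≤ y) (hg : cU + cH + c + 1 = g) (hgr : g = r * (s * h)) (hr : r = 1 + k * s) :
    y * (1 + k * (s - 2)) = (1 + k * s) * h := by
  subst hr
  zify [show 1 ≤ s by omega, show 1 ≤ h by omega, show 2 ≤ s by omega, hy5] at *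
  have key : (g : ℤ) * (s * y - 2 * y - s * h) + 2 * (s * h * y) = 0 := by
    linear_combination (-(2 * (y : ℤ))) * hU - (s : ℤ) * y * hH - (s : ℤ) * h * hy +
      2 * ((s : ℤ) * h * y) * hg
  refine mul_left_cancel₀ (show ((s : ℤ) * s * h) ≠ 0 by positivity) ?_
  linear_combination key - ((s : ℤ) * y - 2 * y - s * h) * hgr

theorem two_contra {s h y k : ℕ} (heq : y * (1 + k * (s - 2)) = (1 + k * s) * h)
    (hdvd : h ∣ s - 1) (hs : 8 ≤ s) (hseven : Even s) (hh : 2 ≤ h) (hk : 1 ≤ k) :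
    h = s - 1 ∧ k = 1 := by
  obtain ⟨j, hj⟩ := hdvd
  have hjodd : Odd j := (Nat.odd_mul.1 (hj ▸ Nat.Even.sub_odd (by omega) hseven odd_one)).2
  obtain ⟨i, rfl⟩ := hjodd
  zify [show 1 ≤ s by omega, show 2 ≤ s by omega] at heq hj
  have hs' : (8 : ℤ) ≤ s := by exact_mod_cast hs
  have hk' : (1 : ℤ) ≤ k := by exact_mod_cast hk
  have hh' : (2 : ℤ) ≤ h := by exact_mod_cast hh
  have hd : ((y : ℤ) - h) * (1 + k * (s - 2)) = 2 * k * h := by linear_combination heq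
  have hpos : (0 : ℤ) < 1 + k * (s - 2) := by nlinarith
  have hd1 : (1 : ℤ) ≤ (y : ℤ) - h := by
    by_contra hc
    nlinarith [mul_nonneg (show (0 : ℤ) ≤ h - y by omega) hpos.le]
  rcases Nat.eq_zero_or_pos i with rfl | hi
  · have hhs : (h : ℤ) = s - 1 := by push_cast at hj; linarith
    rw [hhs] at hd
    refine ⟨by omega, ?_⟩
    rcases (show (y : ℤ) - (s - 1) = 1 ∨ (y : ℤ) - (s - 1) = 2 ∨ 3 ≤ (y : ℤ) - (s - 1) by omega)
      with e | e | e
    · rw [e] at hd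
      have : (k : ℤ) * s = 1 := by linarith
      nlinarith
    · rw [e] at hd
      have : (k : ℤ) * 1 = 1 := by nlinarith
      omega
    · nlinarith [mul_le_mul_of_nonneg_right e hpos.le]
  · exfalso
    have hi' : (1 : ℤ) ≤ i := by exact_mod_cast hi
    push_cast at hj
    have hb : 2 * (h : ℤ) ≤ s - 2 := by
      nlinarith [mul_nonneg (show (0 : ℤ) ≤ i - 1 by linarith) (show (0 : ℤ) ≤ h by linarith)]
    nlinarith [mul_le_mul_of_nonneg_right hd1 hpos.le, mul_le_mul_of_nonneg_left hb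
      (show (0 : ℤ) ≤ k by linarith)]

theorem four_one {g s h cU cH c y r : ℕ} (hU : cU * (s * h) = g * (s - 1))
    (hH : cH * (2 * h) = g * (h - 1)) (hy : c * (4 * y) = g * (y - 1)) (hs : 8 ≤ s) (hh : 5 ≤ h)
    (hy5 : 5 ≤ y) (hg : cU + cH + c + 1 = g) (hgr : g = r * (s * h)) (hr : 1 ≤ r) : False := by
  zify [show 1 ≤ s by omega, show 1 ≤ h by omega, show 1 ≤ y by omega] at *
  have key : (g : ℤ) * (2 * y * (s * h - s + 2) - s * h * (y - 1)) = 4 * (s * h * y) := by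
    linear_combination (4 * (y : ℤ)) * hU + 2 * (s : ℤ) * y * hH + (s : ℤ) * h * hy -
      4 * ((s : ℤ) * h * y) * hg
  have key2 : (r : ℤ) * (2 * y * (s * h - s + 2) - s * h * (y - 1)) = 4 * y := by
    refine mul_left_cancel₀ (show ((s : ℤ) * h) ≠ 0 by positivity) ?_
    linear_combination key - (2 * y * (s * h - s + 2) - s * h * (y - 1)) * hgr
  have hb : 4 * (y : ℤ) < 2 * y * (s * h - s + 2) - s * h * (y - 1) := by
    nlinarith [mul_le_mul_of_nonneg_left hh (show (0 : ℤ) ≤ (s : ℤ) * y by positivity),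
      mul_pos (show (0 : ℤ) < s by linarith) (show (0 : ℤ) < h by linarith),
      mul_le_mul_of_nonneg_right hs (show (0 : ℤ) ≤ (y : ℤ) by positivity)]
  nlinarith [mul_le_mul_of_nonneg_right hr (show (0 : ℤ) ≤
    2 * y * (s * h - s + 2) - s * h * (y - 1) by linarith)]

theorem four_four {g s h cU cH c1 c2 x y r k : ℕ} (hU : cU * (s * h) = g * (s - 1))
    (hH : cH * (2 * h) = g * (h - 1)) (hx : c1 * (4 * x) = g * (x - 1))
    (hy : c2 * (4 * y) = g * (y - 1)) (hs : 3 ≤ s) (hh : 2 ≤ h) (hx5 : 1 ≤ x) (hy5 : 1 ≤ y)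
    (hg : cU + cH + c1 + c2 + 1 = g) (hgr : g = r * (s * h)) (hr : r = 1 + k * s) :
    2 * (x * y) * (1 + k * (s - 2)) = r * (h * (x + y)) := by
  zify [show 1 ≤ s by omega, show 1 ≤ h by omega, show 2 ≤ s by omega, hx5, hy5] at *
  have key : (g : ℤ) * (2 * s * x * y - 4 * x * y - s * h * (x + y)) + 4 * (s * h * x * y) = 0 := by
    linear_combination (-(4 * (x : ℤ) * y)) * hU - 2 * (s : ℤ) * x * y * hH -
      (s : ℤ) * h * y * hx - (s : ℤ) * h * x * hy + 4 * ((s : ℤ) * h * x * y) * hg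
  refine mul_left_cancel₀ (show ((s : ℤ) * s * h) ≠ 0 by positivity) ?_
  linear_combination key - (2 * (s : ℤ) * x * y - 4 * x * y - s * h * (x + y)) * hgr -
    (s : ℤ) * h * (2 * x * y * (s - 2)) * hr

theorem coprime_dvd_r {s h x y r k : ℕ} (hr : r = 1 + k * s) (hseven : Even s) (hs : 2 ≤ s)
    (hxy : x * y ∣ r) (heq : 2 * (x * y) * (1 + k * (s - 2)) = r * (h * (x + y)))
    (hx : 0 < x * y) : r = x * y ∧ h * (x + y) = 2 * (1 + k * (s - 2)) := by
  obtain ⟨j, hj⟩ := hxy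
  have h1 : 2 * (1 + k * (s - 2)) = j * (h * (x + y)) := by
    refine Nat.eq_of_mul_eq_mul_left hx ?_
    rw [← mul_assoc (x * y) j, ← hj, ← heq]; ring
  have hjodd : Odd j := by
    have : Odd r := hr ▸ Odd.add_even odd_one (hseven.mul_left k)
    exact (Nat.odd_mul.1 (hj ▸ this)).2
  have hj1 : j ∣ 1 + k * (s - 2) :=
    (Nat.coprime_two_right.2 hjodd).dvd_of_dvd_mul_left (h1 ▸ dvd_mul_right _ _)
  have hj2 : j ∣ 1 + k * s := hr ▸ ⟨x * y, by rw [hj]; ring⟩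
  have hj3 : j ∣ k * 2 := by
    have := Nat.dvd_sub hj2 hj1
    obtain ⟨t, rfl⟩ : ∃ t, s = t + 2 := ⟨s - 2, by omega⟩
    rwa [Nat.add_sub_cancel, show 1 + k * (t + 2) - (1 + k * t) = k * 2 by
      rw [mul_add]; omega] at this
  have hjk : j ∣ k := (Nat.coprime_two_right.2 hjodd).dvd_of_dvd_mul_right hj3
  have hj4 : j ∣ 1 := (Nat.dvd_add_left (hjk.mul_right s)).1 hj2
  rw [Nat.dvd_one.1 hj4] at hj h1
  exact ⟨by simpa using hj, by simpa using h1.symm⟩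

theorem invol_eq {s h x y z k r g I cH c1 c2 : ℕ} (hr : r = 1 + k * s) (hgr : g = r * (s * h))
    (hI : I = r * (z - 1)) (hH : cH * (2 * h) = g * (h - 1)) (hx : c1 * (4 * x) = g * (x - 1))
    (hy : c2 * (4 * y) = g * (y - 1)) (hpairs : I * I = I * (z - 1) + cH * h + c1 * x + c2 * y)
    (hxy : h * (x + y) = 2 * (1 + k * (s - 2))) (hh : 1 ≤ h) (hhz : h ≤ z - 1) (hsz : s ≤ z * z)
    (hs : 3 ≤ s) (hx1 : 1 ≤ x) (hy1 : 1 ≤ y) (hh3 : 3 ≤ h) :
    k = 1 ∧ s = z * z ∧ h = z - 1 := by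
  have hz : 1 ≤ z := by omega
  zify [hh, hz, hx1, hy1, show 2 ≤ s by omega] at *
  have e1 : 4 * (k : ℤ) * ((z : ℤ) - 1) ^ 2 = h * (2 * h - 4 + x + y) := by
    refine mul_left_cancel₀ (show ((r : ℤ) * s) ≠ 0 by
      have : (0 : ℤ) < r := by nlinarith
      positivity) ?_
    linear_combination 4 * hpairs - 4 * ((I : ℤ) + r * (z - 1) - (z - 1)) * hI + 2 * hH + hx + hy +
      (2 * (h : ℤ) - 2 + x - 1 + y - 1) * hgr - 4 * (r : ℤ) * ((z : ℤ) - 1) ^ 2 * hr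
  have e2 : (k : ℤ) * (2 * ((z : ℤ) - 1) ^ 2 - (s - 2)) = ((h : ℤ) - 1) ^ 2 := by
    refine mul_left_cancel₀ (two_ne_zero (α := ℤ)) ?_
    linear_combination e1 + hxy
  have hk1 : (1 : ℤ) ≤ k := by
    rcases Nat.eq_zero_or_pos k with rfl | hk
    · exfalso
      push_cast at e2
      nlinarith
    · exact_mod_cast hk
  have hA : ((z : ℤ) - 2) ^ 2 ≤ 2 * ((z : ℤ) - 1) ^ 2 - (s - 2) := by nlinarith
  have hB : ((h : ℤ) - 1) ^ 2 ≤ ((z : ℤ) - 2) ^ 2 := by nlinarith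
  have hpos : (0 : ℤ) < ((h : ℤ) - 1) ^ 2 := by nlinarith
  have hk : (k : ℤ) = 1 := by
    nlinarith [mul_nonneg (show (0 : ℤ) ≤ k - 1 by linarith)
      (show (0 : ℤ) ≤ 2 * ((z : ℤ) - 1) ^ 2 - (s - 2) by nlinarith)]
  rw [hk, one_mul] at e2
  refine ⟨by exact_mod_cast hk, ?_, ?_⟩
  · nlinarith
  · nlinarith

end CfsgLib.Suzuki.SubArith
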