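import Cfsg.Agent.Lib.Suzuki.SubgroupSplit

/-!
# The large subgroups of a Suzuki group: the counting argument
-/

set_option autoImplicit false
set_option linter.unusedSectionVars false
set_option maxHeartbeats 1000000

namespace CfsgLib.Suzuki

open MulAction

variable {F : Type*} [Field F] [Fintype F] [CharP F 2] {m : ℕ} [hP : Param F m]

include hP

variable {M : Subgroup (Gp F m)}

/-- A torus element of `M` acts freely on the nontrivial part of a normalized subgroup of `U`. -/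
theorem card_inf_grpH_dvd (A : Subgroup (Gp F m)) (hA : A ≤ grpU F m)
    (hnorm : ∀ c ∈ grpH F m, ∀ a ∈ A, c * a * c⁻¹ ∈ A) :
    Nat.card ↥(M ⊓ grpH F m) ∣ Nat.card ↥(M ⊓ A) - 1 := by
  let _ : MulAction ↥(M ⊓ grpH F m) (Gp F m) :=
    MulAction.compHom (Gp F m) (MulAut.conj.comp (M ⊓ grpH F m).subtype)
  have hsmul : ∀ (c : ↥(M ⊓ grpH F m)) (a : Gp F m), c • a = (c : Gp F m) * a * (c : Gp F m)⁻¹ :=
    fun c a => rfl
  have hset : ((M ⊓ A : Subgroup (Gp F m)) : Set (Gp F m)).ncard = Nat.card ↥(M ⊓ A) := rfl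
  rw [← hset, ← Set.ncard_sdiff_singleton_of_mem (show (1 : Gp F m) ∈
    ((M ⊓ A : Subgroup (Gp F m)) : Set (Gp F m)) from one_mem _)]
  refine card_dvd_of_free _ (fun c a ha => ?_) fun c a ha hca => ?_
  · rw [hsmul]
    exact ⟨⟨M.mul_mem (M.mul_mem c.2.1 ha.1.1) (M.inv_mem c.2.1), hnorm _ c.2.2 _ ha.1.2⟩,
      fun e => ha.2 (conj_eq_one_iff.1 e)⟩
  · rw [hsmul] at hca
    by_contra hc
    have hc1 : (c : Gp F m) ≠ 1 := fun e => hc (Subtype.ext e)
    have hac : a ∈ grpH F m := by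
      rw [← centralizer_gH c.2.2 hc1, Subgroup.mem_centralizer_singleton_iff]
      exact (mul_inv_eq_iff_eq_mul.1 hca).symm
    refine ha.2 (Set.mem_singleton_iff.2 (orderOf_eq_one_iff.1 (Nat.eq_one_of_dvd_coprimes
      ((coprime_card_sub_one (F := F) (m := m)).coprime_dvd_right (dvd_mul_right _ _)) ?_ ?_)))
    · rw [← natCard_grpH (F := F) (m := m)]; exact Subgroup.orderOf_dvd_natCard _ hac
    · rw [← natCard_grpU (F := F) (m := m)]; exact Subgroup.orderOf_dvd_natCard _ (hA ha.1.2)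

variable (M) in
/-- The `M`-orbit of `∞`. -/
def orbInf : Set (Pts F m) := {p | ∃ g ∈ M, g • pinf F m = p}

theorem card_orbInf : (orbInf M).ncard * Nat.card ↥(M ⊓ stabilizer (Gp F m) (pinf F m)) =
    Nat.card M := by
  have h := (stabilizer ↥M (pinf F m)).card_mul_index
  rw [index_stabilizer] at h
  have e1 : orbit ↥M (pinf F m) = orbInf M := by
    ext p
    exact ⟨fun ⟨g, hg⟩ => ⟨g, g.2, hg⟩, fun ⟨g, hg, e⟩ => ⟨⟨g, hg⟩, e⟩⟩
  have e2 : stabilizer ↥M (pinf F m) = (stabilizer (Gp F m) (pinf F m)).subgroupOf M := by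
    ext g; rfl
  rw [e1, e2, ← Subgroup.inf_subgroupOf_right, inf_comm,
    Nat.card_congr (Subgroup.subgroupOfEquivOfLe inf_le_left).toEquiv] at h
  rw [← h, mul_comm]

theorem card_grpU_dvd_orbit :
    Nat.card ↥(M ⊓ grpU F m) ∣ (orbInf M).ncard - 1 := by
  rw [← Set.ncard_sdiff_singleton_of_mem (show pinf F m ∈ orbInf M from
    ⟨1, one_mem M, one_smul _ _⟩)]
  refine card_dvd_of_free (G := ↥(M ⊓ grpU F m)) _ (fun s p hp => ?_) fun s p hp hsp => ?_
  · obtain ⟨⟨g, hg, hgp⟩, hne⟩ := hp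
    refine ⟨⟨(s : Gp F m) * g, M.mul_mem s.2.1 hg, by rw [mul_smul, hgp]; rfl⟩, fun e => hne ?_⟩
    obtain ⟨a, b, hab⟩ := s.2.2
    have e' : (s : Gp F m) • p = pinf F m := e
    rw [hab, ← gT_smul_pinf (m := m) a b] at e'
    exact MulAction.injective _ e'
  · by_contra hs
    exact hp.2 (grpU_fix s.2.2 (fun e => hs (Subtype.ext e)) hsp)

theorem card_le_sq : Nat.card ↥(M ⊓ grpU F m) ≤
    Nat.card ↥(M ⊓ grpZ F m) * Nat.card ↥(M ⊓ grpZ F m) := by
  classical
  haveI := Fintype.ofFinite ↥(M ⊓ grpU F m)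
  haveI := Fintype.ofFinite ↥(M ⊓ grpZ F m)
  let f : ↥(M ⊓ grpU F m) → ↥(M ⊓ grpZ F m) := fun y =>
    ⟨(y : Gp F m) * y, M.mul_mem y.2.1 y.2.1, by
      obtain ⟨a, b, hab⟩ := y.2.2
      rw [hab, gT_sq]; exact ⟨_, rfl⟩⟩
  rw [Nat.card_eq_fintype_card, Nat.card_eq_fintype_card, ← Finset.card_univ, mul_comm]
  refine (Finset.card_le_mul_card_image (f := f) Finset.univ (Fintype.card ↥(M ⊓ grpZ F m))
    fun z _ => ?_).trans (Nat.mul_le_mul_left _ (Finset.card_le_univ _))
  rcases (Finset.univ.filter fun y => f y = z).eq_empty_or_nonempty with h | ⟨y0, hy0⟩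
  · rw [h]; simp
  let j : {y // f y = z} → ↥(M ⊓ grpZ F m) := fun y =>
    ⟨(y0 : Gp F m)⁻¹ * y.1, M.mul_mem (M.inv_mem y0.2.1) y.1.2.1, by
      obtain ⟨a, b, hab⟩ := y0.2.2
      obtain ⟨c, d, hcd⟩ := y.1.2.2
      have hz : (y0 : Gp F m) * y0 = (y.1 : Gp F m) * y.1 :=
        congrArg Subtype.val ((Finset.mem_filter.1 hy0).2.trans y.2.symm)
      rw [hab, hcd, gT_sq, gT_sq] at hz
      have hz' := (gT_inj hz).2
      have hac : a = c := by
        rcases eq_or_ne c 0 with rfl | hc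
        · rcases mul_eq_zero.1 (hz'.trans (by simp)) with e | e
          · exact (map_eq_zero (sg F m)).1 e
          · exact e
        · refine (div_eq_one_iff_eq hc).1 (eq_one_of_sg_mul_self hP.card ?_)
          rw [map_div₀, div_mul_div_comm, hz',
            div_self (mul_ne_zero ((map_ne_zero (sg F m)).2 hc) hc)]
      rw [hab, hcd, hac, gT_inv, gT_mul]
      exact ⟨_, by rw [CharTwo.add_self_eq_zero]⟩⟩
  rw [← Fintype.card_subtype]
  exact Fintype.card_le_of_injective j fun y y' h =>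
    Subtype.ext (Subtype.ext (mul_left_cancel (congrArg Subtype.val h)))

/-- The counting: a large subgroup has the parameters of a Suzuki group. -/
theorem big_params (hx : MeetsU M)
    (hsplit : Nat.card ↥(M ⊓ stabilizer (Gp F m) (pinf F m)) =
      Nat.card ↥(M ⊓ grpU F m) * Nat.card ↥(M ⊓ grpH F m))
    (hh : 1 < Nat.card ↥(M ⊓ grpH F m)) (hns : ¬ M ≤ stabilizer (Gp F m) (pinf F m)) :
    (∃ w ∈ M, w ∈ Subgroup.normalizer (grpH F m : Set (Gp F m)) ∧ w ∉ grpH F m) ∧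
      (orbInf M).ncard = Nat.card ↥(M ⊓ grpU F m) + 1 ∧
      Nat.card ↥(M ⊓ grpU F m) = Nat.card ↥(M ⊓ grpZ F m) * Nat.card ↥(M ⊓ grpZ F m) ∧
      Nat.card ↥(M ⊓ grpH F m) = Nat.card ↥(M ⊓ grpZ F m) - 1 ∧
      5 ≤ Nat.card ↥(M ⊓ grpH F m) := by
  classical
  set s := Nat.card ↥(M ⊓ grpU F m) with hsdef
  set h := Nat.card ↥(M ⊓ grpH F m) with hhdef
  set z := Nat.card ↥(M ⊓ grpZ F m) with hzdef
  set g := Nat.card M with hgdef
  set r := (orbInf M).ncard with hrdef
  have hU := card_cls_grpU M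
  rw [hsplit, ← hgdef] at hU
  have hI := hx.card_invols
  rw [hsplit, ← hgdef, ← hzdef] at hI
  have hgr : g = r * (s * h) := by rw [← hsplit, hgdef, hrdef, card_orbInf]
  have hhq : h ∣ Fintype.card F - 1 := natCard_grpH (F := F) (m := m) ▸
    Subgroup.card_dvd_of_le inf_le_right
  have hh5 : 5 ≤ h := by
    have hodd : Odd h := (odd_card_sub_one (F := F) (m := m)).of_dvd_nat hhq
    have h3 := not_three_dvd (M ⊓ grpH F m)
    rw [← hhdef] at h3
    rcases hodd with ⟨j, hj⟩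
    omega
  have hhs : h ∣ s - 1 := card_inf_grpH_dvd (grpU F m) le_rfl fun c hc a ha =>
    grpU_conj_mem ha (by obtain ⟨t, rfl⟩ := hc; exact gH_smul_pinf t)
  have hhz : h ∣ z - 1 := card_inf_grpH_dvd (grpZ F m) (fun a ha => (mem_grpZ_iff.1 ha).1)
    (by rintro _ ⟨t, rfl⟩ _ ⟨b, rfl⟩; exact ⟨_, gH_conj_zero t b⟩)
  obtain ⟨a, ha1, ha, hamax⟩ := id hx.sylow_card
  rw [← hsdef] at ha
  have hs2 : 2 ≤ s := by rw [ha]; exact Nat.le_self_pow (by omega) 2
  have hseven : Even s := by rw [ha]; exact (Nat.even_pow' (by omega)).2 even_two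
  have hs8 : 8 ≤ s := by
    have := Nat.le_of_dvd (by omega) hhs
    rw [ha] at this ⊢
    rcases (show a = 1 ∨ a = 2 ∨ 3 ≤ a by omega) with rfl | rfl | h'
    · omega
    · omega
    · exact Nat.pow_le_pow_right (by norm_num : 0 < 2) h'
  have hz2 : 2 ≤ z := by
    obtain ⟨x, hxM, hxU, hx1⟩ := id hx
    obtain ⟨c, d, rfl⟩ := hxU
    refine Finite.one_lt_card_iff_nontrivial.2 ?_
    by_cases hc : sg F m c * c = 0
    · refine ⟨⟨⟨gT c d, hxM, mem_grpZ_iff.2 ⟨gT_mem c d, by rw [gT_sq, hc, gT_zero]⟩⟩, 1,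
        fun e => hx1 (congrArg Subtype.val e)⟩⟩
    · refine ⟨⟨⟨gT c d * gT c d, M.mul_mem hxM hxM, by rw [gT_sq]; exact ⟨_, rfl⟩⟩, 1, fun e => hc ?_⟩⟩
      have e' : gT (m := m) c d * gT c d = 1 := congrArg Subtype.val e
      rw [gT_sq] at e'
      exact (gT_inj (e'.trans gT_zero.symm)).2
  have hr1 : 1 ≤ r := Nat.one_le_iff_ne_zero.2 fun e => by
    rw [e, zero_mul] at hgr
    exact Nat.card_pos.ne' hgr
  obtain ⟨k, hk⟩ := card_grpU_dvd_orbit (M := M)
  rw [← hsdef, ← hrdef] at hk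
  have hr : r = 1 + k * s := by rw [mul_comm] at hk; omega
  have hle : s * h ≤ g := by rw [hgr]; exact Nat.le_mul_of_pos_left _ hr1
  have hstab : g ≠ s * h := fun e => hns (inf_eq_left.1
    (Subgroup.eq_of_le_of_card_ge inf_le_left (by rw [hsplit, ← hgdef, e])))
  -- the class of the split torus
  obtain ⟨y0, hy0, hy01⟩ : ∃ y ∈ M ⊓ grpH F m, y ≠ 1 :=
    (Subgroup.bot_or_exists_ne_one _).resolve_left fun e => by
      rw [hhdef, e, Subgroup.card_bot] at hh; omega
  obtain ⟨eH, xH, heH, hxH, -, -, hNH, hcH⟩ :=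
    torus_class M (isTorus_grpH (F := F) (m := m)) ⟨y0, hy0.1, hy0.2, hy01⟩
  rw [← hhdef] at hxH
  subst hxH
  rw [← hgdef] at hcH
  have hdUH := cls_grpU_disjoint M (tor_grpH (F := F) (m := m))
  set A0 := cls M (grpU F m) ∪ cls M (grpH F m) with hA0def
  have hA0 : A0 ⊆ (M : Set (Gp F m)) \ {1} := Set.union_subset (cls_subset _ _) (cls_subset _ _)
  have hA0card : A0.ncard = (cls M (grpU F m)).ncard + (cls M (grpH F m)).ncard :=
    Set.ncard_union_eq hdUH
  set cU := (cls M (grpU F m)).ncard with hcUdef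
  set cH := (cls M (grpH F m)).ncard with hcHdef
  have heH2 : eH = 2 := by
    rcases (Nat.dvd_prime Nat.prime_two).1 heH with rfl | rfl
    swap; · rfl
    exfalso
    rw [one_mul] at hcH
    by_cases hall : A0.ncard + 1 = g
    · exact hstab (SubArith.one_fix hU hcH hs2 (by omega) (by rw [← hA0card]; exact hall))
    obtain ⟨y, hy, hy1, hyA⟩ := exists_not_covered M hA0 hall
    obtain ⟨T, n, e, x, hT, hyT, -, he, -, hx5, -, hc, hdU, -⟩ :=
      hx.next_class Set.subset_union_left hy hy1 hyA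
    have hd := cls_disjoint M (tor_grpH (F := F) (m := m)) hT.tor hy hy1 hyT
      (fun h => hyA (Or.inr h))
    have hle' := covered_le M (Set.union_subset hA0 (cls_subset M T))
    rw [Set.ncard_union_eq (Set.disjoint_union_left.2 ⟨hdU, hd⟩), hA0card, ← hgdef] at hle'
    have b := SubArith.class_bound hx5 hc
    rw [← hgdef] at b
    have hg0 : 0 < g := Nat.card_pos
    have hc5 : g ≤ 5 * (cls M T).ncard := by rcases he with rfl | rfl | rfl <;> omega
    have := SubArith.one_one hU hcH hs2 (by omega) hle' hle (Or.inl hc5) (by nlinarith)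
    omega
  subst heH2
  have hw : ∃ w ∈ M, w ∈ Subgroup.normalizer (grpH F m : Set (Gp F m)) ∧ w ∉ grpH F m := by
    by_contra hc
    push Not at hc
    have := Subgroup.card_dvd_of_le (show M ⊓ Subgroup.normalizer (grpH F m : Set (Gp F m)) ≤
      M ⊓ grpH F m from fun w hw => ⟨hw.1, hc w hw.1 hw.2⟩)
    rw [hNH, ← hhdef] at this
    have := Nat.le_of_dvd (by omega) this
    omega
  -- the other classes
  by_cases hall : A0.ncard + 1 = g
  · exact (SubArith.rest_ne_zero hU hcH (by omega) (by omega) hle (by rw [← hA0card]; exact hall)).elim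
  obtain ⟨y, hy, hy1, hyA⟩ := exists_not_covered M hA0 hall
  obtain ⟨T, n, e, x, hT, hyT, hen, he, hxdef, hx5, hN, hc, hdU, -⟩ :=
    hx.next_class Set.subset_union_left hy hy1 hyA
  have hdH := cls_disjoint M (tor_grpH (F := F) (m := m)) hT.tor hy hy1 hyT (fun h => hyA (Or.inr h))
  set A1 := A0 ∪ cls M T with hA1def
  have hA1 : A1 ⊆ (M : Set (Gp F m)) \ {1} := Set.union_subset hA0 (cls_subset _ _)
  have hA1card : A1.ncard = cU + cH + (cls M T).ncard := by
    rw [hA1def, Set.ncard_union_eq (Set.disjoint_union_left.2 ⟨hdU, hdH⟩), hA0card]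
  rw [← hgdef] at hc
  have b := SubArith.class_bound hx5 hc
  have hle1 := covered_le M hA1
  rw [hA1card, ← hgdef] at hle1
  have hhalf : ∀ R, cU + cH + R + 1 ≤ g → 2 * R < g := by
    intro R hR
    have h' := SubArith.rest_lt_half (R := g - 1 - cU - cH) hU hcH (by omega) (by omega) (by omega)
    omega
  have hRT := hhalf _ hle1
  by_cases hall1 : A1.ncard + 1 = g
  · exfalso
    rw [hA1card] at hall1
    rcases he with rfl | rfl | rfl
    · omega
    · have h1 := SubArith.two_eq hU hcH hc (by omega) (by omega) (by omega) hall1 hgr hr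
      have hk1 : 1 ≤ k := Nat.one_le_iff_ne_zero.2 fun e => hstab (by
        rw [hgr, hr, e]; ring)
      obtain ⟨e1, e2⟩ := SubArith.two_contra h1 hhs hs8 hseven (by omega) hk1
      apply not_three_dvd M
      rw [← hgdef, hgr, hr, e1, e2, one_mul]
      rcases (show s % 3 = 0 ∨ s % 3 = 1 ∨ s % 3 = 2 by omega) with e | e | e
      · exact (Dvd.dvd.mul_right (Nat.dvd_of_mod_eq_zero e) _).mul_left _
      · exact (Dvd.dvd.mul_left (show 3 ∣ s - 1 by omega) _).mul_left _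
      · exact Dvd.dvd.mul_right (show 3 ∣ 1 + s by omega) _
    · exact SubArith.four_one hU hcH hc hs8 hh5 hx5 hall1 hgr hr1
  obtain ⟨y', hy', hy1', hyA'⟩ := exists_not_covered M hA1 hall1
  obtain ⟨T', n', e', x', hT', hyT', hen', he', hxdef', hx5', hN', hc', hdU', -⟩ :=
    hx.next_class (fun u hu => Or.inl (Or.inl hu)) hy' hy1' hyA'
  have hdH' := cls_disjoint M (tor_grpH (F := F) (m := m)) hT'.tor hy' hy1' hyT'
    (fun h => hyA' (Or.inl (Or.inr h)))
  have hdT := cls_disjoint M hT.tor hT'.tor hy' hy1' hyT' (fun h => hyA' (Or.inr h))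
  set A2 := A1 ∪ cls M T' with hA2def
  have hA2 : A2 ⊆ (M : Set (Gp F m)) \ {1} := Set.union_subset hA1 (cls_subset _ _)
  have hA2card : A2.ncard = cU + cH + (cls M T).ncard + (cls M T').ncard := by
    rw [hA2def, Set.ncard_union_eq (Set.disjoint_union_left.2
      ⟨Set.disjoint_union_left.2 ⟨hdU', hdH'⟩, hdT⟩), hA1card]
  rw [← hgdef] at hc'
  have b' := SubArith.class_bound hx5' hc'
  have hle2 := covered_le M hA2
  rw [hA2card, ← hgdef] at hle2
  have hR2 := hhalf ((cls M T).ncard + (cls M T').ncard) (by omega)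
  have h44 : e = 4 ∧ e' = 4 := by
    rcases he with rfl | rfl | rfl <;> rcases he' with rfl | rfl | rfl <;> omega
  obtain ⟨rfl, rfl⟩ := h44
  have hall2 : A2.ncard + 1 = g := by
    by_contra hne
    obtain ⟨y'', hy'', hy1'', hyA''⟩ := exists_not_covered M hA2 hne
    obtain ⟨T'', n'', e'', x'', hT'', hyT'', -, he'', -, hx5'', -, hc'', hdU'', -⟩ :=
      hx.next_class (fun u hu => Or.inl (Or.inl (Or.inl hu))) hy'' hy1'' hyA''
    have d1 := cls_disjoint M (tor_grpH (F := F) (m := m)) hT''.tor hy'' hy1'' hyT''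
      (fun h => hyA'' (Or.inl (Or.inl (Or.inr h))))
    have d2 := cls_disjoint M hT.tor hT''.tor hy'' hy1'' hyT'' (fun h => hyA'' (Or.inl (Or.inr h)))
    have d3 := cls_disjoint M hT'.tor hT''.tor hy'' hy1'' hyT'' (fun h => hyA'' (Or.inr h))
    have hle3 := covered_le M (Set.union_subset hA2 (cls_subset M T''))
    rw [Set.ncard_union_eq (Set.disjoint_union_left.2 ⟨Set.disjoint_union_left.2
      ⟨Set.disjoint_union_left.2 ⟨hdU'', d1⟩, d2⟩, d3⟩), hA2card, ← hgdef] at hle3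
    rw [← hgdef] at hc''
    have b'' := SubArith.class_bound hx5'' hc''
    have := hhalf ((cls M T).ncard + (cls M T').ncard + (cls M T'').ncard) (by omega)
    rcases he'' with rfl | rfl | rfl <;> omega
  rw [hA2card] at hall2
  have heq := SubArith.four_four hU hcH hc hc' (by omega) (by omega) (by omega) (by omega) hall2 hgr hr
  -- the orders of the tori divide `r`
  have hn4 : ∀ {T : Subgroup (Gp F m)} {n : ℕ}, IsTorus T n → 4 ∣ n → n = 4 := by
    intro T n hT h4
    rcases hT.tor.two_four with rfl | rfl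
    · omega
    · rfl
  have hxd : ∀ {T : Subgroup (Gp F m)} {n x : ℕ}, IsTorus T n → 4 ∣ n →
      x = Nat.card ↥(M ⊓ T) → x ∣ r := by
    intro T n x hT h4 hxd
    have hxT : x ∣ Fintype.card F ^ 2 + 1 :=
      hxd ▸ (Subgroup.card_dvd_of_le inf_le_right).trans (hT.nonsplit (hn4 hT h4))
    have hco : x.Coprime (s * h) := by
      refine Nat.Coprime.mul_right ?_ ?_
      · rw [ha]
        exact coprime_two_pow (F := F) (m := m)
          ((odd_card_sq_add_one (F := F) (m := m)).of_dvd_nat hxT)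
      · exact ((coprime_sq (F := F) (m := m)).symm.coprime_dvd_left hxT).coprime_dvd_right hhq
    have hg : x ∣ r * (s * h) := hgr ▸ hxd ▸ Subgroup.card_dvd_of_le inf_le_left
    exact hco.dvd_of_dvd_mul_right hg
  have hxy : x.Coprime x' := by
    refine Nat.coprime_of_dvd fun p hp h1 h2 => ?_
    haveI := Fact.mk hp
    rw [hxdef] at h1
    rw [hxdef'] at h2
    obtain ⟨⟨u, huM, huT⟩, huo⟩ := exists_prime_orderOf_dvd_card' p h1
    obtain ⟨⟨v, hvM, hvT⟩, hvo⟩ := exists_prime_orderOf_dvd_card' p h2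
    replace huo : orderOf u = p := (Subgroup.orderOf_coe _).trans huo
    replace hvo : orderOf v = p := (Subgroup.orderOf_coe _).trans hvo
    have hp2 : p ≠ 2 := by
      rintro rfl
      exact Nat.not_even_iff_odd.2 (hT.tor.odd.of_dvd_nat
        ((huo ▸ Subgroup.orderOf_dvd_natCard _ huT))) even_two
    have hu1 : u ≠ 1 := ne_one_of_prime hp huo
    have hv1 : v ≠ 1 := ne_one_of_prime hp hvo
    obtain ⟨P, hP'⟩ := (IsPGroup.of_card (p := p) (G := Subgroup.zpowers (⟨u, huM⟩ : M)) (n := 1)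
      (by rw [Nat.card_zpowers, Subgroup.orderOf_mk, huo, pow_one])).exists_le_sylow
    obtain ⟨Q, hQ⟩ := (IsPGroup.of_card (p := p) (G := Subgroup.zpowers (⟨v, hvM⟩ : M)) (n := 1)
      (by rw [Nat.card_zpowers, Subgroup.orderOf_mk, hvo, pow_one])).exists_le_sylow
    obtain ⟨c, hc0⟩ := MulAction.exists_smul_eq M Q P
    have hvP : c * (⟨v, hvM⟩ : M) * c⁻¹ ∈ (P : Subgroup M) := by
      rw [← hc0]
      exact Subgroup.smul_mem_pointwise_smul _ (MulAut.conj c) _ (hQ (Subgroup.mem_zpowers _))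
    obtain ⟨R, hR⟩ := (P.isPGroup'.map M.subtype).exists_le_sylow
    have := sylow_cyclic hp2 R
    let _ := IsCyclic.commGroup (α := ↥(R : Subgroup (Gp F m)))
    have huR : u ∈ (R : Subgroup (Gp F m)) :=
      hR ⟨⟨u, huM⟩, hP' (Subgroup.mem_zpowers _), rfl⟩
    have hvR : (c : Gp F m) * v * (c : Gp F m)⁻¹ ∈ (R : Subgroup (Gp F m)) := hR ⟨_, hvP, rfl⟩
    have hcomm : (c : Gp F m) * v * (c : Gp F m)⁻¹ * u = u * ((c : Gp F m) * v * (c : Gp F m)⁻¹) :=
      congrArg Subtype.val (mul_comm (⟨_, hvR⟩ : ↥(R : Subgroup (Gp F m))) ⟨u, huR⟩)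
    have hcT : (c : Gp F m) * v * (c : Gp F m)⁻¹ ∈ T := by
      rw [← hT.tor.cent u huT hu1, Subgroup.mem_centralizer_singleton_iff]
      exact hcomm
    exact Set.disjoint_left.1 hdT ⟨hvM, hv1, c, c.2, hcT⟩ (mem_cls_self hvM hv1 hvT)
  obtain ⟨-, hsum⟩ := SubArith.coprime_dvd_r hr hseven hs2
    (hxy.mul_dvd_of_dvd_of_dvd (hxd hT hen hxdef) (hxd hT' hen' hxdef')) heq
    (Nat.mul_pos (by omega) (by omega))
  -- the pairs of involutions
  have hI' : (invols M).ncard = r * (z - 1) := by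
    refine Nat.eq_of_mul_eq_mul_right (show 0 < s * h from Nat.mul_pos (by omega) (by omega)) ?_
    rw [hI, hgr]; ring
  have hpairs : (invols M).ncard * (invols M).ncard = (invols M).ncard * (z - 1) + cH * h +
      (cls M T).ncard * x + (cls M T').ncard * x' := by
    set I := invols M with hIdef
    have hinv : ∀ i ∈ I, i⁻¹ = i := fun i hi => inv_eq_of_mul_eq_one_right hi.2.1
    let Pr : Set (Gp F m) → Set (Gp F m × Gp F m) := fun A =>
      {p | p.1 ∈ I ∧ p.2 ∈ I ∧ p.1 * p.2 ∈ A}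
    have htor : ∀ {T : Subgroup (Gp F m)} {n : ℕ}, IsTorus T n →
        2 ∣ Nat.card ↥(M ⊓ Subgroup.normalizer (T : Set (Gp F m))) →
        (Pr (cls M T)).ncard = (cls M T).ncard * Nat.card ↥(M ⊓ T) := by
      intro T n hT h2
      refine card_pairs I _ _ fun u hu => ?_
      obtain ⟨huM, hu1, c, hc, hcT⟩ := hu
      rw [← ncard_fib_torus (M := M) hT.tor (M.mul_mem (M.mul_mem hc huM) (M.inv_mem hc)) hcT
        (conj_ne_one (F := F) (m := m) hu1 c) h2, ncard_fib_conj hc]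
      congr 1
      ext i
      constructor
      · rintro ⟨hi, hj⟩; exact ⟨hi, by rwa [hinv i hi] at hj⟩
      · rintro ⟨hi, hj⟩; exact ⟨hi, by rwa [hinv i hi]⟩
    set B := ({1} : Set (Gp F m)) ∪ cls M (grpU F m) with hBdef
    have hB : (Pr B).ncard = I.ncard * (z - 1) := by
      have e : ↥(Pr B) ≃ Σ i : I, {j | j ∈ I ∧ ((i : Gp F m) * j = 1 ∨ (i : Gp F m) * j ∈
          cls M (grpU F m))} :=
        { toFun := fun p => ⟨⟨p.1.1, p.2.1⟩, ⟨p.1.2, p.2.2.1, p.2.2.2⟩⟩
          invFun := fun q => ⟨(q.1.1, q.2.1), q.1.2, q.2.2.1, q.2.2.2⟩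
          left_inv := fun p => rfl
          right_inv := fun q => rfl }
      haveI := Fintype.ofFinite I
      rw [← Nat.card_coe_set_eq, Nat.card_congr e, Nat.card_sigma]
      simp only [Nat.card_coe_set_eq]
      have e2 : ∀ i : I, {j | j ∈ I ∧ ((i : Gp F m) * j = 1 ∨ (i : Gp F m) * j ∈
          cls M (grpU F m))}.ncard = z - 1 := fun i => by
        exact Nat.eq_sub_of_add_eq (hx.ncard_pairs_unipotent i.2)
      rw [Finset.sum_congr rfl fun i _ => e2 i, Finset.sum_const, Finset.card_univ, smul_eq_mul,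
        ← Nat.card_eq_fintype_card, Nat.card_coe_set_eq]
    have huniv : ({1} : Set (Gp F m)) ∪ A2 = (M : Set (Gp F m)) := by
      refine Set.eq_of_subset_of_ncard_le (Set.union_subset (by simp [one_mem])
        (hA2.trans Set.sdiff_subset)) ?_
      rw [Set.ncard_union_eq (Set.disjoint_singleton_left.2 fun h => (hA2 h).2 rfl),
        Set.ncard_singleton, hA2card, ← Nat.card_coe_set_eq]
      show g ≤ _
      omega
    have hsq : (Pr B ∪ Pr (cls M (grpH F m)) ∪ Pr (cls M T) ∪ Pr (cls M T')).ncard =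
        I.ncard * I.ncard := by
      rw [← Set.ncard_prod]
      congr 1
      ext ⟨i, j⟩
      constructor
      · rintro (((⟨hi, hj, -⟩ | ⟨hi, hj, -⟩) | ⟨hi, hj, -⟩) | ⟨hi, hj, -⟩) <;> exact ⟨hi, hj⟩
      · rintro ⟨hi, hj⟩
        have hm : i * j ∈ ({1} : Set (Gp F m)) ∪ A2 := huniv ▸ M.mul_mem hi.1 hj.1
        rcases hm with h1 | ((h1 | h1) | h1) | h1
        · exact Or.inl (Or.inl (Or.inl ⟨hi, hj, Or.inl h1⟩))
        · exact Or.inl (Or.inl (Or.inl ⟨hi, hj, Or.inr h1⟩))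
        · exact Or.inl (Or.inl (Or.inr ⟨hi, hj, h1⟩))
        · exact Or.inl (Or.inr ⟨hi, hj, h1⟩)
        · exact Or.inr ⟨hi, hj, h1⟩
    have hdis : ∀ {A B : Set (Gp F m)}, Disjoint A B → Disjoint (Pr A) (Pr B) := fun hd =>
      Set.disjoint_left.2 fun p hp hp' => Set.disjoint_left.1 hd hp.2.2 hp'.2.2
    have h1n : ∀ E : Subgroup (Gp F m), Disjoint ({1} : Set (Gp F m)) (cls M E) := fun E =>
      Set.disjoint_singleton_left.2 fun h => h.2.1 rfl
    have dB : ∀ {E : Subgroup (Gp F m)}, Disjoint (cls M (grpU F m)) (cls M E) →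
        Disjoint B (cls M E) := fun h => Set.disjoint_union_left.2 ⟨h1n _, h⟩
    rw [← hsq, Set.ncard_union_eq (Set.disjoint_union_left.2 ⟨Set.disjoint_union_left.2
        ⟨hdis (dB hdU'), hdis hdH'⟩, hdis hdT⟩),
      Set.ncard_union_eq (Set.disjoint_union_left.2 ⟨hdis (dB hdU), hdis hdH⟩),
      Set.ncard_union_eq (hdis (dB hdUH)), hB,
      htor (isTorus_grpH (F := F) (m := m)) (hNH ▸ dvd_mul_right 2 _),
      htor hT (hN ▸ Dvd.dvd.mul_right (by norm_num) _),
      htor hT' (hN' ▸ Dvd.dvd.mul_right (by norm_num) _), ← hxdef, ← hxdef', ← hhdef, ← hcHdef]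
  have hsz : s ≤ z * z := card_le_sq
  have hhz' : h ≤ z - 1 := Nat.le_of_dvd (by omega) hhz
  obtain ⟨rfl, hs', hh'⟩ := SubArith.invol_eq hr hgr hI' hcH hc hc' hpairs hsum (by omega) hhz' hsz
    (by omega) (by omega) (by omega) (by omega)
  exact ⟨hw, by rw [hr]; ring, hs', hh', hh5⟩

end CfsgLib.Suzuki
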