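import Cfsg.Agent.Lib.Suzuki.SubgroupCount
import Cfsg.Agent.Lib.Suzuki.SubgroupArith

/-!
# The subgroups of a Suzuki group: the cases settled by counting
-/

set_option autoImplicit false
set_option linter.unusedSectionVars false

namespace CfsgLib.Suzuki

open MulAction

variable {F : Type*} [Field F] [Fintype F] [CharP F 2] {m : ℕ} [hP : Param F m]

include hP

variable (M : Subgroup (Gp F m))

/-- Containment in a point stabilizer or the normalizer of a torus. -/
def IsSmall : Prop :=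
  (∃ p : Pts F m, M ≤ stabilizer (Gp F m) p) ∨
    ∃ (T : Subgroup (Gp F m)) (n : ℕ), IsTorus T n ∧ M ≤ Subgroup.normalizer (T : Set (Gp F m))

theorem card_M_eq (A : Set (Gp F m)) (hA : A = (M : Set (Gp F m)) \ {1}) :
    A.ncard + 1 = Nat.card M := by
  rw [hA, Set.ncard_sdiff_singleton_add_one (show (1 : Gp F m) ∈ (M : Set (Gp F m)) from one_mem M)]
  rfl

theorem exists_not_covered {A : Set (Gp F m)} (hA : A ⊆ (M : Set (Gp F m)) \ {1})
    (h : A.ncard + 1 ≠ Nat.card M) : ∃ y ∈ M, y ≠ 1 ∧ y ∉ A := by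
  by_contra hc
  push Not at hc
  exact h (card_M_eq M A (Set.Subset.antisymm hA fun y hy => hc y hy.1 hy.2))

theorem covered_le {A : Set (Gp F m)} (hA : A ⊆ (M : Set (Gp F m)) \ {1}) :
    A.ncard + 1 ≤ Nat.card M := by
  rw [← card_M_eq M _ rfl]
  exact Nat.add_le_add_right (Set.ncard_le_ncard hA) 1

theorem le_normalizer_of_card {T : Subgroup (Gp F m)}
    (h : Nat.card ↥(M ⊓ Subgroup.normalizer (T : Set (Gp F m))) = Nat.card M) :
    M ≤ Subgroup.normalizer (T : Set (Gp F m)) :=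
  inf_eq_left.1 (Subgroup.eq_of_le_of_card_ge inf_le_left h.ge)

/-- A subgroup of odd order is cyclic. -/
theorem small_of_odd (h2 : ¬ 2 ∣ Nat.card M) : IsSmall M := by
  rcases eq_or_ne M ⊥ with rfl | hne
  · exact Or.inl ⟨pinf F m, bot_le⟩
  obtain ⟨y, hy, hy1⟩ := M.bot_or_exists_ne_one.resolve_left hne
  have hU : ∀ z ∈ M, z ≠ 1 → ¬ ∃ g : Gp F m, g * z * g⁻¹ ∈ grpU F m := by
    rintro z hz hz1 ⟨g, hg⟩
    have h1 := Subgroup.orderOf_dvd_natCard _ hg
    rw [CfsgLib.Ree.orderOf_conj', natCard_grpU, hP.card, ← pow_mul] at h1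
    exact hz1 (orderOf_eq_one_iff.1 (Nat.eq_one_of_dvd_coprimes
      ((coprime_two_pow (F := F) (m := m) (Nat.odd_iff.2 (Nat.two_dvd_ne_zero.1 h2)))).symm h1
      (Subgroup.orderOf_dvd_natCard _ hz)))
  have he : ∀ {e n x : ℕ}, (n = 2 ∨ n = 4) → e ∣ n → e * x ∣ Nat.card M → e = 1 := by
    intro e n x hn hen hd
    by_contra hne
    obtain ⟨p, hp, hpe⟩ := Nat.exists_prime_and_dvd hne
    have hp2 : p = 2 := (Nat.prime_dvd_prime_iff_eq hp Nat.prime_two).1 (by
      have : p ∣ 2 ^ 2 := (hpe.trans hen).trans (by rcases hn with rfl | rfl <;> norm_num)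
      exact hp.dvd_of_dvd_pow this)
    exact h2 ((hp2 ▸ hpe).trans ((dvd_mul_right e x).trans hd))
  obtain ⟨T, n, hT, hyT⟩ := exists_isTorus hy1 (hU y hy hy1)
  obtain ⟨e, x, hen, -, hx5, -, hN, hc⟩ := torus_class M hT ⟨y, hy, hyT, hy1⟩
  obtain rfl := he hT.tor.two_four hen (hN ▸ Subgroup.card_dvd_of_le inf_le_left)
  rw [one_mul] at hN hc
  by_cases hall : (cls M T).ncard + 1 = Nat.card M
  · refine Or.inr ⟨T, n, hT, le_normalizer_of_card M ?_⟩
    rw [hN]
    obtain ⟨x', rfl⟩ : ∃ x', x = x' + 1 := ⟨x - 1, by omega⟩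
    rw [Nat.add_sub_cancel, ← hall] at hc
    have : (cls M T).ncard = x' := by nlinarith
    omega
  exfalso
  obtain ⟨z, hz, hz1, hzc⟩ := exists_not_covered M (cls_subset M T) hall
  obtain ⟨T', n', hT', hzT⟩ := exists_isTorus hz1 (hU z hz hz1)
  obtain ⟨e', x', hen', -, hx5', -, hN', hc'⟩ := torus_class M hT' ⟨z, hz, hzT, hz1⟩
  obtain rfl := he hT'.tor.two_four hen' (hN' ▸ Subgroup.card_dvd_of_le inf_le_left)
  have hd := cls_disjoint M hT.tor hT'.tor hz hz1 hzT hzc
  have hle := covered_le M (Set.union_subset (cls_subset M T) (cls_subset M T'))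
  rw [Set.ncard_union_eq hd] at hle
  have b1 := SubArith.class_bound (e := 1) (g := Nat.card M) (c := (cls M T).ncard) hx5
    (by rw [one_mul]; exact hc)
  have b2 := SubArith.class_bound hx5' hc'
  omega

/-! ### Subgroups meeting `U` -/

/-- `M` meets `U` nontrivially. -/
def MeetsU : Prop := ∃ x ∈ M, x ∈ grpU F m ∧ x ≠ 1

variable {M}

theorem MeetsU.sylow_card (hx : MeetsU M) :
    ∃ a, 1 ≤ a ∧ Nat.card ↥(M ⊓ grpU F m) = 2 ^ a ∧ ∀ b, 2 ^ b ∣ Nat.card M → b ≤ a := by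
  obtain ⟨x, hxM, hxU, hx1⟩ := hx
  have := Fact.mk Nat.prime_two
  have hdvd : Nat.card ↥(M ⊓ grpU F m) ∣ 2 ^ ((2 * m + 1) * 2) := by
    rw [pow_mul, ← hP.card, ← natCard_grpU (F := F) (m := m)]
    exact Subgroup.card_dvd_of_le inf_le_right
  obtain ⟨a, -, ha⟩ := (Nat.dvd_prime_pow Nat.prime_two).1 hdvd
  refine ⟨a, ?_, ha, fun b hb => ?_⟩
  · by_contra h0
    rw [show a = 0 by omega, pow_zero] at ha
    exact hx1 (Subgroup.mem_bot.1 ((Subgroup.eq_bot_of_card_eq _ ha) ▸ ⟨hxM, hxU⟩))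
  · have hpS : IsPGroup 2 ↥((grpU F m).subgroupOf M) :=
      (IsPGroup.of_card (G := grpU F m) (n := (2 * m + 1) * 2)
        (by rw [natCard_grpU, hP.card, ← pow_mul])).comap_of_injective M.subtype M.subtype_injective
    obtain ⟨Q, hQ⟩ := hpS.exists_le_sylow
    have hQU : (Q : Subgroup M).map M.subtype ≤ M ⊓ grpU F m :=
      le_inf (by rintro _ ⟨y, -, rfl⟩; exact y.2)
        (twoGroup_le_grpU hxU hx1 (Q.isPGroup'.map M.subtype) ⟨⟨x, hxM⟩, hQ hxU, rfl⟩)
    have h1 := Subgroup.card_dvd_of_le hQU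
    rw [Subgroup.card_map_of_injective M.subtype_injective, Sylow.card_eq_multiplicity, ha,
      Nat.pow_dvd_pow_iff_le_right one_lt_two] at h1
    exact le_trans ((Nat.Prime.pow_dvd_iff_le_factorization Nat.prime_two Nat.card_pos.ne').1 hb) h1

/-- The data of the class of a torus through an uncovered element. -/
theorem MeetsU.next_class (hx : MeetsU M) {A : Set (Gp F m)} (hUA : cls M (grpU F m) ⊆ A)
    {y : Gp F m} (hy : y ∈ M) (hy1 : y ≠ 1) (hyA : y ∉ A) :
    ∃ T n e x, IsTorus T n ∧ y ∈ T ∧ e ∣ n ∧ (e = 1 ∨ e = 2 ∨ e = 4) ∧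
      x = Nat.card ↥(M ⊓ T) ∧ 5 ≤ x ∧
      Nat.card ↥(M ⊓ Subgroup.normalizer (T : Set (Gp F m))) = e * x ∧
      (cls M T).ncard * (e * x) = Nat.card M * (x - 1) ∧
      Disjoint (cls M (grpU F m)) (cls M T) ∧ (e = 4 → 4 ≤ Nat.card ↥(M ⊓ grpU F m)) := by
  obtain ⟨x0, hx0M, hx0U, hx01⟩ := id hx
  obtain ⟨T, n, hT, hyT⟩ := exists_isTorus hy1
    (fun ⟨g, hg⟩ => hyA (hUA (mem_cls_grpU M hx0M hx0U hx01 hy hy1 hg)))
  obtain ⟨e, x, hen, hxe, hx5, -, hN, hc⟩ := torus_class M hT ⟨y, hy, hyT, hy1⟩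
  refine ⟨T, n, e, x, hT, hyT, hen, ?_, hxe, hx5, hN, hc, cls_grpU_disjoint M hT.tor, fun h4 => ?_⟩
  · have h4 : e ∣ 2 ^ 2 := hen.trans (by rcases hT.tor.two_four with rfl | rfl <;> norm_num)
    obtain ⟨i, hi, rfl⟩ := (Nat.dvd_prime_pow Nat.prime_two).1 h4
    interval_cases i <;> simp
  · obtain ⟨a, -, ha, hb⟩ := hx.sylow_card
    have : 2 ^ 2 ∣ Nat.card M := by
      rw [show (2 : ℕ) ^ 2 = e by omega]
      exact (dvd_mul_right e x).trans (hN ▸ Subgroup.card_dvd_of_le inf_le_left)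
    rw [ha]
    exact le_trans (by norm_num) (Nat.pow_le_pow_right (by norm_num : 0 < 2) (hb 2 this))

/-- If the Sylow 2-subgroup is self-normalizing. -/
theorem small_of_self_normalizing (hx : MeetsU M)
    (hS : Nat.card ↥(M ⊓ stabilizer (Gp F m) (pinf F m)) = Nat.card ↥(M ⊓ grpU F m)) :
    IsSmall M := by
  have hU := card_cls_grpU M
  rw [hS] at hU
  obtain ⟨a, ha1, ha, -⟩ := hx.sylow_card
  set s := Nat.card ↥(M ⊓ grpU F m) with hs
  have hs2 : 2 ≤ s := by rw [ha]; exact Nat.le_self_pow (by omega) 2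
  by_cases hall : (cls M (grpU F m)).ncard + 1 = Nat.card M
  · refine Or.inl ⟨pinf F m, inf_eq_left.1 (Subgroup.eq_of_le_of_card_ge inf_le_left ?_)⟩
    rw [hS]
    obtain ⟨s', hs'⟩ : ∃ s', s = s' + 1 := ⟨s - 1, by omega⟩
    rw [hs', Nat.add_sub_cancel, ← hall] at hU
    have : (cls M (grpU F m)).ncard = s' := by nlinarith
    omega
  obtain ⟨y, hy, hy1, hyA⟩ := exists_not_covered M (cls_subset M _) hall
  obtain ⟨T, n, e, x, hT, hyT, -, he, -, hx5, hN, hc, hdU, h4⟩ := hx.next_class subset_rfl hy hy1 hyA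
  rw [← hs] at h4
  have hsub := Set.union_subset (cls_subset M (grpU F m)) (cls_subset M T)
  have hle := covered_le M hsub
  rw [Set.ncard_union_eq hdU] at hle
  have b := SubArith.class_bound hx5 hc
  have key : ∀ R, (cls M (grpU F m)).ncard + R + 1 ≤ Nat.card M → s * R < Nat.card M := by
    intro R hR
    have h1 := Nat.mul_le_mul_right s hR
    rw [add_mul, add_mul, hU, Nat.mul_sub, mul_one] at h1
    have := Nat.mul_le_mul_left (Nat.card M) (show 1 ≤ s by omega)
    rw [mul_one] at this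
    rw [mul_comm s R]
    omega
  have hb1 := key _ hle
  have hcases : s = 2 ∨ s = 4 ∨ 8 ≤ s := by
    rw [ha]
    rcases (show a = 1 ∨ a = 2 ∨ 3 ≤ a by omega) with rfl | rfl | h
    · exact Or.inl rfl
    · exact Or.inr (Or.inl rfl)
    · exact Or.inr (Or.inr (Nat.pow_le_pow_right (by norm_num : 0 < 2) h))
  have hes : e = s := by
    rcases he with rfl | rfl | rfl <;> rcases hcases with hc2 | hc2 | hc2 <;>
      first
      | omega
      | (exfalso; have := Nat.mul_le_mul_right (cls M T).ncard hc2; omega)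
      | (exfalso; rw [hc2] at hb1; omega)
  have hall2 : (cls M (grpU F m) ∪ cls M T).ncard + 1 = Nat.card M := by
    by_contra hne
    obtain ⟨z, hz, hz1, hzA⟩ := exists_not_covered M hsub hne
    obtain ⟨T', n', e', x', hT', hzT, -, he', -, hx5', -, hc', hdU', h4'⟩ :=
      hx.next_class Set.subset_union_left hz hz1 hzA
    rw [← hs] at h4'
    have hd := cls_disjoint M hT.tor hT'.tor hz hz1 hzT (fun h => hzA (Or.inr h))
    have hle' := covered_le M (Set.union_subset hsub (cls_subset M T'))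
    rw [Set.ncard_union_eq (Set.disjoint_union_left.2 ⟨hdU', hd⟩), Set.ncard_union_eq hdU] at hle'
    have b' := SubArith.class_bound hx5' hc'
    have := key ((cls M T).ncard + (cls M T').ncard) (by omega)
    rw [← hes] at this h4'
    rcases he' with rfl | rfl | rfl <;> rcases he with rfl | rfl | rfl <;> omega
  rw [Set.ncard_union_eq hdU] at hall2
  refine Or.inr ⟨T, n, hT, le_normalizer_of_card M ?_⟩
  have hR : s * (cls M T).ncard + s = Nat.card M := by
    have h1 := congrArg (· * s) hall2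
    simp only [add_mul, one_mul] at h1
    rw [hU, Nat.mul_sub, mul_one] at h1
    have := Nat.mul_le_mul_left (Nat.card M) (show 1 ≤ s by omega)
    rw [mul_one] at this
    rw [mul_comm s]
    omega
  rw [hN]
  rw [← hes] at hR hs2
  rcases he with rfl | rfl | rfl
  · omega
  · exact (SubArith.single_two hx5 (by omega) hc).symm
  · exact (SubArith.single_four hx5 (by omega) hc).symm

end CfsgLib.Suzuki
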