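import Cfsg.Agent.Lib.Suzuki.SubgroupBig
import Cfsg.Agent.Lib.Suzuki.Subfield

/-!
# The subgroups of a Suzuki group
-/

set_option autoImplicit false
set_option linter.unusedSectionVars false
set_option maxHeartbeats 1000000

namespace CfsgLib.Suzuki

open MulAction

variable {F : Type*} [Field F] [Fintype F] [CharP F 2] {m : ℕ} [hP : Param F m]

include hP

variable {M : Subgroup (Gp F m)}

/-- The parameters force a subfield subgroup. -/
theorem eq_fieldSub_of_params {z : ℕ} (hz : 3 ≤ z) (hW : gW F m ∈ M)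
    (hstab : Nat.card ↥(M ⊓ stabilizer (Gp F m) (pinf F m)) = z * z * (z - 1))
    (hS : Nat.card ↥(M ⊓ grpU F m) = z * z) (hZ : Nat.card ↥(M ⊓ grpZ F m) = z)
    (hH : Nat.card ↥(M ⊓ grpH F m) = z - 1) (hr : (orbInf M).ncard = z * z + 1) :
    ∃ k, 1 ≤ k ∧ 2 * k + 1 ∣ 2 * m + 1 ∧ M = fieldSub F m (2 * k + 1) := by
  classical
  -- `z` is `2 ^ n` with `n` dividing `2 m + 1`
  have hzd : z ∣ 2 ^ (2 * m + 1) := by
    rw [← hP.card, ← natCard_grpZ (F := F) (m := m), ← hZ]
    exact Subgroup.card_dvd_of_le inf_le_right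
  obtain ⟨n, -, rfl⟩ := (Nat.dvd_prime_pow Nat.prime_two).1 hzd
  have hn2 : 2 ≤ n := by
    rcases (show n = 0 ∨ n = 1 ∨ 2 ≤ n by omega) with rfl | rfl | h
    · norm_num at hz
    · norm_num at hz
    · exact h
  have hdvd : 2 ^ n - 1 ∣ 2 ^ (2 * m + 1) - 1 := by
    rw [← hP.card, ← natCard_grpH (F := F) (m := m), ← hH]
    exact Subgroup.card_dvd_of_le inf_le_right
  have hnd : n ∣ 2 * m + 1 := by
    have hg2 := Nat.gcd_eq_left hdvd
    rw [Nat.pow_sub_one_gcd_pow_sub_one] at hg2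
    have hgn : Nat.gcd n (2 * m + 1) = n := by
      refine Nat.pow_right_injective le_rfl ?_
      have := Nat.two_pow_pos (Nat.gcd n (2 * m + 1))
      have := Nat.two_pow_pos n
      show 2 ^ Nat.gcd n (2 * m + 1) = 2 ^ n
      omega
    exact hgn ▸ Nat.gcd_dvd_right _ _
  obtain ⟨k, rfl⟩ : Odd n := by
    obtain ⟨d, hd⟩ := hnd
    exact (Nat.odd_mul.1 (hd ▸ ⟨m, rfl⟩ : Odd (n * d))).1
  refine ⟨k, by omega, hnd, ?_⟩
  set z := 2 ^ (2 * k + 1) with hzdef
  set K : Set F := {x | x ^ z = x} with hK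
  have hz1 : 1 < z := by omega
  -- the torus of `M` is the multiplicative group of the fixed field
  have htK : ∀ t : Fˣ, gH (m := m) t ∈ M → (t : F) ∈ K := by
    intro t ht
    have h1 := orderOf_dvd_iff_pow_eq_one.1 (hH ▸ Subgroup.orderOf_dvd_natCard _
      (show gH (m := m) t ∈ M ⊓ grpH F m from ⟨ht, gH_mem t⟩) : orderOf (gH (m := m) t) ∣ z - 1)
    rw [← map_pow, ← (gH (F := F) (m := m)).map_one] at h1
    have h2 := congrArg Units.val (gH_injective h1)
    rw [Units.val_pow_eq_pow_val, Units.val_one] at h2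
    show (t : F) ^ z = t
    rw [show z = z - 1 + 1 by omega, pow_succ, h2, one_mul]
  have hKcard : K.ncard ≤ z := by
    have hne := FiniteField.X_pow_card_sub_X_ne_zero F (p := z) hz1
    have hsub : K ⊆ ((Polynomial.X ^ z - Polynomial.X : Polynomial F).roots.toFinset : Set F) := by
      intro x hx
      rw [Finset.mem_coe, Multiset.mem_toFinset, Polynomial.mem_roots hne]
      simp [show x ^ z = x from hx]
    refine (Set.ncard_le_ncard hsub).trans ?_
    rw [Set.ncard_coe_finset]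
    refine (Multiset.toFinset_card_le _).trans ((Polynomial.card_roots' _).trans ?_)
    rw [FiniteField.X_pow_card_sub_X_natDegree_eq F hz1]
  let Ts : Set F := (fun t : Fˣ => (t : F)) '' {t | gH (m := m) t ∈ M}
  have hTs : Ts.ncard = z - 1 := by
    rw [Set.ncard_image_of_injective _ fun _ _ h => Units.ext h, ← hH, ← Nat.card_coe_set_eq]
    exact Nat.card_congr (Equiv.ofBijective
      (fun t => (⟨gH t.1, t.2, gH_mem t.1⟩ : ↥(M ⊓ grpH F m)))
      ⟨fun t u h => Subtype.ext (gH_injective (congrArg Subtype.val h)), fun c => by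
        obtain ⟨t, ht⟩ := c.2.2
        exact ⟨⟨t, show gH t ∈ M from ht ▸ c.2.1⟩, Subtype.ext ht⟩⟩)
  have hK0 : (0 : F) ∈ K := zero_pow (by omega)
  have hTsK : insert 0 Ts = K := by
    refine Set.eq_of_subset_of_ncard_le (Set.insert_subset hK0 ?_) ?_
    · rintro _ ⟨t, ht, rfl⟩; exact htK t ht
    · rw [Set.ncard_insert_of_notMem (by rintro ⟨t, -, ht⟩; exact t.ne_zero ht), hTs]
      omega
  have hKz : K.ncard = z := by
    rw [← hTsK, Set.ncard_insert_of_notMem (by rintro ⟨t, -, ht⟩; exact t.ne_zero ht), hTs]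
    omega
  have hHmem : ∀ t : Fˣ, (t : F) ∈ K → gH (m := m) t ∈ M := by
    intro t ht
    rw [← hTsK] at ht
    rcases ht with h | ⟨u, hu, h⟩
    · exact absurd h t.ne_zero
    · rw [← Units.ext h]; exact hu
  have hmul : ∀ {x y : F}, x ∈ K → y ∈ K → x * y ∈ K := fun {x y} hx hy => by
    show (x * y) ^ z = x * y
    rw [mul_pow, show x ^ z = x from hx, show y ^ z = y from hy]
  have hinvK : ∀ {x : F}, x ∈ K → x⁻¹ ∈ K := fun {x} hx => by
    show x⁻¹ ^ z = x⁻¹
    rw [inv_pow, show x ^ z = x from hx]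
  have haddK : ∀ {x y : F}, x ∈ K → y ∈ K → x + y ∈ K := fun {x y} hx hy => by
    show (x + y) ^ z = x + y
    rw [hzdef, add_pow_char_pow, show x ^ z = x from hx, show y ^ z = y from hy]
  have hsgK : ∀ {x : F}, x ∈ K → sg F m x ∈ K := fun {x} hx => by
    show (sg F m x) ^ z = sg F m x
    rw [← map_pow, show x ^ z = x from hx]
  -- the central translations
  set B : Set F := {b | gT (m := m) 0 b ∈ M} with hB
  have hBcard : B.ncard = z := by
    rw [← Nat.card_coe_set_eq]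
    refine Eq.trans ?_ hZ
    exact Nat.card_congr (Equiv.ofBijective
      (fun b => (⟨gT 0 b.1, b.2, b.1, rfl⟩ : ↥(M ⊓ grpZ F m)))
      ⟨fun b d h => Subtype.ext (gT_inj (congrArg Subtype.val h)).2, fun c => by
        obtain ⟨b, hb⟩ := c.2.2
        exact ⟨⟨b, show gT 0 b ∈ M from hb ▸ c.2.1⟩, Subtype.ext hb.symm⟩⟩)
  have hB0 : (0 : F) ∈ B := by show gT (m := m) (0 : F) 0 ∈ M; rw [gT_zero]; exact one_mem M
  obtain ⟨b0, hb0, hb00⟩ : ∃ b ∈ B, b ≠ 0 := Set.exists_ne_of_one_lt_ncard (by omega) 0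
  have hKB : ∀ c ∈ K, c * b0 ∈ B := by
    intro c hc
    rcases eq_or_ne c 0 with rfl | hc0
    · rwa [zero_mul]
    obtain ⟨t, ht⟩ := zFac_surjective (m := m) hc0
    have htK' : (t : F) ∈ K := by
      have h1 : zFac (m := m) (t ^ (z - 1)) = 1 := by
        rw [zFac, Units.val_pow_eq_pow_val, map_pow, ← pow_mul, mul_comm (z - 1), pow_mul, ← mul_pow]
        rw [show sg F m (t : F) * (t : F) ^ 2 = c from ht]
        have := show c ^ z = c from hc
        rw [show z = z - 1 + 1 by omega, pow_succ] at this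
        exact (mul_eq_right₀ hc0).1 this
      have h2 := congrArg Units.val (eq_one_of_sgsq (F := F) (m := m) h1)
      rw [Units.val_pow_eq_pow_val, Units.val_one] at h2
      show (t : F) ^ z = t
      rw [show z = z - 1 + 1 by omega, pow_succ, h2, one_mul]
    show gT (m := m) 0 (c * b0) ∈ M
    rw [← ht, ← gH_conj_zero]
    exact M.mul_mem (M.mul_mem (hHmem t htK') hb0) (M.inv_mem (hHmem t htK'))
  have hBeq : (fun c => c * b0) '' K = B := by
    refine Set.eq_of_subset_of_ncard_le (by rintro _ ⟨c, hc, rfl⟩; exact hKB c hc) ?_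
    rw [Set.ncard_image_of_injective _ fun _ _ h => mul_right_cancel₀ hb00 h, hKz, hBcard]
  -- the orbit
  have hWi : ∀ {a b : F}, gT (m := m) a b ∈ M → paff (m := m) a b ∈ orbInf M := fun {a b} h =>
    ⟨gT a b * gW F m, M.mul_mem h hW, by rw [mul_smul, gW_smul_pinf]; simp [gT_smul_paff]⟩
  set P : Set (F × F) := {p | gT (m := m) p.1 p.2 ∈ M} with hPdef
  have hPcard : P.ncard = z * z := by
    rw [← hS, ← Nat.card_coe_set_eq]
    exact Nat.card_congr (Equiv.ofBijective
      (fun p => (⟨gT p.1.1 p.1.2, p.2, gT_mem _ _⟩ : ↥(M ⊓ grpU F m)))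
      ⟨fun p q h => Subtype.ext (Prod.ext (gT_inj (congrArg Subtype.val h)).1
        (gT_inj (congrArg Subtype.val h)).2), fun c => by
        obtain ⟨a, b, hab⟩ := c.2.2
        exact ⟨⟨(a, b), show gT a b ∈ M from hab ▸ c.2.1⟩, Subtype.ext hab.symm⟩⟩)
  have horb : insert (pinf F m) ((fun p : F × F => paff (m := m) p.1 p.2) '' P) = orbInf M := by
    refine Set.eq_of_subset_of_ncard_le (Set.insert_subset ⟨1, one_mem M, one_smul _ _⟩ ?_) ?_
    · rintro _ ⟨p, hp, rfl⟩; exact hWi hp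
    · rw [hr, Set.ncard_insert_of_notMem (by rintro ⟨p, -, hp⟩; exact paff_ne_pinf _ _ hp),
        Set.ncard_image_of_injective _ (fun p q h => Prod.ext (paff_inj h).1 (paff_inj h).2), hPcard]
  have hmem : ∀ {g : Gp F m} {x y : F}, g ∈ M → g • pinf F m = paff x y → gT (m := m) x y ∈ M := by
    intro g x y hg h
    have : paff (m := m) x y ∈ orbInf M := ⟨g, hg, h⟩
    rw [← horb] at this
    rcases this with h' | ⟨p, hp, h'⟩
    · exact absurd h' (paff_ne_pinf _ _)
    · obtain ⟨e1, e2⟩ := paff_inj h'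
      rw [← e1, ← e2]; exact hp
  have hflip : ∀ {a b : F}, gT (m := m) a b ∈ M → ¬(a = 0 ∧ b = 0) →
      gT (m := m) (b / ov m a b) (a / ov m a b) ∈ M := fun {a b} h h0 =>
    hmem (g := gW F m * gT a b * gW F m) (M.mul_mem (M.mul_mem hW h) hW) (by
      rw [mul_smul, mul_smul, gW_smul_pinf, gT_smul_paff,
        show a + 0 = a by rw [add_zero], show b + 0 + sg F m a * 0 = b by ring, gW_smul_paff h0])
  have hsqB : ∀ {a b : F}, gT (m := m) a b ∈ M → sg F m a * a ∈ B := fun {a b} h => by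
    show gT (m := m) 0 (sg F m a * a) ∈ M
    rw [← gT_sq a b]
    exact M.mul_mem h h
  -- `B` is the fixed field
  have hb0K : b0 ∈ K := by
    have h1 := hflip (show gT (m := m) 0 b0 ∈ M from hb0) (by simp [hb00])
    have h2 := hsqB h1
    have hs : sg F m b0 ≠ 0 := (map_ne_zero (sg F m)).2 hb00
    rw [show ov m (0 : F) b0 = sg F m b0 by simp [ov], map_div₀, sg_sg hP.card,
      show sg F m b0 / b0 ^ 2 * (b0 / sg F m b0) = b0⁻¹ by field_simp] at h2
    rw [← hBeq] at h2
    obtain ⟨c, hc, hcb⟩ := h2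
    have hc' : c = (b0 * b0)⁻¹ := by
      rw [mul_inv, ← mul_right_cancel₀ hb00 (hcb.trans (show b0⁻¹ = b0⁻¹ * b0⁻¹ * b0 by field_simp))]
    have hsq : b0 * b0 ∈ K := by rw [← inv_inv (b0 * b0), ← hc']; exact hinvK hc
    have e : (b0 ^ z - b0) * (b0 ^ z - b0) = 0 := by
      have : (b0 * b0) ^ z = b0 * b0 := hsq
      rw [mul_pow] at this
      linear_combination this + (b0 * b0 - b0 ^ z * b0) * two_eq_zero (F := F)
    exact sub_eq_zero.1 (mul_self_eq_zero.1 e)
  have hBK : B = K := by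
    rw [← hBeq]
    refine Set.eq_of_subset_of_ncard_le (by rintro _ ⟨c, hc, rfl⟩; exact hmul hc hb0K) ?_
    rw [Set.ncard_image_of_injective _ fun _ _ h => mul_right_cancel₀ hb00 h]
  have hfst : ∀ {a b : F}, gT (m := m) a b ∈ M → a ∈ K := by
    intro a b h
    have h1 : sg F m a * a ∈ K := hBK ▸ hsqB h
    show a ^ z = a
    rcases eq_or_ne a 0 with rfl | ha
    · exact hK0
    refine (div_eq_one_iff_eq ha).1 (eq_one_of_sg_mul_self hP.card ?_)
    rw [map_div₀, map_pow, div_mul_div_comm, ← mul_pow, show (sg F m a * a) ^ z = sg F m a * a from h1,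
      div_self (mul_ne_zero ((map_ne_zero (sg F m)).2 ha) ha)]
  have hsnd : ∀ {a b : F}, gT (m := m) a b ∈ M → b ∈ K := by
    intro a b h
    rcases eq_or_ne a 0 with rfl | ha
    · exact hBK ▸ h
    by_contra hb
    have haK := hfst h
    have hd : ∀ d ∈ K, gT (m := m) a (b + d) ∈ M := fun d hd => by
      have := M.mul_mem h (show d ∈ B by rw [hBK]; exact hd)
      rwa [gT_mul, add_zero, mul_zero, add_zero] at this
    have hov : ∀ y : F, ov m a y ≠ 0 := fun y => ov_ne_zero hP.card fun e => ha e.1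
    set lam := b / ov m a b with hlam
    have hlamK : lam ∈ K := hfst (hflip h fun e => ha e.1)
    have hovK : ov m a b ∉ K := fun e => hb (by
      rw [show b = lam * ov m a b from (div_mul_cancel₀ b (hov b)).symm]
      exact hmul hlamK e)
    have key : ∀ d ∈ K, d = lam * (a * d + sg F m d) := by
      intro d hd'
      set lamd := (b + d) / ov m a (b + d) with hlamd
      have hlamdK : lamd ∈ K := hfst (hflip (hd d hd') fun e => ha e.1)
      have hov' : ov m a (b + d) = ov m a b + (a * d + sg F m d) := by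
        simp only [ov, map_add]; ring
      have e1 : lam * ov m a b = b := div_mul_cancel₀ b (hov b)
      have e2 : lamd * (ov m a b + (a * d + sg F m d)) = b + d := by
        rw [← hov']; exact div_mul_cancel₀ _ (hov _)
      by_cases hl : lam = lamd
      · linear_combination e1 - e2 - (ov m a b + (a * d + sg F m d)) * hl
      · exfalso
        refine hovK ?_
        have e3 : ov m a b = (d + lamd * (a * d + sg F m d)) * (lam + lamd)⁻¹ := by
          have hne : lam + lamd ≠ 0 := fun e => hl (CharTwo.add_eq_zero.1 e)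
          rw [eq_mul_inv_iff_mul_eq₀ hne]
          linear_combination e1 + e2 + (b - lamd * (a * d + sg F m d)) * two_eq_zero (F := F)
        rw [e3]
        exact hmul (haddK hd' (hmul hlamdK (haddK (hmul haK hd') (hsgK hd'))))
          (hinvK (haddK hlamK hlamdK))
    have h1K : (1 : F) ∈ K := one_pow z
    have k1 := key 1 h1K
    rw [map_one, mul_one] at k1
    obtain ⟨d, hdK, hd0, hd1⟩ : ∃ d ∈ K, d ≠ 0 ∧ d ≠ 1 := by
      by_contra hc
      push Not at hc
      have : K ⊆ {0, 1} := fun x hx => by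
        rcases eq_or_ne x 0 with h | h
        · exact Or.inl h
        · exact Or.inr (hc x hx h)
      have := (Set.ncard_le_ncard this).trans (Set.ncard_pair (zero_ne_one (α := F))).le
      omega
    have kd := key d hdK
    have hl0 : lam ≠ 0 := fun e => hd0 (by rw [kd, e, zero_mul])
    have : sg F m d = d := mul_left_cancel₀ hl0 (by linear_combination -kd + d * k1)
    rcases sg_fix hP.card this with h | h
    · exact hd0 h
    · exact hd1 h
  have hPeq : P = K ×ˢ K := by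
    refine Set.eq_of_subset_of_ncard_le (fun p hp => ⟨hfst hp, hsnd hp⟩) ?_
    rw [Set.ncard_prod, hKz, hPcard]
  -- both inclusions
  refine le_antisymm (fun g hg => ?_) (fun g hg => ?_)
  · have hst : M ⊓ stabilizer (Gp F m) (pinf F m) ≤ fieldSub F m (2 * k + 1) := by
      set L := M ⊓ stabilizer (Gp F m) (pinf F m) with hL
      refine inf_eq_left.1 (Subgroup.eq_of_le_of_card_ge (inf_le_left : L ⊓ fieldSub F m (2 * k + 1) ≤ L) ?_)
      refine Nat.le_of_dvd Nat.card_pos ?_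
      rw [hstab]
      have hU' : M ⊓ grpU F m ≤ L ⊓ fieldSub F m (2 * k + 1) := by
        rintro _ ⟨hu, a, b, rfl⟩
        exact ⟨⟨hu, gT_smul_pinf a b⟩, gT_mem_fieldSub (hfst hu) (hsnd hu)⟩
      have hH' : M ⊓ grpH F m ≤ L ⊓ fieldSub F m (2 * k + 1) := by
        rintro _ ⟨hu, t, rfl⟩
        exact ⟨⟨hu, gH_smul_pinf t⟩, gH_mem_fieldSub (htK t hu)⟩
      refine Nat.Coprime.mul_dvd_of_dvd_of_dvd ?_ (hS ▸ Subgroup.card_dvd_of_le hU')
        (hH ▸ Subgroup.card_dvd_of_le hH')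
      rw [← hS, ← hH]
      exact (coprime_grpU_sub M).coprime_dvd_right
        (natCard_grpH (F := F) (m := m) ▸ Subgroup.card_dvd_of_le inf_le_right)
    rcases pts_cases (g • pinf F m) with h | ⟨x, y, h⟩
    · exact hst ⟨hg, h⟩
    have hxy := hmem hg h
    have hW' := gW_mem_fieldSub (F := F) (m := m) (2 * k + 1)
    have h' := hst ⟨M.mul_mem (M.mul_mem hW (M.inv_mem hxy)) hg,
      show (gW F m * (gT x y)⁻¹ * g) • pinf F m = pinf F m by
        rw [mul_smul, mul_smul, h, show paff (m := m) x y = gT (m := m) x y • paff (m := m) (0 : F) 0 by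
          simp [gT_smul_paff], inv_smul_smul, gW_smul_zero]⟩
    have := mul_mem (mul_mem (gT_mem_fieldSub (m := m) (n := 2 * k + 1) (hfst hxy) (hsnd hxy)) hW') h'
    rwa [show gT (m := m) x y * gW F m * (gW F m * (gT x y)⁻¹ * g) =
      gT x y * (gW F m * gW F m) * (gT x y)⁻¹ * g by group, gW_mul_self, mul_one, mul_inv_cancel,
      one_mul] at this
  · have hT : ∀ {a b : F}, a ∈ K → b ∈ K → gT (m := m) a b ∈ M := fun {a b} ha hb =>
      (Set.ext_iff.1 hPeq (a, b)).2 ⟨ha, hb⟩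
    have hst : ∀ g ∈ fieldSub F m (2 * k + 1), g • pinf F m = pinf F m → g ∈ M := by
      intro g hg hgi
      obtain ⟨a, b, t, rfl⟩ := exists_eq_gT_mul_gH hgi
      obtain ⟨ha, hb, ht⟩ := borel_coords hg
      exact M.mul_mem (hT ha hb) (hHmem t ht)
    rcases pts_cases (g • pinf F m) with h | ⟨x, y, h⟩
    · exact hst g hg h
    obtain ⟨hx, hy⟩ := paff_coords hg h
    have h' := hst (gW F m * (gT x y)⁻¹ * g)
      (mul_mem (mul_mem (gW_mem_fieldSub _) (inv_mem (gT_mem_fieldSub hx hy))) hg) (by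
        rw [mul_smul, mul_smul, h, show paff (m := m) x y = gT (m := m) x y • paff (m := m) (0 : F) 0 by
          simp [gT_smul_paff], inv_smul_smul, gW_smul_zero])
    have := M.mul_mem (M.mul_mem (hT hx hy) hW) h'
    rwa [show gT (m := m) x y * gW F m * (gW F m * (gT x y)⁻¹ * g) =
      gT x y * (gW F m * gW F m) * (gT x y)⁻¹ * g by group, gW_mul_self, mul_one, mul_inv_cancel,
      one_mul] at this

theorem sq_units_surjective (t : Fˣ) : ∃ v : Fˣ, v * v = t := by
  have hinj : Function.Injective fun v : Fˣ => v * v := fun v w h => by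
    refine div_eq_one.1 (sq_eq_one (F := F) (m := m) ?_)
    rw [div_mul_div_comm]
    exact div_eq_one.2 h
  exact Finite.injective_iff_surjective.1 hinj t

theorem fieldSub_eq_top {k : ℕ} (hk : k = m) : fieldSub F m (2 * k + 1) = ⊤ := by
  subst hk
  refine eq_top_iff.2 fun g _ => mem_fieldSub.2 fun i j => ?_
  rw [← hP.card, FiniteField.pow_card]

/-- Every proper subgroup fixes a point, normalizes a torus, or is a subfield subgroup. -/
theorem classify_subgroup (hM : M ≠ ⊤) :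
    IsSmall M ∨ ∃ (g : Gp F m) (k : ℕ), 1 ≤ k ∧ k < m ∧ 2 * k + 1 ∣ 2 * m + 1 ∧
      M.map (MulAut.conj g).toMonoidHom = fieldSub F m (2 * k + 1) := by
  classical
  by_cases h2 : 2 ∣ Nat.card M
  swap; · exact Or.inl (small_of_odd M h2)
  -- move an involution into `U`
  have := Fact.mk Nat.prime_two
  obtain ⟨⟨i, hiM⟩, hio⟩ := exists_prime_orderOf_dvd_card' 2 h2
  rw [Subgroup.orderOf_mk] at hio
  obtain ⟨g1, hg1⟩ := exists_conj_mem_grpU (x := i) (k := 1) (by rw [hio, pow_one])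
  set M1 := M.map (MulAut.conj g1).toMonoidHom with hM1
  obtain ⟨u, hu, hsplit⟩ := exists_conj_split M1
  set M2 := M1.map (MulAut.conj u).toMonoidHom with hM2
  have hx2 : MeetsU M2 := ⟨u * (g1 * i * g1⁻¹) * u⁻¹, ⟨g1 * i * g1⁻¹, ⟨i, hiM, rfl⟩, rfl⟩,
    mul_mem (mul_mem hu hg1) (inv_mem hu), fun e => ne_one_of_prime Nat.prime_two hio
      (conj_eq_one_iff.1 (conj_eq_one_iff.1 e))⟩
  have hmap : ∀ (L : Subgroup (Gp F m)) (a b : Gp F m),
      (L.map (MulAut.conj a).toMonoidHom).map (MulAut.conj b).toMonoidHom =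
        L.map (MulAut.conj (b * a)).toMonoidHom := fun L a b => by
    ext y
    simp only [mem_map_conj]
    rw [show a⁻¹ * (b⁻¹ * y * b) * a = (b * a)⁻¹ * y * (b * a) by group]
  have hM2eq : M2 = M.map (MulAut.conj (u * g1)).toMonoidHom := hmap _ _ _
  have hsmall : IsSmall M2 → IsSmall M := by
    rintro (⟨p, hp⟩ | ⟨T, n, hT, hle⟩)
    · refine Or.inl ⟨(u * g1)⁻¹ • p, fun y hy => ?_⟩
      have := mem_stabilizer_iff.1 (hp (hM2eq ▸ ⟨y, hy, rfl⟩ : u * g1 * y * (u * g1)⁻¹ ∈ M2))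
      rw [mem_stabilizer_iff, eq_inv_smul_iff, ← mul_smul, ← mul_smul]
      exact this
    · set g := (u * g1)⁻¹ with hg
      refine Or.inr ⟨T.map (MulAut.conj g).toMonoidHom, n, ⟨hT.tor.map_conj g, ?_, ?_, ?_⟩, ?_⟩
      · rcases hT.maxNil with ⟨a, rfl⟩ | ⟨a, rfl⟩ | ⟨x, hx, rfl⟩
        · exact Or.inl ⟨g * a, hmap _ _ _⟩
        · exact Or.inr (Or.inl ⟨g * a, hmap _ _ _⟩)
        · refine Or.inr (Or.inr ⟨g * x * g⁻¹, ?_, ?_⟩)
          · obtain ⟨p, hp, hd, ho⟩ := hx
            exact ⟨p, hp, hd, by rw [CfsgLib.Ree.orderOf_conj', ho]⟩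
          · ext y; rw [mem_map_conj, CfsgLib.Ree.centralizer_conj_iff]
      · intro h
        rw [Subgroup.card_map_of_injective (f := (MulAut.conj g).toMonoidHom) (MulAut.conj g).injective,
          hT.split h]
      · intro h
        rw [Subgroup.card_map_of_injective (f := (MulAut.conj g).toMonoidHom) (MulAut.conj g).injective]
        exact hT.nonsplit h
      · intro y hy
        rw [← Subgroup.map_equiv_normalizer_eq]
        refine ⟨g⁻¹ * y * g, hle (hM2eq ▸ ⟨y, hy, ?_⟩), show g * (g⁻¹ * y * g) * g⁻¹ = y by group⟩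
        show u * g1 * y * (u * g1)⁻¹ = g⁻¹ * y * g
        rw [hg, inv_inv]
  by_cases hns : M2 ≤ stabilizer (Gp F m) (pinf F m)
  · exact Or.inl (hsmall (Or.inl ⟨_, hns⟩))
  rcases (show Nat.card ↥(M2 ⊓ grpH F m) = 1 ∨ 1 < Nat.card ↥(M2 ⊓ grpH F m) by
    have : 0 < Nat.card ↥(M2 ⊓ grpH F m) := Nat.card_pos
    omega) with h1 | h1
  · rw [h1, mul_one] at hsplit
    exact Or.inl (hsmall (small_of_self_normalizing hx2 hsplit))
  obtain ⟨⟨w, hwM, hwN, hwH⟩, horb, hS, hH, hh5⟩ := big_params hx2 hsplit h1 hns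
  obtain ⟨t, ht⟩ := ((mem_normalizer_grpH_iff w).1 hwN).resolve_left hwH
  obtain ⟨v, hv⟩ := sq_units_surjective (F := F) (m := m) t
  -- normalize the inversion
  set f := (MulAut.conj (gH (m := m) v)).toMonoidHom with hf
  have hinj : Function.Injective f := (MulAut.conj (gH (m := m) v)).injective
  set M3 := M2.map f with hM3
  have hfix : ∀ L : Subgroup (Gp F m),
      (∀ (s : Fˣ), ∀ y ∈ L, gH s * y * (gH s)⁻¹ ∈ L) → L.map f = L := fun L hL =>
    le_antisymm (by rintro _ ⟨y, hy, rfl⟩; exact hL v y hy) fun y hy =>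
      ⟨(gH v)⁻¹ * y * gH v, by simpa using hL v⁻¹ y hy,
        show gH v * ((gH v)⁻¹ * y * gH v) * (gH v)⁻¹ = y by group⟩
  have hcard : ∀ L : Subgroup (Gp F m),
      (∀ (s : Fˣ), ∀ y ∈ L, gH s * y * (gH s)⁻¹ ∈ L) →
      Nat.card ↥(M3 ⊓ L) = Nat.card ↥(M2 ⊓ L) := fun L hL => by
    conv_lhs => rw [← hfix L hL]
    rw [hM3, ← Subgroup.map_inf _ _ f hinj, Subgroup.card_map_of_injective hinj]
  have cU : ∀ (s : Fˣ), ∀ y ∈ grpU F m, gH s * y * (gH s)⁻¹ ∈ grpU F m := fun s y hy =>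
    grpU_conj_mem hy (gH_smul_pinf s)
  have cH : ∀ (s : Fˣ), ∀ y ∈ grpH F m, gH s * y * (gH s)⁻¹ ∈ grpH F m := fun s y hy =>
    mul_mem (mul_mem (gH_mem s) hy) (inv_mem (gH_mem s))
  have cZ : ∀ (s : Fˣ), ∀ y ∈ grpZ F m, gH s * y * (gH s)⁻¹ ∈ grpZ F m := by
    rintro s _ ⟨b, rfl⟩; exact ⟨_, gH_conj_zero s b⟩
  have cS : ∀ (s : Fˣ), ∀ y ∈ stabilizer (Gp F m) (pinf F m),
      gH s * y * (gH s)⁻¹ ∈ stabilizer (Gp F m) (pinf F m) := fun s y hy =>
    mul_mem (mul_mem (gH_smul_pinf s) hy) (inv_mem (gH_smul_pinf s))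
  have hW3 : gW F m ∈ M3 := by
    refine ⟨w, hwM, ?_⟩
    have e : w = gW F m * gH t := by rw [ht, ← mul_assoc, gW_mul_self, one_mul]
    show gH v * w * (gH v)⁻¹ = gW F m
    have e2 : gH (m := m) v * gW F m = gW F m * (gH v)⁻¹ := by
      have h1 := gW_conj_gH (F := F) (m := m) v
      rw [gW_inv] at h1
      rw [← h1]
      simp only [← mul_assoc, gW_mul_self, one_mul]
    rw [e, ← mul_assoc, e2, mul_assoc (gW F m), mul_assoc (gW F m), ← map_inv, ← map_mul, ← map_mul,
      show v⁻¹ * t * v⁻¹ = 1 by rw [← hv]; group, map_one, mul_one]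
  have horb3 : (orbInf M3).ncard = (orbInf M2).ncard := by
    rw [show orbInf M3 = (fun p => gH (m := m) v • p) '' orbInf M2 from ?_,
      Set.ncard_image_of_injective _ (MulAction.injective _)]
    ext p
    constructor
    · rintro ⟨_, ⟨y, hy, rfl⟩, rfl⟩
      refine ⟨y • pinf F m, ⟨y, hy, rfl⟩, ?_⟩
      show gH v • y • pinf F m = (gH v * y * (gH v)⁻¹) • pinf F m
      rw [mul_smul, mul_smul, ← map_inv, gH_smul_pinf]
    · rintro ⟨_, ⟨y, hy, rfl⟩, rfl⟩
      refine ⟨_, ⟨y, hy, rfl⟩, ?_⟩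
      show (gH v * y * (gH v)⁻¹) • pinf F m = gH v • y • pinf F m
      rw [mul_smul, mul_smul, ← map_inv, gH_smul_pinf]
  obtain ⟨k, hk1, hkd, hk⟩ := eq_fieldSub_of_params (M := M3) (z := Nat.card ↥(M2 ⊓ grpZ F m))
    (by omega) hW3 (by rw [hcard _ cS, hsplit, hS, hH]) (by rw [hcard _ cU, hS]) (hcard _ cZ)
    (by rw [hcard _ cH, hH]) (by rw [horb3, horb, hS])
  have hM3eq : M.map (MulAut.conj (gH v * (u * g1))).toMonoidHom = fieldSub F m (2 * k + 1) := by
    rw [← hmap, ← hM2eq]; exact hk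
  refine Or.inr ⟨_, k, hk1, ?_, hkd, hM3eq⟩
  rcases lt_trichotomy k m with h | h | h
  · exact h
  · exfalso
    apply hM
    have := hM3eq.trans (fieldSub_eq_top (F := F) (m := m) h)
    refine eq_top_iff.2 fun y _ => ?_
    obtain ⟨x, hx, hxy⟩ := this.symm.le (Subgroup.mem_top
      ((MulAut.conj (gH v * (u * g1))).toMonoidHom y))
    rwa [(MulAut.conj (gH (m := m) v * (u * g1))).injective hxy] at hx
  · have := Nat.le_of_dvd (by omega) hkd
    omega

end CfsgLib.Suzuki
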