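import Cfsg.Agent.Lib.Suzuki.SubgroupCases

/-!
# The Borel part and the involutions of a subgroup of a Suzuki group
-/

set_option autoImplicit false
set_option linter.unusedSectionVars false

namespace CfsgLib.Suzuki

open MulAction

/-- Counting the ordered pairs of involutions by their products. -/
theorem card_pairs {α : Type*} [Group α] [Finite α] (I A : Set α) (x : ℕ)
    (h : ∀ u ∈ A, {i | i ∈ I ∧ i⁻¹ * u ∈ I}.ncard = x) :
    {p : α × α | p.1 ∈ I ∧ p.2 ∈ I ∧ p.1 * p.2 ∈ A}.ncard = A.ncard * x := by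
  classical
  have e : {p : α × α | p.1 ∈ I ∧ p.2 ∈ I ∧ p.1 * p.2 ∈ A} ≃
      Σ u : A, {i | i ∈ I ∧ i⁻¹ * (u : α) ∈ I} :=
    { toFun := fun p => ⟨⟨p.1.1 * p.1.2, p.2.2.2⟩, ⟨p.1.1, p.2.1, by
        rw [inv_mul_cancel_left]; exact p.2.2.1⟩⟩
      invFun := fun q => ⟨(q.2.1, q.2.1⁻¹ * q.1.1), q.2.2.1, q.2.2.2, by
        show q.2.1 * (q.2.1⁻¹ * q.1.1) ∈ A
        rw [mul_inv_cancel_left]; exact q.1.2⟩
      left_inv := fun p => by simp
      right_inv := fun q => by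
        obtain ⟨⟨u, hu⟩, ⟨i, hi⟩⟩ := q
        refine Sigma.subtype_ext (Subtype.ext ?_) rfl
        simp }
  haveI := Fintype.ofFinite α
  rw [← Nat.card_coe_set_eq, Nat.card_congr e, Nat.card_sigma]
  simp only [Nat.card_coe_set_eq]
  rw [Finset.sum_congr rfl fun u _ => h u.1 u.2, Finset.sum_const, Finset.card_univ,
    smul_eq_mul, ← Nat.card_eq_fintype_card, Nat.card_coe_set_eq]

variable {F : Type*} [Field F] [Fintype F] [CharP F 2] {m : ℕ} [hP : Param F m]

include hP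

theorem gW_smul_paff {x y : F} (h : ¬(x = 0 ∧ y = 0)) :
    gW F m • paff (m := m) x y = paff (y / ov m x y) (x / ov m x y) :=
  Subtype.ext (ww_smul_pt hP.card h)

theorem stab_comm_mem {c d : Gp F m} (hc : c • pinf F m = pinf F m) (hd : d • pinf F m = pinf F m) :
    c * d * (d * c)⁻¹ ∈ grpU F m := by
  obtain ⟨a, b, t, rfl⟩ := exists_eq_gT_mul_gH hc
  obtain ⟨a', b', t', rfl⟩ := exists_eq_gT_mul_gH hd
  have h1 : ∀ (s : Fˣ) (x y : F), gH s * gT (m := m) x y * (gH s)⁻¹ ∈ grpU F m := fun s x y =>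
    grpU_conj_mem (gT_mem x y) (gH_smul_pinf s)
  have e : gT a b * gH t * (gT a' b' * gH t') * (gT a' b' * gH t' * (gT (m := m) a b * gH t))⁻¹ =
      gT a b * (gH t * gT a' b' * (gH t)⁻¹) *
        (gH t * gH t' * (gH t)⁻¹ * (gH t')⁻¹) *
        (gH t' * gT a b * (gH t')⁻¹)⁻¹ * (gT a' b')⁻¹ := by group
  rw [e, show gH (m := m) t * gH t' * (gH t)⁻¹ * (gH t')⁻¹ = 1 by
    rw [← map_mul, mul_comm t t', map_mul]; group, mul_one]
  exact mul_mem (mul_mem (mul_mem (gT_mem a b) (h1 _ _ _)) (inv_mem (h1 _ _ _)))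
    (inv_mem (gT_mem a' b'))

variable (M : Subgroup (Gp F m))

theorem card_stab_eq : ∃ e, e ∣ Fintype.card F - 1 ∧
    Nat.card ↥(M ⊓ stabilizer (Gp F m) (pinf F m)) = e * Nat.card ↥(M ⊓ grpU F m) :=
  exists_card_inf_eq M (by rintro _ ⟨a, b, rfl⟩; exact gT_smul_pinf a b)
    (fun a ha c hc => grpU_conj_mem hc (mem_stabilizer_iff.1 ha))
    (by rw [natCard_stab, natCard_grpU]; ring)

theorem coprime_grpU_sub : (Nat.card ↥(M ⊓ grpU F m)).Coprime (Fintype.card F - 1) := by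
  refine Nat.Coprime.coprime_dvd_left (Subgroup.card_dvd_of_le inf_le_right) ?_
  rw [natCard_grpU, hP.card, ← pow_mul]
  exact (coprime_two_pow (F := F) (m := m) (hP.card ▸ odd_card_sub_one (F := F) (m := m))).symm

/-- After conjugation by a translation the Borel part splits along the torus. -/
theorem exists_conj_split :
    ∃ u ∈ grpU F m, Nat.card ↥(M.map (MulAut.conj u).toMonoidHom ⊓
      stabilizer (Gp F m) (pinf F m)) =
        Nat.card ↥(M.map (MulAut.conj u).toMonoidHom ⊓ grpU F m) *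
          Nat.card ↥(M.map (MulAut.conj u).toMonoidHom ⊓ grpH F m) := by
  classical
  obtain ⟨e, hedvd, he⟩ := card_stab_eq M
  set S := M ⊓ grpU F m with hS
  set P := M ⊓ stabilizer (Gp F m) (pinf F m) with hPdef
  have hSP : S ≤ P := le_inf inf_le_left
    (inf_le_right.trans (by rintro _ ⟨a, b, rfl⟩; exact gT_smul_pinf a b))
  haveI : (S.subgroupOf P).Normal := ⟨fun c hc a => ⟨M.mul_mem (M.mul_mem a.2.1 hc.1) (M.inv_mem a.2.1),
    grpU_conj_mem hc.2 (mem_stabilizer_iff.1 a.2.2)⟩⟩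
  have hcardS : Nat.card ↥(S.subgroupOf P) = Nat.card S :=
    Nat.card_congr (Subgroup.subgroupOfEquivOfLe hSP).toEquiv
  have hidx : (S.subgroupOf P).index = e := by
    have := (S.subgroupOf P).card_mul_index
    rw [hcardS, he, mul_comm e] at this
    exact Nat.eq_of_mul_eq_mul_left Nat.card_pos this
  obtain ⟨K, hK⟩ := Subgroup.exists_right_complement'_of_coprime (N := S.subgroupOf P)
    (by rw [hcardS, hidx]; exact (coprime_grpU_sub M).coprime_dvd_right hedvd)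
  have hKcard : Nat.card K = e := by rw [← hidx, hK.symm.index_eq_card]
  set C := K.map P.subtype with hC
  have hCcard : Nat.card C = e := by
    rw [hC, Subgroup.card_map_of_injective P.subtype_injective, hKcard]
  have hCP : C ≤ P := by rintro _ ⟨c, -, rfl⟩; exact c.2
  have hCU : ∀ c ∈ C, c ∈ grpU F m → c = 1 := by
    intro c hc hcU
    exact orderOf_eq_one_iff.1 (Nat.eq_one_of_dvd_coprimes
      ((coprime_grpU_sub M).coprime_dvd_right hedvd)
      (Subgroup.orderOf_dvd_natCard _ (show c ∈ S from ⟨(hCP hc).1, hcU⟩))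
      (hCcard ▸ Subgroup.orderOf_dvd_natCard _ hc))
  have hCab : ∀ c ∈ C, ∀ d ∈ C, c * d = d * c := fun c hc d hd =>
    mul_inv_eq_one.1 (hCU _ (mul_mem (mul_mem hc hd) (inv_mem (mul_mem hd hc)))
      (stab_comm_mem (mem_stabilizer_iff.1 (hCP hc).2) (mem_stabilizer_iff.1 (hCP hd).2)))
  obtain ⟨u, huU, hu0⟩ : ∃ u ∈ grpU F m, ∀ c ∈ C, u * c * u⁻¹ ∈ grpH F m := by
    rcases C.bot_or_exists_ne_one with h0 | ⟨c, hc, hc1⟩
    · exact ⟨1, one_mem _, fun c hc => by
        rw [h0, Subgroup.mem_bot] at hc; subst hc; simp⟩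
    have hord : orderOf c ∣ Fintype.card F - 1 :=
      (hCcard ▸ Subgroup.orderOf_dvd_natCard _ hc).trans hedvd
    obtain ⟨X, hX, hcX⟩ := exists_maxNil hc1
    rcases id hX with ⟨g, rfl⟩ | ⟨g, rfl⟩ | ⟨x, hx, rfl⟩
    · have h2 := Subgroup.orderOf_dvd_natCard _ hcX
      rw [Subgroup.card_map_of_injective (f := (MulAut.conj g).toMonoidHom) (MulAut.conj g).injective,
        natCard_grpU] at h2
      exact absurd (orderOf_eq_one_iff.1 (Nat.eq_one_of_dvd_coprimes
        ((coprime_card_sub_one (F := F) (m := m)).coprime_dvd_right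
          (dvd_mul_right _ _)) hord h2)) hc1
    · have hCT : ∀ d ∈ C, g⁻¹ * d * g ∈ grpH F m := by
        intro d hd
        rw [← mem_map_conj, ← ((tor_grpH (F := F) (m := m)).map_conj g).cent c hcX hc1]
        exact Subgroup.mem_centralizer_singleton_iff.2 (hCab d hd c hc)
      obtain ⟨t, ht⟩ := hCT c hc
      have ht1 : t ≠ 1 := fun e => hc1 (by
        rw [e, map_one] at ht
        exact conj_eq_one_iff.1 (show g⁻¹ * c * g⁻¹⁻¹ = 1 by rw [inv_inv]; exact ht.symm))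
      have hfix : gH (m := m) t • (g⁻¹ • pinf F m) = g⁻¹ • pinf F m := by
        rw [ht, mul_smul, mul_smul, smul_inv_smul, mem_stabilizer_iff.1 (hCP hc).2]
      have hH : ∀ d ∈ grpH F m, d • pinf F m = pinf F m ∧
          d • paff (m := m) (0 : F) 0 = paff 0 0 := by
        rintro _ ⟨s, rfl⟩; exact ⟨gH_smul_pinf s, by simp [gH_smul_paff]⟩
      obtain ⟨p, hp, hpd⟩ : ∃ p : Pts F m, p ≠ pinf F m ∧ ∀ d ∈ C, d • p = p := by
        rcases gH_fix ht1 hfix with h | h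
        · refine ⟨g • paff 0 0, fun e => ?_, fun d hd => ?_⟩
          · rw [← eq_inv_smul_iff, h] at e
            exact paff_ne_pinf _ _ e
          · have := (hH _ (hCT d hd)).2
            rwa [mul_smul, mul_smul, inv_smul_eq_iff] at this
        · refine ⟨g • pinf F m, fun e => ?_, fun d hd => ?_⟩
          · rw [← eq_inv_smul_iff, h] at e
            exact paff_ne_pinf _ _ e.symm
          · have := (hH _ (hCT d hd)).1
            rwa [mul_smul, mul_smul, inv_smul_eq_iff] at this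
      obtain ⟨a, b, hab⟩ := exists_gT_smul p hp
      refine ⟨(gT a b)⁻¹, inv_mem (gT_mem a b), fun d hd => mem_stab_two ?_ ?_⟩
      · rw [inv_inv, mul_smul, mul_smul, gT_smul_pinf, mem_stabilizer_iff.1 (hCP hd).2,
          inv_smul_eq_iff, gT_smul_pinf]
      · rw [inv_inv, mul_smul, mul_smul, hab, hpd d hd, inv_smul_eq_iff, hab]
    · exact absurd (orderOf_eq_one_iff.1 (Nat.eq_one_of_dvd_coprimes (coprime_sq (F := F) (m := m))
        hord ((Subgroup.orderOf_dvd_natCard _ hcX).trans hx.card_cent_dvd))) hc1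
  refine ⟨u, huU, ?_⟩
  have hui : u • pinf F m = pinf F m := by obtain ⟨a, b, rfl⟩ := huU; exact gT_smul_pinf a b
  set f := (MulAut.conj u).toMonoidHom with hf
  have hinj : Function.Injective f := (MulAut.conj u).injective
  have hmU : (grpU F m).map f = grpU F m :=
    le_antisymm (by rintro _ ⟨y, hy, rfl⟩; exact mul_mem (mul_mem huU hy) (inv_mem huU))
      fun y hy => ⟨u⁻¹ * y * u, mul_mem (mul_mem (inv_mem huU) hy) huU,
        show u * (u⁻¹ * y * u) * u⁻¹ = y by group⟩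
  have hmS : (stabilizer (Gp F m) (pinf F m)).map f = stabilizer (Gp F m) (pinf F m) := by
    rw [hf, ← stabilizer_smul_eq_stabilizer_map_conj, hui]
  have e1 : Nat.card ↥(M.map f ⊓ stabilizer (Gp F m) (pinf F m)) = e * Nat.card S := by
    rw [← hmS, ← Subgroup.map_inf _ _ f hinj, Subgroup.card_map_of_injective hinj, he]
  have e2 : Nat.card ↥(M.map f ⊓ grpU F m) = Nat.card S := by
    rw [← hmU, ← Subgroup.map_inf _ _ f hinj, Subgroup.card_map_of_injective hinj]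
  rw [e1, e2, mul_comm]
  congr 1
  refine Nat.dvd_antisymm ?_ ?_
  · rw [← hCcard, ← Subgroup.card_map_of_injective hinj]
    exact Subgroup.card_dvd_of_le (le_inf (Subgroup.map_mono (hCP.trans inf_le_left))
      (by rintro _ ⟨c, hc, rfl⟩; exact hu0 c hc))
  · refine Nat.Coprime.dvd_of_dvd_mul_right (n := Nat.card S) ?_ ?_
    · refine (Nat.Coprime.coprime_dvd_left (Subgroup.card_dvd_of_le inf_le_right) ?_)
      rw [natCard_grpH]
      exact (coprime_grpU_sub M).symm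
    · rw [← e1]
      exact Subgroup.card_dvd_of_le (le_inf inf_le_left (inf_le_right.trans
        (by rintro _ ⟨s, rfl⟩; exact gH_smul_pinf s)))

/-! ### Involutions -/

/-- The involutions of `M`. -/
def invols : Set (Gp F m) := {i | i ∈ M ∧ i * i = 1 ∧ i ≠ 1}

/-- The involutions of `M` with product `u` with another one. -/
def fib (u : Gp F m) : Set (Gp F m) := {i | i ∈ invols M ∧ i * u ∈ invols M}

variable {M}

theorem mem_grpZ_iff {i : Gp F m} : i ∈ grpZ F m ↔ i ∈ grpU F m ∧ i * i = 1 := by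
  constructor
  · rintro ⟨b, rfl⟩
    exact ⟨gT_mem 0 b, by rw [gT_sq]; simp [gT_zero]⟩
  · rintro ⟨hU, h2⟩
    exact sq_eq_one_grpU hU (by rw [pow_two, h2])

theorem conj_mem_invols {c i : Gp F m} (hc : c ∈ M) (hi : i ∈ invols M) :
    c * i * c⁻¹ ∈ invols M :=
  ⟨mul_mem (mul_mem hc hi.1) (inv_mem hc), by
    rw [show c * i * c⁻¹ * (c * i * c⁻¹) = c * (i * i) * c⁻¹ by group, hi.2.1]; group,
    fun e => hi.2.2 (conj_eq_one_iff.1 e)⟩

theorem MeetsU.invols_eq (hx : MeetsU M) : invols M = cls M (grpZ F m) := by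
  obtain ⟨x, hxM, hxU, hx1⟩ := hx
  ext i
  constructor
  · rintro ⟨hiM, hi2, hi1⟩
    obtain ⟨g, hg⟩ := exists_conj_mem_grpU (x := i) (k := 1)
      (by rw [pow_one]; exact orderOf_eq_prime (by rw [pow_two, hi2]) hi1)
    obtain ⟨-, -, c, hc, hcU⟩ := mem_cls_grpU M hxM hxU hx1 hiM hi1 hg
    refine ⟨hiM, hi1, c, hc, mem_grpZ_iff.2 ⟨hcU, ?_⟩⟩
    rw [show c * i * c⁻¹ * (c * i * c⁻¹) = c * (i * i) * c⁻¹ by group, hi2]; group
  · rintro ⟨hiM, hi1, c, -, hcZ⟩
    refine ⟨hiM, ?_, hi1⟩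
    have := (mem_grpZ_iff.1 hcZ).2
    rw [show c * i * c⁻¹ * (c * i * c⁻¹) = c * (i * i) * c⁻¹ by group, conj_eq_one_iff] at this
    exact this

theorem MeetsU.card_invols (hx : MeetsU M) :
    (invols M).ncard * Nat.card ↥(M ⊓ stabilizer (Gp F m) (pinf F m)) =
      Nat.card M * (Nat.card ↥(M ⊓ grpZ F m) - 1) := by
  rw [hx.invols_eq]
  refine card_cls M _ _ (fun h _ hh g hg => ?_) fun h _ g hg h1 hhg => ?_
  · obtain ⟨hgU, hg2⟩ := mem_grpZ_iff.1 hg
    refine mem_grpZ_iff.2 ⟨grpU_conj_mem hgU (mem_stabilizer_iff.1 hh), ?_⟩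
    rw [show h * g * h⁻¹ * (h * g * h⁻¹) = h * (g * g) * h⁻¹ by group, hg2]; group
  · obtain ⟨a, b, rfl⟩ := (mem_grpZ_iff.1 hg).1
    refine mem_stabilizer_iff.2 (grpU_fix (mem_grpZ_iff.1 hhg).1
      (conj_ne_one (F := F) (m := m) h1 h) ?_)
    rw [mul_smul, mul_smul, inv_smul_smul, gT_smul_pinf]

theorem ncard_fib_conj {c : Gp F m} (hc : c ∈ M) (u : Gp F m) :
    (fib M (c * u * c⁻¹)).ncard = (fib M u).ncard := by
  rw [show fib M (c * u * c⁻¹) = (fun i => c * i * c⁻¹) '' fib M u from ?_,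
    Set.ncard_image_of_injective _
      (show Function.Injective fun i : Gp F m => c * i * c⁻¹ from
        fun _ _ h => mul_left_cancel (mul_right_cancel h))]
  ext i
  constructor
  · rintro ⟨h1, h2⟩
    refine ⟨c⁻¹ * i * c, ⟨?_, ?_⟩, show c * (c⁻¹ * i * c) * c⁻¹ = i by group⟩
    · simpa using conj_mem_invols (inv_mem hc) h1
    · have := conj_mem_invols (inv_mem hc) h2
      rwa [inv_inv, show c⁻¹ * (i * (c * u * c⁻¹)) * c = c⁻¹ * i * c * u by group] at this
  · rintro ⟨j, ⟨h1, h2⟩, rfl⟩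
    refine ⟨conj_mem_invols hc h1, ?_⟩
    have := conj_mem_invols hc h2
    rwa [show c * (j * u) * c⁻¹ = c * j * c⁻¹ * (c * u * c⁻¹) by group] at this

theorem ncard_fib_torus {T : Subgroup (Gp F m)} {n : ℕ} (hT : Tor T n) {u : Gp F m} (huM : u ∈ M)
    (huT : u ∈ T) (hu1 : u ≠ 1)
    (heven : 2 ∣ Nat.card ↥(M ⊓ Subgroup.normalizer (T : Set (Gp F m)))) :
    (fib M u).ncard = Nat.card ↥(M ⊓ T) := by
  have := Fact.mk Nat.prime_two
  obtain ⟨⟨t, htM, htN⟩, ho⟩ := exists_prime_orderOf_dvd_card' 2 heven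
  replace ho : orderOf t = 2 := (Subgroup.orderOf_coe _).trans ho
  have ht2 : t * t = 1 := by rw [← pow_two, ← ho]; exact pow_orderOf_eq_one t
  have ht1 : t ≠ 1 := ne_one_of_prime Nat.prime_two ho
  have hne : T ≠ ⊥ := fun e => hu1 (Subgroup.mem_bot.1 (e ▸ huT))
  have e : fib M u = (fun c => c * t) '' ((M ⊓ T : Subgroup (Gp F m)) : Set (Gp F m)) := by
    ext i
    constructor
    · rintro ⟨⟨hiM, hi2, hi1⟩, ⟨-, hj2, -⟩⟩
      have hinv : i * u * i = u⁻¹ := by
        refine eq_inv_of_mul_eq_one_left ?_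
        rw [show i * u * i * u = i * u * (i * u) by group]; exact hj2
      have hiN : i ∈ Subgroup.normalizer (T : Set (Gp F m)) := torus_cls_TI hT huT hu1 (by
        rw [inv_eq_of_mul_eq_one_right hi2, hinv]; exact inv_mem huT)
      obtain ⟨c, hc, rfl⟩ := (Set.ext_iff.1 (hT.invol_coset hne htN ht2 ht1) i).1 ⟨hiN, hi2, hi1⟩
      exact ⟨c, ⟨(M.mul_mem_cancel_right htM).1 hiM, hc⟩, rfl⟩
    · rintro ⟨c, ⟨hcM, hcT⟩, rfl⟩
      obtain ⟨hiN, hi2, hi1⟩ := (Set.ext_iff.1 (hT.invol_coset hne htN ht2 ht1) (c * t)).2 ⟨c, hcT, rfl⟩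
      refine ⟨⟨mul_mem hcM htM, hi2, hi1⟩, mul_mem (mul_mem hcM htM) huM, ?_, fun e => ?_⟩
      · rw [show c * t * u * (c * t * u) = c * t * u * (c * t) * u by group,
          hT.invert hiN hi2 hi1 huT, inv_mul_cancel]
      · have hiT : c * t ∈ T := by
          rw [show c * t = u⁻¹ from eq_inv_of_mul_eq_one_left e]; exact inv_mem huT
        exact hi1 (hT.eq_one_of_sq hiT hi2)
  rw [e, Set.ncard_image_of_injective _ (mul_left_injective t), ← Nat.card_coe_set_eq]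
  rfl

/-- Outside the tori, an involution pairs only with the involutions of its Sylow subgroup. -/
theorem MeetsU.ncard_pairs_unipotent (hx : MeetsU M) {i : Gp F m} (hi : i ∈ invols M) :
    {j | j ∈ invols M ∧ (i * j = 1 ∨ i * j ∈ cls M (grpU F m))}.ncard + 1 =
      Nat.card ↥(M ⊓ grpZ F m) := by
  obtain ⟨-, -, c, hc, hcZ⟩ := hx.invols_eq ▸ hi
  set i' := c * i * c⁻¹ with hi'
  have hi'I : i' ∈ invols M := conj_mem_invols hc hi
  have hconjU : ∀ {d y : Gp F m}, d ∈ M → y ∈ cls M (grpU F m) → d * y * d⁻¹ ∈ cls M (grpU F m) := by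
    rintro d y hd ⟨hy, hy1, k, hk, hky⟩
    refine ⟨mul_mem (mul_mem hd hy) (inv_mem hd), fun e => hy1 (conj_eq_one_iff.1 e), k * d⁻¹,
      mul_mem hk (inv_mem hd), ?_⟩
    rwa [show k * d⁻¹ * (d * y * d⁻¹) * (k * d⁻¹)⁻¹ = k * y * k⁻¹ by group]
  have e1 : {j | j ∈ invols M ∧ (i' * j = 1 ∨ i' * j ∈ cls M (grpU F m))} =
      ((M ⊓ grpZ F m : Subgroup (Gp F m)) : Set (Gp F m)) \ {1} := by
    ext j
    constructor
    · rintro ⟨⟨hjM, hj2, hj1⟩, h⟩
      refine ⟨⟨hjM, ?_⟩, hj1⟩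
      rcases h with h | ⟨-, hu1, d, hd, hdu⟩
      · rw [show j = i'⁻¹ from eq_inv_of_mul_eq_one_right h]; exact (grpZ F m).inv_mem hcZ
      · have hd' : (d * i' * d⁻¹) • pinf F m = pinf F m := by
          refine grpU_fix hdu (conj_ne_one (F := F) (m := m) hu1 d) ?_
          have h3 : d * (i' * j) * d⁻¹ * (d * i' * d⁻¹) = d * i' * d⁻¹ * (d * (i' * j) * d⁻¹)⁻¹ := by
            rw [show (d * (i' * j) * d⁻¹)⁻¹ = d * (j⁻¹ * i'⁻¹) * d⁻¹ by group,
              inv_eq_of_mul_eq_one_right hj2, inv_eq_of_mul_eq_one_right hi'I.2.1]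
            group
          obtain ⟨a, b, hab⟩ := inv_mem hdu
          rw [← mul_smul, h3, mul_smul, hab, gT_smul_pinf]
        obtain ⟨a, b, hab⟩ := (mem_grpZ_iff.1 hcZ).1
        have hdi : d • pinf F m = pinf F m := by
          have h4 : i' • d⁻¹ • pinf F m = d⁻¹ • pinf F m := by
            rw [eq_inv_smul_iff, ← mul_smul, ← mul_smul, hd']
          exact (inv_smul_eq_iff.1 (grpU_fix (mem_grpZ_iff.1 hcZ).1 hi'I.2.2 h4)).symm
        have hu : i' * j ∈ grpU F m := by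
          have := grpU_conj_mem hdu (g := d⁻¹) (inv_smul_eq_iff.2 hdi.symm)
          rwa [inv_inv, show d⁻¹ * (d * (i' * j) * d⁻¹) * d = i' * j by group] at this
        exact mem_grpZ_iff.2 ⟨((grpU F m).mul_mem_cancel_left (mem_grpZ_iff.1 hcZ).1).1 hu, hj2⟩
    · rintro ⟨⟨hjM, hjZ⟩, hj1⟩
      refine ⟨⟨hjM, (mem_grpZ_iff.1 hjZ).2, hj1⟩, ?_⟩
      by_cases h : i' * j = 1
      · exact Or.inl h
      · exact Or.inr (mem_cls_self (mul_mem hi'I.1 hjM) h (mem_grpZ_iff.1 (mul_mem hcZ hjZ)).1)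
  have e2 : {j | j ∈ invols M ∧ (i' * j = 1 ∨ i' * j ∈ cls M (grpU F m))} =
      (fun j => c * j * c⁻¹) '' {j | j ∈ invols M ∧ (i * j = 1 ∨ i * j ∈ cls M (grpU F m))} := by
    ext j
    constructor
    · rintro ⟨hj, h⟩
      refine ⟨c⁻¹ * j * c, ⟨by simpa using conj_mem_invols (inv_mem hc) hj, ?_⟩,
        show c * (c⁻¹ * j * c) * c⁻¹ = j by group⟩
      rw [show i * (c⁻¹ * j * c) = c⁻¹ * (i' * j) * c⁻¹⁻¹ by rw [hi']; group]
      exact h.imp (fun h => by rw [h]; group) (hconjU (inv_mem hc))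
    · rintro ⟨k, ⟨hk, h⟩, rfl⟩
      refine ⟨conj_mem_invols hc hk, ?_⟩
      rw [show i' * (c * k * c⁻¹) = c * (i * k) * c⁻¹ by rw [hi']; group]
      exact h.imp (fun h => by rw [h]; group) (hconjU hc)
  have h : ((M ⊓ grpZ F m : Subgroup (Gp F m)) : Set (Gp F m)).ncard =
      Nat.card ↥(M ⊓ grpZ F m) := rfl
  rw [← h, ← Set.ncard_sdiff_singleton_add_one (a := (1 : Gp F m)) (one_mem _), ← e1, e2,
    Set.ncard_image_of_injective _
      (show Function.Injective fun i : Gp F m => c * i * c⁻¹ from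
        fun _ _ h => mul_left_cancel (mul_right_cancel h))]

end CfsgLib.Suzuki
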